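import Groth.Agent.KFlatLib.Bifunctor
import Mathlib.Algebra.Homology.Additive

/-!
# Functors commuting with a bifunctor commute with the total complex
-/

set_option linter.style.haveILetI false

universe v₁ u₁ v₂ u₂ v u v₁' u₁' v₂' u₂' v' u'

open CategoryTheory CategoryTheory.Limits

namespace Groth.Agent.KFlatLib

variable {A₁ : Type u₁} [Category.{v₁} A₁] [Preadditive A₁]
  {A₂ : Type u₂} [Category.{v₂} A₂] [Preadditive A₂]
  {A : Type u} [Category.{v} A] [Abelian A] [∀ S : Type, HasColimitsOfShape (Discrete S) A]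
  {B₁ : Type u₁'} [Category.{v₁'} B₁] [Preadditive B₁]
  {B₂ : Type u₂'} [Category.{v₂'} B₂] [Preadditive B₂]
  {B : Type u'} [Category.{v'} B] [Abelian B] [∀ S : Type, HasColimitsOfShape (Discrete S) B]
  {Φ₁ : A₁ ⥤ B₁} {Φ₂ : A₂ ⥤ B₂} {Ψ : A ⥤ B} [Φ₁.Additive] [Φ₂.Additive] [Ψ.Additive]
  {T : A₁ ⥤ A₂ ⥤ A} [T.Additive] [∀ X, (T.obj X).Additive]
  {T' : B₁ ⥤ B₂ ⥤ B} [T'.Additive] [∀ X, (T'.obj X).Additive]
  (θ : T ⋙ (Functor.whiskeringRight A₂ A B).obj Ψ ≅
    Φ₁ ⋙ T' ⋙ (Functor.whiskeringLeft A₂ B₂ B).obj Φ₂)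
  (L : CochainComplex A₁ ℤ) (K : CochainComplex A₂ ℤ)

/-- The component of `θ` on a summand, followed by the inclusion of the summand. -/
noncomputable abbrev totalMapι (p q n : ℤ) (h : p + q = n) :
    (T'.obj (Φ₁.obj (L.X p))).obj (Φ₂.obj (K.X q)) ⟶
      Ψ.obj ((HomologicalComplex.mapBifunctor L K T (ComplexShape.up ℤ)).X n) :=
  (θ.inv.app (L.X p)).app (K.X q) ≫
    Ψ.map (HomologicalComplex.ιMapBifunctor L K T (ComplexShape.up ℤ) p q n h)

/-- The comparison map of total complexes. -/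
noncomputable def totalMapHom :
    (T'.map₂CochainComplex.obj ((Φ₁.mapHomologicalComplex (ComplexShape.up ℤ)).obj L)).obj
      ((Φ₂.mapHomologicalComplex (ComplexShape.up ℤ)).obj K) ⟶
    (Ψ.mapHomologicalComplex (ComplexShape.up ℤ)).obj ((T.map₂CochainComplex.obj L).obj K) where
  f n := HomologicalComplex.mapBifunctorDesc (fun p q h => totalMapι θ L K p q n h)
  comm' n n' hn := by
    refine HomologicalComplex.mapBifunctor.hom_ext (fun p q h => ?_)
    change p + q = n at h
    obtain rfl : n + 1 = n' := hn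
    erw [HomologicalComplex.ι_mapBifunctorDesc_assoc]
    change ((θ.inv.app (L.X p)).app (K.X q) ≫
        Ψ.map (HomologicalComplex.ιMapBifunctor L K T (ComplexShape.up ℤ) p q n h)) ≫
          Ψ.map ((HomologicalComplex.mapBifunctor L K T (ComplexShape.up ℤ)).d n (n + 1)) =
      HomologicalComplex.ιMapBifunctor ((Φ₁.mapHomologicalComplex (ComplexShape.up ℤ)).obj L)
          ((Φ₂.mapHomologicalComplex (ComplexShape.up ℤ)).obj K) T' (ComplexShape.up ℤ) p q n h ≫
        (HomologicalComplex.mapBifunctor ((Φ₁.mapHomologicalComplex (ComplexShape.up ℤ)).obj L)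
          ((Φ₂.mapHomologicalComplex (ComplexShape.up ℤ)).obj K) T' (ComplexShape.up ℤ)).d n (n + 1) ≫ _
    rw [Category.assoc, ← Ψ.map_comp, HomologicalComplex.mapBifunctor.d_eq,
      HomologicalComplex.mapBifunctor.d_eq]
    simp only [Preadditive.comp_add, Preadditive.add_comp, Functor.map_add,
      HomologicalComplex.mapBifunctor.ι_D₁, HomologicalComplex.mapBifunctor.ι_D₂,
      HomologicalComplex.mapBifunctor.ι_D₁_assoc, HomologicalComplex.mapBifunctor.ι_D₂_assoc]
    rw [HomologicalComplex.mapBifunctor.d₁_eq _ _ _ _ (show (ComplexShape.up ℤ).Rel p (p + 1) from rfl)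
        q (n + 1) (show p + 1 + q = n + 1 by omega),
      HomologicalComplex.mapBifunctor.d₁_eq _ _ _ _ (show (ComplexShape.up ℤ).Rel p (p + 1) from rfl)
        q (n + 1) (show p + 1 + q = n + 1 by omega),
      HomologicalComplex.mapBifunctor.d₂_eq _ _ _ _ p (show (ComplexShape.up ℤ).Rel q (q + 1) from rfl)
        (n + 1) (show p + (q + 1) = n + 1 by omega),
      HomologicalComplex.mapBifunctor.d₂_eq _ _ _ _ p (show (ComplexShape.up ℤ).Rel q (q + 1) from rfl)
        (n + 1) (show p + (q + 1) = n + 1 by omega)]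
    simp only [Units.smul_def, Functor.map_zsmul, Functor.map_comp, Linear.comp_smul,
      Linear.smul_comp, Category.assoc, Functor.mapHomologicalComplex_obj_d]
    erw [HomologicalComplex.ι_mapBifunctorDesc, HomologicalComplex.ι_mapBifunctorDesc]
    have e₁ : (θ.inv.app (L.X p)).app (K.X q) ≫ Ψ.map ((T.map (L.d p (p + 1))).app (K.X q)) =
        (T'.map (Φ₁.map (L.d p (p + 1)))).app (Φ₂.obj (K.X q)) ≫
          (θ.inv.app (L.X (p + 1))).app (K.X q) :=
      (NatTrans.congr_app (θ.inv.naturality (L.d p (p + 1))) (K.X q)).symm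
    have e₂ : (θ.inv.app (L.X p)).app (K.X q) ≫ Ψ.map ((T.obj (L.X p)).map (K.d q (q + 1))) =
        (T'.obj (Φ₁.obj (L.X p))).map (Φ₂.map (K.d q (q + 1))) ≫
          (θ.inv.app (L.X p)).app (K.X (q + 1)) :=
      ((θ.inv.app (L.X p)).naturality (K.d q (q + 1))).symm
    simp only [totalMapι, reassoc_of% e₁, reassoc_of% e₂]
    rfl

@[reassoc]
lemma ι_totalMapHom (p q n : ℤ) (h : p + q = n) :
    HomologicalComplex.ιMapBifunctor ((Φ₁.mapHomologicalComplex (ComplexShape.up ℤ)).obj L)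
        ((Φ₂.mapHomologicalComplex (ComplexShape.up ℤ)).obj K) T' (ComplexShape.up ℤ) p q n h ≫
      (totalMapHom θ L K).f n = totalMapι θ L K p q n h := by
  dsimp only [totalMapHom]
  exact HomologicalComplex.ι_mapBifunctorDesc _ _ _ h

variable [∀ J : Type, PreservesColimitsOfShape (Discrete J) Ψ]

instance isIso_totalMapHom_f (n : ℤ) : IsIso ((totalMapHom θ L K).f n) := by
  let hc := isColimitOfPreserves Ψ (colimit.isColimit ((family₂ T L n).obj K))
  let c : Cocone ((family₂ T L n).obj K ⋙ Ψ) :=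
    Cocone.mk (((T'.map₂CochainComplex.obj ((Φ₁.mapHomologicalComplex (ComplexShape.up ℤ)).obj L)).obj
      ((Φ₂.mapHomologicalComplex (ComplexShape.up ℤ)).obj K)).X n)
      (Discrete.natTrans fun s => (θ.hom.app (L.X s.as.1.1)).app (K.X s.as.1.2) ≫
        HomologicalComplex.ιMapBifunctor ((Φ₁.mapHomologicalComplex (ComplexShape.up ℤ)).obj L)
          ((Φ₂.mapHomologicalComplex (ComplexShape.up ℤ)).obj K) T' (ComplexShape.up ℤ)
          s.as.1.1 s.as.1.2 n s.as.2)
  refine ⟨Ψ.map (evalObjIso₂ T L n K).hom ≫ hc.desc c, ?_, ?_⟩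
  · refine HomologicalComplex.mapBifunctor.hom_ext (fun p q h => ?_)
    change p + q = n at h
    erw [ι_totalMapHom_assoc θ L K p q n h, Category.comp_id]
    simp only [totalMapι]
    erw [Category.assoc, ← Ψ.map_comp_assoc]
    have : HomologicalComplex.ιMapBifunctor L K T (ComplexShape.up ℤ) p q n h ≫
        (evalObjIso₂ T L n K).hom = familyι T L n K p q h :=
      HomologicalComplex.ι_mapBifunctorDesc _ _ _ _
    erw [this, hc.fac c (Discrete.mk (⟨(p, q), h⟩ : fibre n))]
    change (θ.inv.app (L.X p)).app (K.X q) ≫ (θ.hom.app (L.X p)).app (K.X q) ≫ _ = _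
    rw [← Category.assoc, ← NatTrans.comp_app, ← NatTrans.comp_app, θ.inv_hom_id]
    exact Category.id_comp _
  · refine (cancel_epi (Ψ.map (evalObjIso₂ T L n K).inv)).1 ?_
    erw [Category.assoc, ← Ψ.map_comp_assoc,
      Iso.inv_hom_id, CategoryTheory.Functor.map_id, Category.id_comp, Category.comp_id]
    refine hc.hom_ext (fun s => ?_)
    obtain ⟨⟨⟨p, q⟩, h⟩⟩ := s
    rw [hc.fac_assoc]
    change ((θ.hom.app (L.X p)).app (K.X q) ≫ _) ≫ (totalMapHom θ L K).f n =
      Ψ.map (colimit.ι ((family₂ T L n).obj K) (Discrete.mk (⟨(p, q), h⟩ : fibre n))) ≫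
        Ψ.map (evalObjIso₂ T L n K).inv
    rw [← Ψ.map_comp, Category.assoc]
    erw [ι_totalMapHom θ L K p q n h]
    simp only [totalMapι]
    erw [← Category.assoc, ← NatTrans.comp_app, ← NatTrans.comp_app, θ.hom_inv_id]
    refine (Category.id_comp _).trans (congrArg Ψ.map ?_)
    simp only [evalObjIso₂]
    exact (colimit.ι_desc (F := (family₂ T L n).obj K) (Cocone.mk _ (Discrete.natTrans fun s =>
      HomologicalComplex.ιMapBifunctor L K T (ComplexShape.up ℤ) s.as.1.1 s.as.1.2 n s.as.2))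
      (Discrete.mk (⟨(p, q), h⟩ : fibre n))).symm

/-- The comparison isomorphism of total complexes. -/
noncomputable def totalMapIso :
    (T'.map₂CochainComplex.obj ((Φ₁.mapHomologicalComplex (ComplexShape.up ℤ)).obj L)).obj
      ((Φ₂.mapHomologicalComplex (ComplexShape.up ℤ)).obj K) ≅
    (Ψ.mapHomologicalComplex (ComplexShape.up ℤ)).obj ((T.map₂CochainComplex.obj L).obj K) :=
  haveI : IsIso (totalMapHom θ L K) := HomologicalComplex.Hom.isIso_of_components _
  asIso (totalMapHom θ L K)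

end Groth.Agent.KFlatLib
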