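import Groth.Agent.KFlatLib.Resolution
import Mathlib.Algebra.Homology.Embedding.CochainComplex

/-!
# Bounded above flat resolutions of cohomologically bounded above complexes
-/

set_option linter.style.haveILetI false

universe v u

open CategoryTheory CategoryTheory.Limits CochainComplex CochainComplex.HomComplex

namespace Groth.Agent.KFlatLib

variable {C : Type u} [Category.{v} C] [Abelian C]

/-- The inclusion of one term in a complex with zero differential. -/
noncomputable def zeroCxι (A : ℤ → C) (n : ℤ) :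
    (HomologicalComplex.single C (ComplexShape.up ℤ) n).obj (A n) ⟶ zeroCx A :=
  HomologicalComplex.mkHomFromSingle (K := zeroCx A) (𝟙 (A n)) (fun _ _ => comp_zero)

lemma zeroCxι_f (A : ℤ → C) (n : ℤ) :
    (zeroCxι A n).f n = (HomologicalComplex.singleObjXSelf (ComplexShape.up ℤ) n (A n)).hom :=
  (HomologicalComplex.mkHomFromSingle_f (K := zeroCx A) (𝟙 (A n)) (fun _ _ => comp_zero)).trans
    (Category.comp_id _)

instance mono_zeroCxι_f (A : ℤ → C) (n m : ℤ) : Mono ((zeroCxι A n).f m) := by
  by_cases h : m = n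
  · subst h
    rw [zeroCxι_f]
    exact inferInstanceAs
      (Mono (HomologicalComplex.singleObjXSelf (ComplexShape.up ℤ) m (A m)).hom)
  · exact ⟨fun _ _ _ => (HomologicalComplex.isZero_single_obj_X _ _ _ _ h).eq_of_tgt _ _⟩

namespace FlatCover

variable (c : FlatCover C) {Q K : CochainComplex C ℤ} (f : Q ⟶ K) (n : ℤ)

/-- The attaching map of the one-degree step. -/
noncomputable def bMap :
    (HomologicalComplex.single C (ComplexShape.up ℤ) n).obj (gen (G := c.G) f n) ⟶ Q :=
  zeroCxι (gen (G := c.G) f) n ≫ genMap c.π f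

/-- The complex of the one-degree step. -/
noncomputable abbrev bQ : CochainComplex C ℤ := mappingCone (c.bMap f n)

/-- Its inclusion in the full step. -/
noncomputable def bIncl : c.bQ f n ⟶ stepQ c.π f :=
  mappingCone.map (c.bMap f n) (genMap c.π f) (zeroCxι (gen (G := c.G) f) n) (𝟙 Q)
    (by simp [bMap])

/-- The map of the one-degree step. -/
noncomputable def bF : c.bQ f n ⟶ K := c.bIncl f n ≫ stepF c.π f

lemma inr_bF : mappingCone.inr (c.bMap f n) ≫ c.bF f n = f := by
  simp [bF, bIncl, mappingCone.map]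

/-- The map between cones. -/
noncomputable def bCone : mappingCone f ⟶ mappingCone (c.bF f n) :=
  mappingCone.map f (c.bF f n) (mappingCone.inr (c.bMap f n)) (𝟙 K) (by simp [inr_bF])

/-- The comparison with the cone of the full step. -/
noncomputable def bConeIncl : mappingCone (c.bF f n) ⟶ mappingCone (stepF c.π f) :=
  mappingCone.map (c.bF f n) (stepF c.π f) (c.bIncl f n) (𝟙 K) (by simp [bF])

lemma bCone_bConeIncl : c.bCone f n ≫ c.bConeIncl f n = coneStep c.π f :=
  (map_eq_comp _ _ _ (by simp [bIncl, mappingCone.map]) (Category.comp_id _).symm).symm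

lemma map_f {F G F' G' : CochainComplex C ℤ} (φ : F ⟶ G) (φ' : F' ⟶ G') (a : F ⟶ F') (b : G ⟶ G')
    (w : φ ≫ b = a ≫ φ') (m : ℤ) :
    (mappingCone.inl φ).v (m + 1) m (by omega) ≫ (mappingCone.map φ φ' a b w).f m =
        a.f (m + 1) ≫ (mappingCone.inl φ').v (m + 1) m (by omega) ∧
      (mappingCone.inr φ).f m ≫ (mappingCone.map φ φ' a b w).f m =
        b.f m ≫ (mappingCone.inr φ').f m := by
  simp [mappingCone.map]

lemma mono_map_f {F G F' G' : CochainComplex C ℤ} (φ : F ⟶ G) (φ' : F' ⟶ G') (a : F ⟶ F')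
    (b : G ⟶ G') (w : φ ≫ b = a ≫ φ') (m : ℤ) [Mono (a.f (m + 1))] [Mono (b.f m)] :
    Mono ((mappingCone.map φ φ' a b w).f m) where
  right_cancellation g h e := by
    rw [mappingCone.ext_to_iff φ m (m + 1) rfl]
    have e₁ := congrArg (fun t => t ≫ (mappingCone.fst φ').1.v m (m + 1) rfl) e
    have e₂ := congrArg (fun t => t ≫ (mappingCone.snd φ').v m m (add_zero m)) e
    simp only [Category.assoc, map_fst_v φ φ' a b w m (m + 1) rfl, map_snd_v φ φ' a b w m] at e₁ e₂
    exact ⟨by rwa [← cancel_mono (a.f (m + 1)), Category.assoc, Category.assoc],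
      by rwa [← cancel_mono (b.f m), Category.assoc, Category.assoc]⟩

instance mono_bIncl_f (m : ℤ) : Mono ((c.bIncl f n).f m) :=
  haveI : Mono ((𝟙 Q : Q ⟶ Q).f m) := by simp only [HomologicalComplex.id_f]; infer_instance
  mono_map_f _ _ _ _ _ m

instance mono_bConeIncl_f (m : ℤ) : Mono ((c.bConeIncl f n).f m) :=
  haveI : Mono ((𝟙 K : K ⟶ K).f m) := by simp only [HomologicalComplex.id_f]; infer_instance
  mono_map_f _ _ _ _ _ m

lemma isIso_inr_f (m : ℤ) (hm : n ≤ m) : IsIso ((mappingCone.inr (c.bMap f n)).f m) := by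
  have hz : IsZero (((HomologicalComplex.single C (ComplexShape.up ℤ) n).obj
      (gen (G := c.G) f n)).X (m + 1)) :=
    HomologicalComplex.isZero_single_obj_X _ _ _ _ (by omega)
  refine ⟨(mappingCone.snd (c.bMap f n)).v m m (add_zero m), by simp, ?_⟩
  have : (mappingCone.inl (c.bMap f n)).v (m + 1) m (by omega) = 0 := hz.eq_of_src _ _
  exact ((add_eq_right.2 (by rw [this, comp_zero])).symm.trans
    (mappingCone.id_X (c.bMap f n) m (m + 1) rfl))

lemma isIso_bCone_f (m : ℤ) (hm : n ≤ m + 1) : IsIso ((c.bCone f n).f m) := by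
  haveI := c.isIso_inr_f f n (m + 1) hm
  obtain ⟨h₁, h₂⟩ := map_f f (c.bF f n) (mappingCone.inr (c.bMap f n)) (𝟙 K) (by simp [inr_bF]) m
  simp only [HomologicalComplex.id_f, Category.id_comp] at h₂
  refine ⟨coneDesc (c.bF f n) m (inv ((mappingCone.inr (c.bMap f n)).f (m + 1)) ≫
    (mappingCone.inl f).v (m + 1) m (by omega)) ((mappingCone.inr f).f m), ?_, ?_⟩
  · rw [mappingCone.ext_from_iff _ (m + 1) m rfl]
    refine ⟨?_, ?_⟩
    · erw [← Category.assoc, h₁, Category.assoc, inl_coneDesc, IsIso.hom_inv_id_assoc,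
        Category.comp_id]
    · erw [← Category.assoc, h₂, inr_coneDesc, Category.comp_id]
  · rw [mappingCone.ext_from_iff _ (m + 1) m rfl]
    refine ⟨?_, ?_⟩
    · erw [← Category.assoc, inl_coneDesc, Category.assoc, h₁, IsIso.inv_hom_id_assoc,
        Category.comp_id]
    · erw [← Category.assoc, inr_coneDesc, h₂, Category.comp_id]

lemma isIso_cyclesMap_bCone (m : ℤ) (hm : n ≤ m + 1) :
    IsIso (HomologicalComplex.cyclesMap (c.bCone f n) m) := by
  haveI := c.isIso_bCone_f f n m hm
  haveI := c.isIso_bCone_f f n ((ComplexShape.up ℤ).next m) (by simp; omega)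
  haveI : IsIso ((HomologicalComplex.shortComplexFunctor C _ m).map (c.bCone f n)).τ₂ :=
    c.isIso_bCone_f f n m hm
  haveI : Mono ((HomologicalComplex.shortComplexFunctor C _ m).map (c.bCone f n)).τ₃ := by
    change Mono ((c.bCone f n).f ((ComplexShape.up ℤ).next m))
    infer_instance
  exact ShortComplex.isIso_cyclesMap_of_isIso_of_mono
    ((HomologicalComplex.shortComplexFunctor C _ m).map (c.bCone f n))

/-- The step kills the cohomology of the cone in degree `n - 1`. -/
lemma isZero_homology_bCone :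
    IsZero ((mappingCone (c.bF f n)).homology (n - 1)) := by
  haveI := c.epi
  haveI := c.isIso_cyclesMap_bCone f n (n - 1) (by omega)
  rw [IsZero.iff_id_eq_zero, ← cancel_epi ((mappingCone (c.bF f n)).homologyπ (n - 1)),
    ← cancel_epi (HomologicalComplex.cyclesMap (c.bCone f n) (n - 1)),
    ← cancel_epi (c.π.app ((mappingCone f).cycles (n - 1)))]
  simp only [Category.comp_id, comp_zero]
  have hlhs : genι c.π f n (n - 1) (by omega) ≫ (c.bCone f n).f (n - 1) =
      (-((HomologicalComplex.singleObjXSelf (ComplexShape.up ℤ) n (gen (G := c.G) f n)).inv ≫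
        (mappingCone.inl (c.bMap f n)).v n (n - 1) (by omega) ≫
        (mappingCone.inl (c.bF f n)).v (n - 1) (n - 1 - 1) (by omega))) ≫
          (mappingCone (c.bF f n)).d (n - 1 - 1) (n - 1) := by
    rw [← cancel_mono ((c.bConeIncl f n).f (n - 1)), Category.assoc, Category.assoc,
      ← HomologicalComplex.comp_f, bCone_bConeIncl, ← HomologicalComplex.Hom.comm,
      ← Category.assoc]
    have key : ∀ (k p : ℤ) (hk : p + 1 = k),
        genι c.π f k p hk ≫ (coneStep c.π f).f p =
          (-((mappingCone.inl (genMap c.π f)).v k p (by omega) ≫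
            (mappingCone.inl (stepF c.π f)).v p (p - 1) (by omega))) ≫
              (mappingCone (stepF c.π f)).d (p - 1) p := by
      intro k p hk
      subst hk
      exact genι_coneStep c.π f p
    rw [key n (n - 1) (by omega)]
    congr 1
    simp only [Preadditive.neg_comp, neg_inj, Category.assoc]
    have key' : ∀ (p q : ℤ) (hp : n + -1 = p) (hq : p + -1 = q),
        (mappingCone.inl (genMap c.π f)).v n p hp ≫ (mappingCone.inl (stepF c.π f)).v p q hq =
          (HomologicalComplex.singleObjXSelf (ComplexShape.up ℤ) n (gen (G := c.G) f n)).inv ≫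
            (mappingCone.inl (c.bMap f n)).v n p hp ≫ (mappingCone.inl (c.bF f n)).v p q hq ≫
              (c.bConeIncl f n).f q := by
      intro p q hp hq
      obtain rfl : p = q + 1 := by omega
      obtain rfl : n = q + 1 + 1 := by omega
      erw [(map_f (c.bF f (q + 1 + 1)) (stepF c.π f) (c.bIncl f (q + 1 + 1)) (𝟙 K) (by simp [bF]) q).1]
      erw [reassoc_of% (map_f (c.bMap f (q + 1 + 1)) (genMap c.π f)
        (zeroCxι (gen (G := c.G) f) (q + 1 + 1)) (𝟙 Q) (by simp [bMap]) (q + 1)).1]
      erw [zeroCxι_f, Iso.inv_hom_id_assoc]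
    rw [key' (n - 1) (n - 1 - 1) (by omega) (by omega)]
    rfl
  have h0 := (mappingCone (c.bF f n)).liftCycles_homologyπ_eq_zero_of_boundary
    (i := n - 1) (c.π.app ((mappingCone f).cycles (n - 1)) ≫ (mappingCone f).iCycles (n - 1) ≫
      (c.bCone f n).f (n - 1)) n (by simp) _ ((show _ = _ by simp [genι]).trans hlhs)
  refine Eq.trans ?_ h0
  rw [← Category.assoc (c.π.app _)]
  congr 1
  rw [← cancel_mono ((mappingCone (c.bF f n)).iCycles (n - 1))]
  simp

lemma isZero_homology_bCone_of_le (m : ℤ) (hm : n ≤ m)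
    (h : IsZero ((mappingCone f).homology m)) : IsZero ((mappingCone (c.bF f n)).homology m) := by
  haveI := c.isIso_bCone_f f n m (by omega)
  haveI := c.isIso_bCone_f f n ((ComplexShape.up ℤ).prev m) (by simp; omega)
  haveI := c.isIso_bCone_f f n ((ComplexShape.up ℤ).next m) (by simp; omega)
  let e : (mappingCone f).sc m ≅ (mappingCone (c.bF f n)).sc m :=
    ShortComplex.isoMk
      (@asIso _ _ _ _ _ (c.isIso_bCone_f f n ((ComplexShape.up ℤ).prev m) (by simp; omega)))
      (@asIso _ _ _ _ _ (c.isIso_bCone_f f n m (by omega)))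
      (@asIso _ _ _ _ _ (c.isIso_bCone_f f n ((ComplexShape.up ℤ).next m) (by simp; omega)))
      ((c.bCone f n).comm _ _) ((c.bCone f n).comm _ _)
  exact h.of_iso (ShortComplex.homologyMapIso e).symm

section Sequence

variable (K)

/-- The stages of the bounded resolution. -/
noncomputable def bStage (b : ℤ) : ℕ → Σ Q : CochainComplex C ℤ, Q ⟶ K
  | 0 => ⟨HomologicalComplex.zero, 0⟩
  | k + 1 => ⟨c.bQ (bStage b k).2 (b + 1 - k), c.bF (bStage b k).2 (b + 1 - k)⟩

lemma bStage_flat (b : ℤ) (k : ℕ) (m : ℤ) : c.Flat ((c.bStage K b k).1.X m) := by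
  induction k generalizing m with
  | zero => exact c.zero _ (isZero_zero C)
  | succ k ih =>
    refine c.of_iso (mappingConeXBiprod (c.bMap (c.bStage K b k).2 (b + 1 - k)) m).symm
      (c.biprod _ _ ?_ (ih m))
    by_cases h : m + 1 = b + 1 - k
    · rw [h]
      exact c.of_iso (HomologicalComplex.singleObjXSelf (ComplexShape.up ℤ) _ _).symm (c.flat _)
    · exact c.zero _ (HomologicalComplex.isZero_single_obj_X _ _ _ _ h)

lemma bStage_zero (b : ℤ) (k : ℕ) (m : ℤ) (hm : b < m) : IsZero ((c.bStage K b k).1.X m) := by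
  induction k with
  | zero => exact isZero_zero C
  | succ k ih =>
    exact IsZero.of_iso ((biprod_isZero_iff _ _).2
      ⟨HomologicalComplex.isZero_single_obj_X _ _ _ _ (by omega), ih⟩)
      (mappingConeXBiprod (c.bMap (c.bStage K b k).2 (b + 1 - k)) m)

lemma bStage_exact (b : ℤ) (hK : ∀ m, b < m → IsZero (K.homology m)) (k : ℕ) :
    ∀ m, b + 1 - k ≤ m → IsZero ((mappingCone (c.bStage K b k).2).homology m) := by
  induction k with
  | zero =>
    intro m hm
    have hiso : ∀ j, IsIso ((mappingCone.inr (c.bStage K b 0).2).f j) := fun j =>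
      ⟨(mappingCone.snd (c.bStage K b 0).2).v j j (add_zero j), by simp, by
        have : (mappingCone.inl (c.bStage K b 0).2).v (j + 1) j (by omega) = 0 :=
          (isZero_zero C).eq_of_src _ _
        exact ((add_eq_right.2 (by rw [this, comp_zero])).symm.trans
          (mappingCone.id_X (c.bStage K b 0).2 j (j + 1) rfl))⟩
    haveI := hiso
    haveI : IsIso (mappingCone.inr (c.bStage K b 0).2) :=
      HomologicalComplex.Hom.isIso_of_components _
    exact (hK m (by omega)).of_iso ((HomologicalComplex.homologyFunctor C _ m).mapIso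
      (asIso (mappingCone.inr (c.bStage K b 0).2)).symm)
  | succ k ih =>
    intro m hm
    rcases eq_or_lt_of_le (show b + 1 - k - 1 ≤ m by omega) with h | h
    · subst h
      exact c.isZero_homology_bCone _ _
    · exact c.isZero_homology_bCone_of_le _ _ m (by omega) (ih m (by omega))

variable [HasColimitsOfShape ℕ C] [HasExactColimitsOfShape ℕ C]

/-- A cohomologically bounded above complex has a bounded above resolution by flat objects. -/
lemma exists_bounded_resolution (b : ℤ) (hK : ∀ m, b < m → IsZero (K.homology m)) :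
    ∃ (P : CochainComplex C ℤ) (ψ : P ⟶ K), QuasiIso ψ ∧ (∀ m, c.Flat (P.X m)) ∧
      ∀ m, b < m → IsZero (P.X m) := by
  let X : ℕ ⥤ CochainComplex C ℤ := Functor.ofSequence (X := fun k => (c.bStage K b k).1)
    (fun k => mappingCone.inr (c.bMap (c.bStage K b k).2 (b + 1 - k)))
  let a : X ⟶ (Functor.const ℕ).obj K :=
    NatTrans.ofSequence (F := X) (fun k => (c.bStage K b k).2) (fun k => by
      rw [Functor.ofSequence_map_homOfLE_succ]
      exact (c.inr_bF _ _).trans (Category.comp_id _).symm)
  let cc := colimit.cocone X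
  let ψ : cc.pt ⟶ K := colimit.desc X (Cocone.mk K a)
  refine ⟨cc.pt, ψ, ?_, fun m => c.colim _ (isColimitOfPreserves
      (HomologicalComplex.eval C (ComplexShape.up ℤ) m) (colimit.isColimit X))
    (fun k => c.bStage_flat K b k m), fun m hm => ?_⟩
  · refine quasiIso_of_acyclic_cone _ ?_
    rw [acyclic_iff_isZero]
    intro m
    refine isZero_homology_of_isColimit
      (isColimitConesCocone a (colimit.isColimit X) ψ (fun k => colimit.ι_desc _ k)) m (fun k => ?_)
    exact ⟨max k (b + 1 - m).toNat, le_max_left _ _,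
      (c.bStage_exact K b hK (max k (b + 1 - m).toNat) m (by omega)).eq_of_tgt _ _⟩
  · exact (IsZero.iff_id_eq_zero _).2 ((isColimitOfPreserves
      (HomologicalComplex.eval C (ComplexShape.up ℤ) m) (colimit.isColimit X)).hom_ext
        fun k => (c.bStage_zero K b k m hm).eq_of_src _ _)

end Sequence

end FlatCover

end Groth.Agent.KFlatLib
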