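import Groth.Agent.KFlatLib.Preserve
import Mathlib.Algebra.Homology.BifunctorShift
import Mathlib.Algebra.Homology.HomotopyCategory.ShiftSequence
import Mathlib.Algebra.Homology.BifunctorHomotopy
import Mathlib.Algebra.Homology.Single
import Mathlib.Algebra.Homology.HomotopyCategory.MappingCone

/-!
# K-flat complexes for a bifunctor: closure properties
-/

set_option linter.style.haveILetI false

universe v u v' u' w w'

open CategoryTheory CategoryTheory.Limits

namespace Groth.Agent.KFlatLib

variable {C : Type u} [Category.{v} C] [Abelian C] [∀ S : Type, HasColimitsOfShape (Discrete S) C]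
  (T : C ⥤ C ⥤ C) [T.Additive] [∀ X, (T.obj X).Additive]

/-- K-flatness with respect to the bifunctor `T`. -/
def KFlat (K : CochainComplex C ℤ) : Prop :=
  ∀ L : CochainComplex C ℤ, (∀ i : ℤ, IsZero (L.homology i)) →
    ∀ i : ℤ, IsZero (((T.map₂CochainComplex.obj L).obj K).homology i)

/-- An object `P` is flat for `T` when `- ⊗ P` preserves short exact sequences. -/
def FlatObj (P : C) : Prop :=
  ∀ S : ShortComplex C, S.ShortExact → (S.map (T.flip.obj P)).ShortExact

/-- `X ⊗ -` preserves short exact sequences with flat third term. -/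
def FlatThird : Prop :=
  ∀ (X : C) (S : ShortComplex C), S.ShortExact → FlatObj T S.X₃ → (S.map (T.obj X)).ShortExact

variable {T}

lemma KFlat.acyclic {K : CochainComplex C ℤ} (hK : KFlat T K) {L : CochainComplex C ℤ}
    (hL : L.Acyclic) : ((T.map₂CochainComplex.obj L).obj K).Acyclic :=
  (acyclic_iff_isZero _).2 (hK L ((acyclic_iff_isZero _).1 hL))

lemma kFlat_iff {K : CochainComplex C ℤ} :
    KFlat T K ↔ ∀ L : CochainComplex C ℤ, L.Acyclic →
      ((T.map₂CochainComplex.obj L).obj K).Acyclic :=
  ⟨fun h _ hL => h.acyclic hL, fun h L hL =>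
    (acyclic_iff_isZero _).1 (h L ((acyclic_iff_isZero _).2 hL))⟩

lemma KFlat.of_iso {K K' : CochainComplex C ℤ} (e : K ≅ K') (hK : KFlat T K) : KFlat T K' :=
  fun L hL i => (hK L hL i).of_iso
    ((HomologicalComplex.homologyFunctor C _ i).mapIso ((T.map₂CochainComplex.obj L).mapIso e.symm))

lemma kFlat_of_isZero {K : CochainComplex C ℤ} (hK : IsZero K) : KFlat T K :=
  fun L _ i => (HomologicalComplex.homologyFunctor C _ i).map_isZero
    ((T.map₂CochainComplex.obj L).map_isZero hK)

variable (T) in
/-- The total complex functor in the second variable preserves homotopies. -/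
lemma nonempty_homotopy₂ (L : CochainComplex C ℤ) {K K' : CochainComplex C ℤ} {f g : K ⟶ K'}
    (h : Homotopy f g) : Nonempty (Homotopy ((T.map₂CochainComplex.obj L).map f)
      ((T.map₂CochainComplex.obj L).map g)) :=
  ⟨HomologicalComplex.mapBifunctorMapHomotopy₂ (𝟙 L) h T (ComplexShape.up ℤ)⟩

variable (T) in
/-- The total complex functor in the first variable preserves homotopies. -/
lemma nonempty_homotopy₁ (K : CochainComplex C ℤ) {L L' : CochainComplex C ℤ} {f g : L ⟶ L'}
    (h : Homotopy f g) : Nonempty (Homotopy ((T.map₂CochainComplex.flip.obj K).map f)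
      ((T.map₂CochainComplex.flip.obj K).map g)) :=
  ⟨HomologicalComplex.mapBifunctorMapHomotopy₁ h (𝟙 K) T (ComplexShape.up ℤ)⟩

lemma kFlat_of_contractible {K : CochainComplex C ℤ} (h : Homotopy (𝟙 K) 0) : KFlat T K :=
  kFlat_iff.2 fun L _ => acyclic_of_homotopy_id_zero
    ((Homotopy.ofEq ((T.map₂CochainComplex.obj L).map_id K).symm).trans
      ((nonempty_homotopy₂ T L h).some.trans (Homotopy.ofEq (Functor.map_zero _ _ _))))

lemma kFlat_cone_id (K : CochainComplex C ℤ) :
    KFlat T (CochainComplex.mappingCone (𝟙 K)) :=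
  kFlat_of_contractible (CochainComplex.mappingCone.homotopyToZeroOfId K)

lemma KFlat.shift {K : CochainComplex C ℤ} (hK : KFlat T K) (n : ℤ) :
    KFlat T ((CategoryTheory.shiftFunctor (CochainComplex C ℤ) n).obj K) :=
  fun L hL i => (hK L hL (n + i)).of_iso
    (((HomologicalComplex.homologyFunctor C _ i).mapIso
      (CochainComplex.mapBifunctorShift₂Iso L K T n)) ≪≫
        ((CochainComplex.ShiftSequence.shiftIso C n i (n + i) rfl).app _))

section AB4

variable [∀ S : Type, HasExactColimitsOfShape (Discrete S) C]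

/-- Degreewise split sequences stay short exact, second variable. -/
lemma shortExact₂_of_splitting (L : CochainComplex C ℤ) (S : ShortComplex (CochainComplex C ℤ))
    (h : ∀ n, Nonempty (S.map (HomologicalComplex.eval C (ComplexShape.up ℤ) n)).Splitting) :
    (S.map (T.map₂CochainComplex.obj L)).ShortExact :=
  shortExact₂ T L S fun p q => ((h q).some.map (T.obj (L.X p))).shortExact

/-- Degreewise split sequences stay short exact, first variable. -/
lemma shortExact₁_of_splitting (K : CochainComplex C ℤ) (S : ShortComplex (CochainComplex C ℤ))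
    (h : ∀ n, Nonempty (S.map (HomologicalComplex.eval C (ComplexShape.up ℤ) n)).Splitting) :
    (S.map (T.map₂CochainComplex.flip.obj K)).ShortExact :=
  shortExact₁ T K S fun p q => ((h p).some.map (T.flip.obj (K.X q))).shortExact

/-- Two out of three for a sequence which stays short exact after tensoring. -/
lemma kFlat_two_out_of_three {S : ShortComplex (CochainComplex C ℤ)}
    (h : ∀ L, (S.map (T.map₂CochainComplex.obj L)).ShortExact) :
    (KFlat T S.X₁ → KFlat T S.X₂ → KFlat T S.X₃) ∧
    (KFlat T S.X₁ → KFlat T S.X₃ → KFlat T S.X₂) ∧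
    (KFlat T S.X₂ → KFlat T S.X₃ → KFlat T S.X₁) :=
  ⟨fun h₁ h₂ => kFlat_iff.2 fun L hL =>
      acyclic_X₃_of_acyclic (h L) (h₁.acyclic hL) (h₂.acyclic hL),
    fun h₁ h₃ => kFlat_iff.2 fun L hL =>
      (h L).acyclic_X₂ (h₁.acyclic hL) (h₃.acyclic hL),
    fun h₂ h₃ => kFlat_iff.2 fun L hL =>
      acyclic_X₁_of_acyclic (h L) (h₂.acyclic hL) (h₃.acyclic hL)⟩

/-- The last map of the standard triangle, in degree `n`. -/
noncomputable abbrev triangleMor₃F {F G : CochainComplex C ℤ} (φ : F ⟶ G) (n : ℤ) :
    (CochainComplex.mappingCone φ).X n ⟶ F.X (n + 1) :=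
  (CochainComplex.mappingCone.triangle φ).mor₃.f n

lemma triangle_mor₃_f {F G : CochainComplex C ℤ} (φ : F ⟶ G) (n : ℤ) :
    triangleMor₃F φ n = -(CochainComplex.mappingCone.fst φ).1.v n (n + 1) rfl := by
  simp [triangleMor₃F, CochainComplex.mappingCone.triangle,
    CochainComplex.HomComplex.Cochain.rightShift_v _ 1 0 _ n n _ (n + 1) rfl]
  exact congrArg Neg.neg (Category.comp_id ((CochainComplex.mappingCone.fst φ).1.v n (n + 1) rfl))

/-- `G → Cone(φ) → F[1]` as a short complex. -/
noncomputable abbrev coneSeq {F G : CochainComplex C ℤ} (φ : F ⟶ G) :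
    ShortComplex (CochainComplex C ℤ) :=
  ShortComplex.mk (CochainComplex.mappingCone.triangle φ).mor₂
    (CochainComplex.mappingCone.triangle φ).mor₃ (by
      ext n
      change (CochainComplex.mappingCone.inr φ).f n ≫
        triangleMor₃F φ n = 0
      rw [triangle_mor₃_f, Preadditive.comp_neg, CochainComplex.mappingCone.inr_f_fst_v, neg_zero])

/-- The degreewise splitting of `coneSeq`. -/
noncomputable def coneSeqSplitting {F G : CochainComplex C ℤ} (φ : F ⟶ G) (n : ℤ) :
    ((coneSeq φ).map (HomologicalComplex.eval C (ComplexShape.up ℤ) n)).Splitting where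
  r := (CochainComplex.mappingCone.snd φ).v n n (add_zero n)
  s := -(CochainComplex.mappingCone.inl φ).v (n + 1) n (by omega)
  f_r := CochainComplex.mappingCone.inr_f_snd_v φ n
  s_g := by
    change (-(CochainComplex.mappingCone.inl φ).v (n + 1) n (by omega)) ≫
        triangleMor₃F φ n = 𝟙 (F.X (n + 1))
    rw [triangle_mor₃_f, Preadditive.neg_comp_neg, CochainComplex.mappingCone.inl_v_fst_v]
  id := by
    change (CochainComplex.mappingCone.snd φ).v n n (add_zero n) ≫
        (CochainComplex.mappingCone.inr φ).f n +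
      triangleMor₃F φ n ≫
        (-(CochainComplex.mappingCone.inl φ).v (n + 1) n (by omega)) =
      𝟙 ((CochainComplex.mappingCone φ).X n)
    rw [triangle_mor₃_f, Preadditive.neg_comp_neg, add_comm,
      ← CochainComplex.mappingCone.id_X φ n (n + 1) rfl]

/-- The cone of a morphism of K-flat complexes is K-flat. -/
lemma kFlat_cone {F G : CochainComplex C ℤ} (φ : F ⟶ G) (hF : KFlat T F) (hG : KFlat T G) :
    KFlat T (CochainComplex.mappingCone φ) :=
  (kFlat_two_out_of_three (S := coneSeq φ) fun L =>
    shortExact₂_of_splitting L (coneSeq φ) (fun n => ⟨coneSeqSplitting φ n⟩)).2.1 hG (hF.shift 1)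

/-- Two out of three for short exact sequences with degreewise flat third term. -/
lemma kFlat_two_out_of_three_of_flat (hT : FlatThird T) {S : ShortComplex (CochainComplex C ℤ)}
    (hS : S.ShortExact) (h₃ : ∀ n, FlatObj T (S.X₃.X n)) :
    (KFlat T S.X₁ → KFlat T S.X₂ → KFlat T S.X₃) ∧
    (KFlat T S.X₁ → KFlat T S.X₃ → KFlat T S.X₂) ∧
    (KFlat T S.X₂ → KFlat T S.X₃ → KFlat T S.X₁) :=
  kFlat_two_out_of_three fun L => shortExact₂ T L S fun p q =>
    hT _ _ (((HomologicalComplex.shortExact_iff_degreewise_shortExact S).1 hS) q) (h₃ q)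

/-- Tensoring with a K-flat complex preserves quasi-isomorphisms. -/
lemma KFlat.quasiIso_map {K : CochainComplex C ℤ} (hK : KFlat T K)
    {F G : CochainComplex C ℤ} (f : F ⟶ G) [QuasiIso f] :
    QuasiIso ((T.map₂CochainComplex.map f).app K) :=
  Groth.Agent.KFlatLib.quasiIso_map (T.map₂CochainComplex.flip.obj K)
    (fun h => nonempty_homotopy₁ T K h)
    (fun S h => shortExact₁_of_splitting K S h) f (fun _ hQ _ => hK.acyclic hQ)

/-- The K-flatness of the cokernel of `embedCone`. -/
lemma kFlat_cokernel_embedCone {F G : CochainComplex C ℤ} (f : F ⟶ G) (hF : KFlat T F)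
    (hG : KFlat T G) : KFlat T (cokernel (embedCone f)) := by
  have h₂ : KFlat T (G ⊞ CochainComplex.mappingCone (𝟙 F)) := by
    let s := (ShortComplex.Splitting.ofHasBinaryBiproduct G (CochainComplex.mappingCone (𝟙 F)))
    exact (kFlat_two_out_of_three fun L => shortExact₂_of_splitting L _
      (fun n => ⟨s.map (HomologicalComplex.eval C (ComplexShape.up ℤ) n)⟩)).2.1 hG (kFlat_cone_id F)
  exact (kFlat_two_out_of_three (S := embedConeSeq f) fun L =>
    shortExact₂_of_splitting L _ (fun n => ⟨embedConeSplitting f n⟩)).1 hF h₂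

end AB4

end Groth.Agent.KFlatLib
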