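import Mathlib.Algebra.Homology.BifunctorAssociator
import Mathlib.Algebra.Homology.Bifunctor
import Mathlib.Algebra.Homology.Embedding.Basic
import Mathlib.Algebra.Homology.HomotopyCategory.HomComplex
import Mathlib.CategoryTheory.Functor.Trifunctor

/-!
# Naturality of the associator of total complexes
-/

universe v u

open CategoryTheory Limits HomologicalComplex

namespace Groth.Agent.KFlatLib

variable {A : Type u} [Category.{v} A] [Preadditive A]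
  (T : A ⥤ A ⥤ A) [T.Additive] [∀ X, (T.obj X).Additive]
  (α : bifunctorComp₁₂ T T ≅ bifunctorComp₂₃ T T)
  {K₁ L₁ K₂ L₂ K₃ L₃ : CochainComplex A ℤ}
  (f₁ : K₁ ⟶ L₁) (f₂ : K₂ ⟶ L₂) (f₃ : K₃ ⟶ L₃)

local notation "cc" => ComplexShape.up ℤ

theorem mapBifunctorAssociator_naturality
    [HasMapBifunctor K₁ K₂ T cc] [HasMapBifunctor K₂ K₃ T cc]
    [HasMapBifunctor (mapBifunctor K₁ K₂ T cc) K₃ T cc]
    [HasMapBifunctor K₁ (mapBifunctor K₂ K₃ T cc) T cc]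
    [HasGoodTrifunctor₁₂Obj T T K₁ K₂ K₃ cc cc] [HasGoodTrifunctor₂₃Obj T T K₁ K₂ K₃ cc cc cc]
    [HasMapBifunctor L₁ L₂ T cc] [HasMapBifunctor L₂ L₃ T cc]
    [HasMapBifunctor (mapBifunctor L₁ L₂ T cc) L₃ T cc]
    [HasMapBifunctor L₁ (mapBifunctor L₂ L₃ T cc) T cc]
    [HasGoodTrifunctor₁₂Obj T T L₁ L₂ L₃ cc cc] [HasGoodTrifunctor₂₃Obj T T L₁ L₂ L₃ cc cc cc] :
    mapBifunctorMap (mapBifunctorMap f₁ f₂ T cc) f₃ T cc ≫
        (mapBifunctorAssociator α L₁ L₂ L₃ cc cc cc).hom =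
      (mapBifunctorAssociator α K₁ K₂ K₃ cc cc cc).hom ≫
        mapBifunctorMap f₁ (mapBifunctorMap f₂ f₃ T cc) T cc := by
  ext j : 1
  apply mapBifunctor₁₂.hom_ext
  intro i₁ i₂ i₃ h
  simp only [HomologicalComplex.comp_f, mapBifunctorAssociator, Hom.isoOfComponents_hom_f,
    ι_mapBifunctorAssociatorX_hom_assoc]
  rw [mapBifunctor₁₂.ι_eq _ _ _ _ _ _ _ i₁ i₂ i₃ (i₁ + i₂) j rfl h, Category.assoc,
    ι_mapBifunctorMap_assoc]
  have e1 : ∀ (X : A),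
      (T.map (ιMapBifunctor K₁ K₂ T cc i₁ i₂ (i₁ + i₂) rfl)).app X ≫
        (T.map ((mapBifunctorMap f₁ f₂ T cc).f (i₁ + i₂))).app X =
      (T.map ((T.map (f₁.f i₁)).app (K₂.X i₂))).app X ≫
        (T.map ((T.obj (L₁.X i₁)).map (f₂.f i₂))).app X ≫
        (T.map (ιMapBifunctor L₁ L₂ T cc i₁ i₂ (i₁ + i₂) rfl)).app X := fun X => by
    rw [← NatTrans.comp_app, ← NatTrans.comp_app, ← NatTrans.comp_app, ← Functor.map_comp,
      ← Functor.map_comp, ← Functor.map_comp, ι_mapBifunctorMap]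
  rw [reassoc_of% (e1 (K₃.X i₃)), ← NatTrans.naturality_assoc]
  have e2 := ι_mapBifunctorAssociatorX_hom α L₁ L₂ L₃ cc cc cc i₁ i₂ i₃ j h
  rw [mapBifunctor₁₂.ι_eq _ _ _ _ _ _ _ i₁ i₂ i₃ (i₁ + i₂) j rfl h, Category.assoc] at e2
  rw [mapBifunctor₂₃.ι_eq _ _ _ _ _ _ _ _ i₁ i₂ i₃ (i₂ + i₃) j rfl
      (by rw [← h]; exact (add_assoc i₁ i₂ i₃).symm)]
  erw [Category.assoc, ι_mapBifunctorMap, (T.map (f₁.f i₁)).naturality_assoc]
  have e3 : ∀ (X : A),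
      (T.obj X).map (ιMapBifunctor K₂ K₃ T cc i₂ i₃ (i₂ + i₃) rfl) ≫
        (T.obj X).map ((mapBifunctorMap f₂ f₃ T cc).f (i₂ + i₃)) =
      (T.obj X).map ((T.map (f₂.f i₂)).app (K₃.X i₃)) ≫
        (T.obj X).map ((T.obj (L₂.X i₂)).map (f₃.f i₃)) ≫
        (T.obj X).map (ιMapBifunctor L₂ L₃ T cc i₂ i₃ (i₂ + i₃) rfl) := fun X => by
    rw [← Functor.map_comp, ← Functor.map_comp, ← Functor.map_comp, ι_mapBifunctorMap]
  rw [reassoc_of% (e3 (L₁.X i₁)), ← mapBifunctor₂₃.ι_eq T T L₁ L₂ L₃ cc cc cc i₁ i₂ i₃ (i₂ + i₃) j rfl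
      (by rw [← h]; exact (add_assoc i₁ i₂ i₃).symm), e2]
  have n₁ := NatTrans.naturality_app_app α.hom (f₁.f i₁) (K₂.X i₂) (K₃.X i₃)
  have n₂ := NatTrans.naturality_app (α.hom.app (L₁.X i₁)) (K₃.X i₃) (f₂.f i₂)
  have n₃ := ((α.hom.app (L₁.X i₁)).app (L₂.X i₂)).naturality (f₃.f i₃)
  erw [reassoc_of% n₃, reassoc_of% n₂, reassoc_of% n₁]
  rfl

end Groth.Agent.KFlatLib
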