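import Mathlib.CategoryTheory.Functor.Derived.LeftDerived
import Mathlib.CategoryTheory.Localization.Predicate
import Mathlib.CategoryTheory.MorphismProperty.Composition

/-!
# Left derived functors from a functorial resolution

If `W` has two-out-of-three, `ψ : P ⟶ 𝟭` is a functorial resolution by objects of a class `Good`,
and `F` inverts the maps of `W` between good objects, then `F` has a left derived functor, and its
counit is an isomorphism on good objects.
-/

set_option linter.style.haveILetI false

universe v u v' u' v'' u'' v''' u'''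

open CategoryTheory CategoryTheory.Limits

namespace Groth.Agent.KFlatLib

variable {C : Type u} [Category.{v} C] {D : Type u'} [Category.{v'} D] {H : Type u''}
  [Category.{v''} H] (L : C ⥤ D) (W : MorphismProperty C) [L.IsLocalization W] (F : C ⥤ H)

/-- A functorial resolution by objects of a class `Good` on which `F` inverts `W`. -/
structure Resolution where
  /-- The class of objects adapted to `F`. -/
  Good : C → Prop
  /-- The resolution functor. -/
  P : C ⥤ C
  /-- The resolution maps. -/
  ψ : P ⟶ 𝟭 C
  good : ∀ X, Good (P.obj X)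
  weq : ∀ X, W (ψ.app X)
  inverts : ∀ ⦃X Y : C⦄ (f : X ⟶ Y), Good X → Good Y → W f → IsIso (F.map f)

variable {W F}

section Main

variable [W.HasTwoOutOfThreeProperty] (R : Resolution W F)

namespace Resolution

lemma map_weq {X Y : C} (f : X ⟶ Y) (hf : W f) : W (R.P.map f) := by
  refine W.of_postcomp _ (R.ψ.app Y) (R.weq Y) ?_
  rw [R.ψ.naturality]
  exact W.comp_mem _ _ (R.weq X) hf

lemma invertedBy : W.IsInvertedBy (R.P ⋙ F) :=
  fun X Y f hf => R.inverts _ (R.good X) (R.good Y) (R.map_weq f hf)

/-- The derived functor. -/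
noncomputable def LF : D ⥤ H := Localization.lift (R.P ⋙ F) R.invertedBy L

/-- Its restriction. -/
noncomputable def fac : L ⋙ R.LF L ≅ R.P ⋙ F := Localization.fac (R.P ⋙ F) R.invertedBy L

/-- The counit. -/
noncomputable def counit : L ⋙ R.LF L ⟶ F :=
  (R.fac L).hom ≫ Functor.whiskerRight R.ψ F ≫ F.leftUnitor.hom

lemma counit_app (X : C) :
    (R.counit L).app X = (R.fac L).hom.app X ≫ F.map (R.ψ.app X) := by
  simp [counit]

lemma isIso_counit_app {X : C} (hX : R.Good X) : IsIso ((R.counit L).app X) := by
  haveI := R.inverts _ (R.good X) hX (R.weq X)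
  rw [counit_app]
  infer_instance

variable (G : D ⥤ H) (β : L ⋙ G ⟶ F)

/-- The lift of `β`, after restriction along `L`. -/
noncomputable def lift₀ : L ⋙ G ⟶ L ⋙ R.LF L where
  app X :=
    haveI : IsIso (L.map (R.ψ.app X)) := Localization.inverts L W _ (R.weq X)
    inv (G.map (L.map (R.ψ.app X))) ≫ β.app (R.P.obj X) ≫ (R.fac L).inv.app X
  naturality X Y f := by
    haveI : IsIso (L.map (R.ψ.app X)) := Localization.inverts L W _ (R.weq X)
    haveI : IsIso (L.map (R.ψ.app Y)) := Localization.inverts L W _ (R.weq Y)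
    rw [← cancel_epi (G.map (L.map (R.ψ.app X)))]
    have h₁ : G.map (L.map (R.ψ.app X)) ≫ G.map (L.map f) =
        G.map (L.map (R.P.map f)) ≫ G.map (L.map (R.ψ.app Y)) := by
      have e : R.ψ.app X ≫ f = R.P.map f ≫ R.ψ.app Y := (R.ψ.naturality f).symm
      rw [← G.map_comp, ← L.map_comp, e, L.map_comp, G.map_comp]
    have h₂ : G.map (L.map (R.P.map f)) ≫ β.app (R.P.obj Y) =
        β.app (R.P.obj X) ≫ F.map (R.P.map f) := β.naturality (R.P.map f)
    dsimp
    rw [reassoc_of% h₁, IsIso.hom_inv_id_assoc, reassoc_of% h₂, Category.assoc, Category.assoc,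
      IsIso.hom_inv_id_assoc]
    congr 1
    exact (R.fac L).inv.naturality f

lemma lift₀_fac (X : C) : (R.lift₀ L G β).app X ≫ (R.counit L).app X = β.app X := by
  haveI : IsIso (L.map (R.ψ.app X)) := Localization.inverts L W _ (R.weq X)
  simp [lift₀, counit_app]
  exact (β.naturality (R.ψ.app X)).symm

/-- The lift of `β` to the derived functor. -/
noncomputable def lift : G ⟶ R.LF L :=
  Localization.liftNatTrans L W (L ⋙ G) (L ⋙ R.LF L) G (R.LF L) (R.lift₀ L G β)

lemma lift_app (X : C) : (R.lift L G β).app (L.obj X) = (R.lift₀ L G β).app X := by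
  simp [lift, Localization.Lifting.iso]

lemma lift_fac (X : C) : (R.lift L G β).app (L.obj X) ≫ (R.counit L).app X = β.app X := by
  rw [lift_app, lift₀_fac]

lemma lift_uniq (γ : G ⟶ R.LF L) (h : ∀ X, γ.app (L.obj X) ≫ (R.counit L).app X = β.app X) :
    γ = R.lift L G β := by
  refine Localization.natTrans_ext L W (fun X => ?_)
  haveI : IsIso (L.map (R.ψ.app X)) := Localization.inverts L W _ (R.weq X)
  haveI := R.isIso_counit_app L (R.good X)
  rw [← cancel_epi (G.map (L.map (R.ψ.app X)))]
  erw [γ.naturality, (R.lift L G β).naturality]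
  congr 1
  rw [← cancel_mono ((R.counit L).app (R.P.obj X)), h, lift_fac]

instance : Functor.IsRightKanExtension (R.LF L) (R.counit L) :=
  ⟨⟨IsTerminal.ofUniqueHom
    (fun E => CostructuredArrow.homMk (R.lift L E.left E.hom)
      (by ext X; exact R.lift_fac L E.left E.hom X))
    (fun E m => CostructuredArrow.hom_ext _ _ (R.lift_uniq L E.left E.hom m.left
      (fun X => congrArg (fun t => NatTrans.app t X) (CostructuredArrow.w m))))⟩⟩

instance : (R.LF L).IsLeftDerivedFunctor (R.counit L) W := ⟨inferInstance⟩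

include L R in
lemma hasLeftDerivedFunctor : F.HasLeftDerivedFunctor W :=
  Functor.HasLeftDerivedFunctor.mk' (R.LF L) (R.counit L)

include R in
/-- The chosen left derived functor computes `F` on good objects. -/
lemma isIso_totalLeftDerivedCounit [F.HasLeftDerivedFunctor W] {X : C} (hX : R.Good X) :
    IsIso ((F.totalLeftDerivedCounit L W).app X) := by
  let e := Functor.leftDerivedNatIso (R.LF L) (F.totalLeftDerived L W) (R.counit L)
    (F.totalLeftDerivedCounit L W) W (Iso.refl F)
  haveI := R.isIso_counit_app L hX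
  have h : e.hom.app (L.obj X) ≫ (F.totalLeftDerivedCounit L W).app X =
      (R.counit L).app X := by
    simp [e]
  haveI : IsIso (e.hom.app (L.obj X) ≫ (F.totalLeftDerivedCounit L W).app X) := by
    rw [h]; infer_instance
  exact IsIso.of_isIso_comp_left (e.hom.app (L.obj X)) _

end Resolution

end Main

section Descent

variable {K : Type u'''} [Category.{v'''} K] {W' : MorphismProperty K} (L' : K ⥤ D)
  [L'.IsLocalization W'] (q : C ⥤ K) (Wq : MorphismProperty C) [q.IsLocalization Wq]
  (e : q ⋙ L' ≅ L) (F' : K ⥤ H)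

namespace Resolution

variable [W.HasTwoOutOfThreeProperty] (R : Resolution W (q ⋙ F'))

/-- The counit on the intermediate category. -/
noncomputable def counit' : L' ⋙ R.LF L ⟶ F' :=
  Localization.liftNatTrans q Wq (q ⋙ L' ⋙ R.LF L) (q ⋙ F') (L' ⋙ R.LF L) F'
    ((Functor.associator q L' (R.LF L)).inv ≫ Functor.whiskerRight e.hom (R.LF L) ≫ R.counit L)

lemma counit'_app (X : C) : (R.counit' L L' q Wq e F').app (q.obj X) =
    (R.LF L).map (e.hom.app X) ≫ (R.counit L).app X := by
  simp [counit', Localization.Lifting.iso]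

lemma map_e (G : D ⥤ H) (γ : G ⟶ R.LF L) (X : C) :
    γ.app (L'.obj (q.obj X)) ≫ (R.counit' L L' q Wq e F').app (q.obj X) =
      G.map (e.hom.app X) ≫ γ.app (L.obj X) ≫ (R.counit L).app X := by
  rw [counit'_app]
  exact (γ.naturality_assoc (e.hom.app X) _).symm

lemma isRightKanExtension' : (R.LF L).IsRightKanExtension (R.counit' L L' q Wq e F') := by
  refine ⟨⟨IsTerminal.ofUniqueHom (fun E => CostructuredArrow.homMk
    (R.lift L E.left (Functor.whiskerRight e.inv E.left ≫
      (Functor.associator q L' E.left).hom ≫ Functor.whiskerLeft q E.hom)) ?_)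
    (fun E m => CostructuredArrow.hom_ext _ _ ?_)⟩⟩
  · refine Localization.natTrans_ext q Wq (fun X => ?_)
    refine (R.map_e L L' q Wq e F' E.left _ X).trans ?_
    erw [R.lift_fac L]
    simp [← Functor.map_comp_assoc]
  · refine R.lift_uniq L E.left _ m.left (fun X => ?_)
    have h := (R.map_e L L' q Wq e F' E.left m.left X).symm.trans
      (congrArg (fun t => NatTrans.app t (q.obj X)) (CostructuredArrow.w m))
    rw [← cancel_epi (E.left.map (e.hom.app X))]
    refine h.trans ?_
    simp [← Functor.map_comp_assoc]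

include L q Wq e R in
lemma hasLeftDerivedFunctor' : F'.HasLeftDerivedFunctor W' := by
  haveI : (R.LF L).IsLeftDerivedFunctor (R.counit' L L' q Wq e F') W' :=
    ⟨R.isRightKanExtension' L L' q Wq e F'⟩
  exact Functor.HasLeftDerivedFunctor.mk' (R.LF L) (R.counit' L L' q Wq e F')

include L Wq e R in
lemma isIso_totalLeftDerivedCounit' [F'.HasLeftDerivedFunctor W'] {X : C} (hX : R.Good X) :
    IsIso ((F'.totalLeftDerivedCounit L' W').app (q.obj X)) := by
  haveI : (R.LF L).IsLeftDerivedFunctor (R.counit' L L' q Wq e F') W' :=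
    ⟨R.isRightKanExtension' L L' q Wq e F'⟩
  let e' := Functor.leftDerivedNatIso (R.LF L) (F'.totalLeftDerived L' W')
    (R.counit' L L' q Wq e F') (F'.totalLeftDerivedCounit L' W') W' (Iso.refl F')
  haveI := R.isIso_counit_app L hX
  have h : e'.hom.app (L'.obj (q.obj X)) ≫ (F'.totalLeftDerivedCounit L' W').app (q.obj X) =
      (R.LF L).map (e.hom.app X) ≫ (R.counit L).app X := by
    rw [← R.counit'_app L L' q Wq e F' X]
    simp [e']
  haveI : IsIso (e'.hom.app (L'.obj (q.obj X)) ≫
      (F'.totalLeftDerivedCounit L' W').app (q.obj X)) := by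
    rw [h]; infer_instance
  exact IsIso.of_isIso_comp_left (e'.hom.app (L'.obj (q.obj X))) _

end Resolution

end Descent

end Groth.Agent.KFlatLib
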