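import Groth.Agent.KFlatLib.Step
import Mathlib.Algebra.Homology.Localization
import Mathlib.Algebra.Homology.HomotopyCategory.Acyclic
import Mathlib.CategoryTheory.Limits.FunctorCategory.Basic
import Mathlib.Algebra.Homology.HomologicalComplexLimits

/-!
# The functorial flat K-flat resolution
-/

set_option linter.style.haveILetI false

universe v u

open CategoryTheory CategoryTheory.Limits CochainComplex CochainComplex.HomComplex

namespace Groth.Agent.KFlatLib

variable {C : Type u} [Category.{v} C] [Abelian C]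

/-- A natural cover of every object by a "flat" one. -/
structure FlatCover (C : Type u) [Category.{v} C] [Abelian C] where
  /-- The class of flat objects. -/
  Flat : ObjectProperty C
  /-- The covering functor. -/
  G : C ⥤ C
  /-- The covering maps. -/
  π : G ⟶ 𝟭 C
  epi : ∀ X, Epi (π.app X)
  flat : ∀ X, Flat (G.obj X)
  of_iso : ∀ ⦃X Y : C⦄, (X ≅ Y) → Flat X → Flat Y
  biprod : ∀ X Y, Flat X → Flat Y → Flat (X ⊞ Y)
  zero : ∀ X, IsZero X → Flat X
  colim : ∀ ⦃F : ℕ ⥤ C⦄ (c : Cocone F), IsColimit c → (∀ k, Flat (F.obj k)) → Flat c.pt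

/-- The degree `n` term of a mapping cone as a biproduct. -/
noncomputable def mappingConeXBiprod {F G : CochainComplex C ℤ} (φ : F ⟶ G) (n : ℤ) :
    (mappingCone φ).X n ≅ F.X (n + 1) ⊞ G.X n where
  hom := biprod.lift ((mappingCone.fst φ).1.v n (n + 1) rfl) ((mappingCone.snd φ).v n n (add_zero n))
  inv := biprod.desc ((mappingCone.inl φ).v (n + 1) n (by omega)) ((mappingCone.inr φ).f n)
  hom_inv_id := by simp [mappingCone.id_X]
  inv_hom_id := by ext <;> simp

lemma quasiIso_of_acyclic_cone {F G : CochainComplex C ℤ} (φ : F ⟶ G)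
    (h : (mappingCone φ).Acyclic) : QuasiIso φ := by
  rw [← HomologicalComplex.mem_quasiIso_iff, ← HomotopyCategory.quotient_map_mem_quasiIso_iff,
    HomotopyCategory.quasiIso_eq_trW_subcategoryAcyclic]
  exact ((HomotopyCategory.subcategoryAcyclic C).trW_iff_of_distinguished _
    (HomotopyCategory.mappingCone_triangleh_distinguished φ)).2
      ((HomotopyCategory.quotient_obj_mem_subcategoryAcyclic_iff_acyclic _).2 h)

/-- A map out of a term of a mapping cone. -/
noncomputable def coneDesc {F G : CochainComplex C ℤ} (φ : F ⟶ G) (n : ℤ) {Z : C}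
    (a : F.X (n + 1) ⟶ Z) (b : G.X n ⟶ Z) : (mappingCone φ).X n ⟶ Z :=
  (mappingCone.fst φ).1.v n (n + 1) rfl ≫ a + (mappingCone.snd φ).v n n (add_zero n) ≫ b

@[reassoc]
lemma inl_coneDesc {F G : CochainComplex C ℤ} (φ : F ⟶ G) (n : ℤ) {Z : C}
    (a : F.X (n + 1) ⟶ Z) (b : G.X n ⟶ Z) :
    (mappingCone.inl φ).v (n + 1) n (by omega) ≫ coneDesc φ n a b = a := by
  simp [coneDesc]

@[reassoc]
lemma inr_coneDesc {F G : CochainComplex C ℤ} (φ : F ⟶ G) (n : ℤ) {Z : C}
    (a : F.X (n + 1) ⟶ Z) (b : G.X n ⟶ Z) :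
    (mappingCone.inr φ).f n ≫ coneDesc φ n a b = b := by
  simp [coneDesc]

lemma coneDesc_uniq {F G : CochainComplex C ℤ} (φ : F ⟶ G) (n : ℤ) {Z : C}
    (a : F.X (n + 1) ⟶ Z) (b : G.X n ⟶ Z) (m : (mappingCone φ).X n ⟶ Z)
    (ha : (mappingCone.inl φ).v (n + 1) n (by omega) ≫ m = a)
    (hb : (mappingCone.inr φ).f n ≫ m = b) : m = coneDesc φ n a b := by
  rw [mappingCone.ext_from_iff _ (n + 1) n rfl, inl_coneDesc, inr_coneDesc]
  exact ⟨ha, hb⟩

lemma map_eq_id {F G : CochainComplex C ℤ} (φ : F ⟶ G) {a : F ⟶ F} {b : G ⟶ G}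
    (w : φ ≫ b = a ≫ φ) (ha : a = 𝟙 F) (hb : b = 𝟙 G) : mappingCone.map φ φ a b w = 𝟙 _ := by
  subst ha hb
  exact mappingCone.map_id φ

lemma map_eq_comp {F G F' G' F'' G'' : CochainComplex C ℤ} {φ : F ⟶ G} {φ' : F' ⟶ G'}
    {φ'' : F'' ⟶ G''} {a : F ⟶ F'} {b : G ⟶ G'} {a' : F' ⟶ F''} {b' : G' ⟶ G''}
    {a'' : F ⟶ F''} {b'' : G ⟶ G''} (w : φ ≫ b = a ≫ φ') (w' : φ' ≫ b' = a' ≫ φ'')
    (w'' : φ ≫ b'' = a'' ≫ φ'') (ha : a'' = a ≫ a') (hb : b'' = b ≫ b') :
    mappingCone.map φ φ'' a'' b'' w'' =
      mappingCone.map φ φ' a b w ≫ mappingCone.map φ' φ'' a' b' w' := by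
  subst ha hb
  rw [← mappingCone.map_comp]

section QuasiIso

variable [HasColimitsOfShape ℕ C] {K : CochainComplex C ℤ} {X : ℕ ⥤ CochainComplex C ℤ}
  (a : X ⟶ (Functor.const ℕ).obj K) {cc : Cocone X} (hcc : IsColimit cc) (ψ : cc.pt ⟶ K)
  (hψ : ∀ k, cc.ι.app k ≫ ψ = a.app k)

include hψ in
lemma cocone_w (k : ℕ) : a.app k ≫ 𝟙 K = cc.ι.app k ≫ ψ :=
  (Category.comp_id _).trans (hψ k).symm

lemma seq_w {i j : ℕ} (h : i ⟶ j) : a.app i ≫ 𝟙 K = X.map h ≫ a.app j :=
  (a.naturality h).symm

/-- The maps between the cones. -/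
noncomputable def conesMap {i j : ℕ} (h : i ⟶ j) :
    mappingCone (a.app i) ⟶ mappingCone (a.app j) :=
  mappingCone.map _ _ (X.map h) (𝟙 K) (seq_w a h)

/-- The sequence of cones. -/
noncomputable def cones : ℕ ⥤ CochainComplex C ℤ where
  obj k := mappingCone (a.app k)
  map h := conesMap a h
  map_id k := map_eq_id _ _ (X.map_id k) rfl
  map_comp {i j l} h h' := map_eq_comp _ _ _ (X.map_comp h h')
    (Category.comp_id _).symm

/-- The cones map to the cone of `ψ`. -/
noncomputable def conesCocone : Cocone (cones a) where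
  pt := mappingCone ψ
  ι :=
    { app := fun k => mappingCone.map _ _ (cc.ι.app k) (𝟙 K)
        (cocone_w a ψ hψ k)
      naturality := fun i j h => (map_eq_comp (seq_w a h) _
        (cocone_w a ψ hψ i) (cc.w h).symm
        (Category.comp_id _).symm).symm.trans (Category.comp_id _).symm }

/-- The cone of `ψ` is the colimit of the cones. -/
noncomputable def isColimitConesCocone : IsColimit (conesCocone a ψ hψ) :=
  HomologicalComplex.isColimitOfEval _ _ fun n => by
    have hin : ∀ {Q Q' : CochainComplex C ℤ} (f : Q ⟶ K) (f' : Q' ⟶ K) (a : Q ⟶ Q')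
        (w : f ≫ 𝟙 K = a ≫ f'),
        (mappingCone.inl f).v (n + 1) n (by omega) ≫ (mappingCone.map f f' a (𝟙 K) w).f n =
            a.f (n + 1) ≫ (mappingCone.inl f').v (n + 1) n (by omega) ∧
          (mappingCone.inr f).f n ≫ (mappingCone.map f f' a (𝟙 K) w).f n =
            (mappingCone.inr f').f n := by
      intro Q Q' f f' a w
      simp [mappingCone.map]
    let hQ := isColimitOfPreserves (HomologicalComplex.eval C (ComplexShape.up ℤ) (n + 1))
      hcc
    let sQ : ∀ s : Cocone (cones a ⋙ HomologicalComplex.eval C (ComplexShape.up ℤ) n),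
        Cocone (X ⋙
          HomologicalComplex.eval C (ComplexShape.up ℤ) (n + 1)) := fun s =>
      { pt := s.pt
        ι :=
          { app := fun k => (mappingCone.inl (a.app k)).v (n + 1) n (by omega) ≫
              s.ι.app k
            naturality := fun i j h => by
              have := congrArg (fun t => t ≫ s.ι.app j)
                (hin (a.app i) (a.app j) (X.map h)
                  (seq_w a h)).1
              exact (Category.assoc _ _ _).symm.trans (this.symm.trans ((Category.assoc _ _ _).trans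
                ((congrArg _ (s.w h)).trans (Category.comp_id _).symm))) } }
    refine
      { desc := fun s => coneDesc ψ n (hQ.desc (sQ s))
            ((mappingCone.inr (a.app 0)).f n ≫ s.ι.app 0)
        fac := fun s k => ?_
        uniq := fun s m hm => ?_ }
    · change (mappingCone.map _ _ (cc.ι.app k) (𝟙 K)
        (cocone_w a ψ hψ k)).f n ≫ _ = _
      refine (mappingCone.ext_from_iff _ (n + 1) n rfl _ _).2 ⟨?_, ?_⟩
      · refine (reassoc_of% (hin _ _ _ _).1) _ |>.trans ?_
        erw [inl_coneDesc]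
        exact hQ.fac (sQ s) k
      · refine (reassoc_of% (hin _ _ _ _).2) _ |>.trans ?_
        erw [inr_coneDesc]
        have h0 : (mappingCone.inr (a.app 0)).f n ≫
            ((cones a).map (homOfLE (Nat.zero_le k))).f n =
              (mappingCone.inr (a.app k)).f n := (hin _ _ _ (seq_w a _)).2
        exact Eq.trans (congrArg _ (s.w (homOfLE (Nat.zero_le k))).symm)
          ((Category.assoc _ _ _).symm.trans (congrArg (fun t => t ≫ s.ι.app k) h0))
    · refine coneDesc_uniq ψ n _ _ m ?_ ?_
      · refine hQ.uniq (sQ s) _ fun k => ?_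
        change _ = (mappingCone.inl (a.app k)).v (n + 1) n _ ≫ s.ι.app k
        rw [← hm k]
        refine (Category.assoc _ _ _).symm.trans (Eq.trans ?_ (Category.assoc _ _ _))
        congr 1
        exact (hin _ _ _ (cocone_w a ψ hψ k)).1.symm
      · rw [← hm 0]
        refine Eq.trans ?_ (Category.assoc _ _ _)
        congr 1
        exact (hin _ _ _ (cocone_w a ψ hψ 0)).2.symm

variable [HasExactColimitsOfShape ℕ C]

include hcc hψ in
/-- If each step of a sequence over `K` kills the homology of the cone, the colimit maps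
quasi-isomorphically to `K`. -/
lemma quasiIso_of_kill
    (h : ∀ (k : ℕ) (n : ℤ), HomologicalComplex.homologyMap
      (conesMap a (homOfLE (Nat.le_succ k))) n = 0) : QuasiIso ψ :=
  quasiIso_of_acyclic_cone _
    (acyclic_of_isColimit (isColimitConesCocone a hcc ψ hψ) (fun k n => h k n))

end QuasiIso

variable (c : FlatCover C)

namespace FlatCover

/-- A stage of the resolution. -/
structure Stage (C : Type u) [Category.{v} C] [Abelian C] where
  /-- The functor. -/
  Q : CochainComplex C ℤ ⥤ CochainComplex C ℤ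
  /-- The augmentation. -/
  f : Q ⟶ 𝟭 _

lemma stage_w (s : Stage C) {K K' : CochainComplex C ℤ} (g : K ⟶ K') :
    s.f.app K ≫ g = s.Q.map g ≫ s.f.app K' := (s.f.naturality g).symm

/-- The next stage. -/
noncomputable def next (s : Stage C) : Stage C where
  Q :=
    { obj := fun K => stepQ c.π (s.f.app K)
      map := fun {K K'} g => stepMap c.π _ _ (s.Q.map g) g (stage_w s g)
      map_id := fun K => map_eq_id _ _ (by
          ext m
          refine (congrArg c.G.map ?_).trans (c.G.map_id _)
          exact (congrArg (fun t => HomologicalComplex.cyclesMap t _)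
            (map_eq_id _ _ (s.Q.map_id K) rfl)).trans (HomologicalComplex.cyclesMap_id _ _)) (s.Q.map_id K)
      map_comp := fun {K K' K''} g g' => map_eq_comp _ _ _ (by
          ext m
          refine (congrArg c.G.map ?_).trans (c.G.map_comp _ _)
          rw [map_eq_comp (stage_w s g) (stage_w s g') _ (s.Q.map_comp g g') rfl,
            HomologicalComplex.cyclesMap_comp]) (s.Q.map_comp g g') }
  f :=
    { app := fun K => stepF c.π (s.f.app K)
      naturality := fun K K' g => stepMap_stepF c.π _ _ _ g (stage_w s g) }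

/-- The inclusion in the next stage. -/
noncomputable def incl (s : Stage C) : s.Q ⟶ (c.next s).Q where
  app K := mappingCone.inr _
  naturality K K' g := by
    dsimp [next, stepMap, mappingCone.map]
    simp

lemma incl_f (s : Stage C) (K : CochainComplex C ℤ) :
    (c.incl s).app K ≫ (c.next s).f.app K = s.f.app K :=
  inr_stepF _ _

/-- The terms of the initial stage. -/
noncomputable abbrev A₀ (K : CochainComplex C ℤ) : ℤ → C := fun m => c.G.obj (K.X (m - 1))

/-- The initial homotopy. -/
noncomputable def htpy₀ (K : CochainComplex C ℤ) : Cochain (zeroCx (c.A₀ K)) K (-1) :=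
  Cochain.mk fun p q h => c.π.app (K.X (p - 1)) ≫ (K.XIsoOfEq (show p - 1 = q by omega)).hom

/-- The initial map. -/
noncomputable def map₀ (K : CochainComplex C ℤ) : zeroCx (c.A₀ K) ⟶ K :=
  zeroCxDesc (fun m => c.π.app (K.X (m - 1)) ≫ K.d (m - 1) m) (fun m => by simp)

lemma δ_htpy₀ (K : CochainComplex C ℤ) :
    δ (-1) 0 (c.htpy₀ K) = Cochain.ofHom (𝟙 _ ≫ c.map₀ K) := by
  ext m
  rw [δ_v (-1) 0 rfl _ m m (add_zero m) (m - 1) (m + 1) (by omega) (by omega)]
  simp [htpy₀, map₀, zeroCxDesc, zeroCx]
  erw [smul_zero, add_zero]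

/-- The map of the terms of the initial stage. -/
noncomputable def A₀Map {K K' : CochainComplex C ℤ} (g : K ⟶ K') :
    zeroCx (c.A₀ K) ⟶ zeroCx (c.A₀ K') :=
  zeroCxMap fun m => c.G.map (g.f (m - 1))

/-- The initial stage: contractible, and degreewise an epimorphism. -/
noncomputable def init : Stage C where
  Q :=
    { obj := fun K => mappingCone (𝟙 (zeroCx (c.A₀ K)))
      map := fun {K K'} g => mappingCone.map _ _ (c.A₀Map g) (c.A₀Map g) (by simp)
      map_id := fun K => map_eq_id _ _
        (by ext m; exact c.G.map_id _) (by ext m; exact c.G.map_id _)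
      map_comp := fun {K K' K''} g g' => map_eq_comp _ _ _
        (by ext m; exact c.G.map_comp _ _) (by ext m; exact c.G.map_comp _ _) }
  f :=
    { app := fun K => mappingCone.desc _ (c.htpy₀ K) (c.map₀ K) (c.δ_htpy₀ K)
      naturality := fun K K' g => by
        ext p
        rw [mappingCone.ext_from_iff _ (p + 1) p rfl]
        refine ⟨?_, ?_⟩
        · simp only [HomologicalComplex.comp_f, mappingCone.map, mappingCone.inl_v_desc_f_assoc,
            Cochain.zero_cochain_comp_v, Cochain.ofHom_v, Category.assoc,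
            mappingCone.inl_v_desc_f, Functor.id_map]
          change c.G.map (g.f (p + 1 - 1)) ≫ (c.π.app (K'.X (p + 1 - 1)) ≫
              (K'.XIsoOfEq (show p + 1 - 1 = p by omega)).hom) =
            (c.π.app (K.X (p + 1 - 1)) ≫ (K.XIsoOfEq (show p + 1 - 1 = p by omega)).hom) ≫ g.f p
          have hn := c.π.naturality (g.f (p + 1 - 1))
          dsimp at hn
          have key : ∀ (q : ℤ) (hq : q = p), g.f q ≫ (K'.XIsoOfEq hq).hom =
              (K.XIsoOfEq hq).hom ≫ g.f p := by
            intro q hq; subst hq; simp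
          erw [reassoc_of% hn, key _ (by omega)]
          exact (Category.assoc _ _ _).symm
        · simp only [HomologicalComplex.comp_f, mappingCone.map, mappingCone.inr_f_desc_f_assoc,
            Category.assoc, mappingCone.inr_f_desc_f, Functor.id_map]
          change c.G.map (g.f (p - 1)) ≫ (c.π.app (K'.X (p - 1)) ≫ K'.d (p - 1) p) =
            (c.π.app (K.X (p - 1)) ≫ K.d (p - 1) p) ≫ g.f p
          have hn := c.π.naturality (g.f (p - 1))
          dsimp at hn
          erw [reassoc_of% hn, g.comm]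
          exact (Category.assoc _ _ _).symm }

/-- The stages. -/
noncomputable def stage : ℕ → Stage C
  | 0 => c.init
  | k + 1 => c.next (stage k)

/-- The sequence of stages. -/
noncomputable def seq : ℕ ⥤ (CochainComplex C ℤ ⥤ CochainComplex C ℤ) :=
  Functor.ofSequence (X := fun k => (c.stage k).Q) (fun k => c.incl (c.stage k))

lemma seq_map_succ (k : ℕ) :
    c.seq.map (homOfLE (Nat.le_add_right k 1)) = c.incl (c.stage k) :=
  Functor.ofSequence_map_homOfLE_succ _ k

/-- The augmentation of the sequence. -/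
noncomputable def seqCocone : Cocone c.seq :=
  Cocone.mk (𝟭 _) (NatTrans.ofSequence (F := c.seq) (fun k => (c.stage k).f) (fun k => by
    rw [seq_map_succ]
    ext K : 2
    simp only [Functor.const_obj_map, NatTrans.comp_app, NatTrans.id_app]
    exact (c.incl_f (c.stage k) K).trans (Category.comp_id _).symm))

variable [HasColimitsOfShape ℕ C]

/-- The resolution functor. -/
noncomputable def P : CochainComplex C ℤ ⥤ CochainComplex C ℤ := colimit c.seq

/-- The resolution map. -/
noncomputable def ψ : c.P ⟶ 𝟭 _ := colimit.desc c.seq c.seqCocone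

/-- The colimit cocone at a complex. -/
noncomputable def coconeAt (K : CochainComplex C ℤ) :
    Cocone (c.seq ⋙ (evaluation _ _).obj K) :=
  ((evaluation _ _).obj K).mapCocone (colimit.cocone c.seq)

/-- It is a colimit cocone. -/
noncomputable def isColimitCoconeAt (K : CochainComplex C ℤ) : IsColimit (c.coconeAt K) :=
  isColimitOfPreserves _ (colimit.isColimit c.seq)

lemma coconeAt_ψ (K : CochainComplex C ℤ) (k : ℕ) :
    (c.coconeAt K).ι.app k ≫ c.ψ.app K = (c.stage k).f.app K :=
  (NatTrans.congr_app (colimit.ι_desc c.seqCocone k) K :)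

lemma epi_ψ_f (K : CochainComplex C ℤ) (n : ℤ) : Epi ((c.ψ.app K).f n) := by
  haveI := c.epi
  have h : ((c.coconeAt K).ι.app 0).f n ≫ (c.ψ.app K).f n = (c.init.f.app K).f n :=
    congrArg (fun φ => HomologicalComplex.Hom.f φ n) (c.coconeAt_ψ K 0)
  have e : (mappingCone.inl (𝟙 (zeroCx (c.A₀ K)))).v (n + 1) n (by omega) ≫
      (c.init.f.app K).f n =
        c.π.app (K.X (n + 1 - 1)) ≫ (K.XIsoOfEq (show n + 1 - 1 = n by omega)).hom := by
    simp [init, htpy₀]
    rfl
  have he : Epi ((c.init.f.app K).f n) := by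
    refine @epi_of_epi _ _ _ _ _ ((mappingCone.inl (𝟙 (zeroCx (c.A₀ K)))).v (n + 1) n (by omega)) _ ?_
    rw [e]
    exact @epi_comp _ _ _ _ _ _ (c.epi _) (K.XIsoOfEq (show n + 1 - 1 = n by omega)).hom
      (by infer_instance)
  refine @epi_of_epi _ _ _ _ _ (((c.coconeAt K).ι.app 0).f n) _ ?_
  rw [h]
  exact he

lemma flat_stage (k : ℕ) (K : CochainComplex C ℤ) (n : ℤ) :
    c.Flat (((c.stage k).Q.obj K).X n) := by
  induction k generalizing n with
  | zero => exact c.of_iso (mappingConeXBiprod _ n).symm (c.biprod _ _ (c.flat _) (c.flat _))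
  | succ k ih =>
    exact c.of_iso (mappingConeXBiprod (genMap c.π ((c.stage k).f.app K)) n).symm
      (c.biprod _ _ (c.flat _) (ih n))

lemma flat_P (K : CochainComplex C ℤ) (n : ℤ) : c.Flat ((c.P.obj K).X n) :=
  c.colim _ (isColimitOfPreserves (HomologicalComplex.eval C (ComplexShape.up ℤ) n)
    (c.isColimitCoconeAt K)) (fun k => c.flat_stage k K n)

section QuasiIso

variable [HasExactColimitsOfShape ℕ C]

lemma quasiIso_ψ (K : CochainComplex C ℤ) : QuasiIso (c.ψ.app K) := by
  haveI := c.epi
  let a : c.seq ⋙ (evaluation _ _).obj K ⟶ (Functor.const ℕ).obj K :=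
    { app := fun k => (c.stage k).f.app K
      naturality := fun i j h => (NatTrans.congr_app (c.seqCocone.ι.naturality h) K :) }
  refine quasiIso_of_kill a (c.isColimitCoconeAt K) (c.ψ.app K) (c.coconeAt_ψ K) (fun k n => ?_)
  have : conesMap a (homOfLE (Nat.le_succ k)) = coneStep c.π ((c.stage k).f.app K) := by
    have hk := NatTrans.congr_app (c.seq_map_succ k) K
    simp only [conesMap, coneStep]
    congr 1
  rw [this]
  exact homologyMap_coneStep c.π _ n

end QuasiIso

end FlatCover

end Groth.Agent.KFlatLib
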