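import Groth.Agent.KFlatLib.Resolution
import Mathlib.Algebra.Homology.HomotopyCategory.HomComplexSingle
import Mathlib.Algebra.Homology.Embedding.CochainComplex

/-!
# Consequences of the generic theory: K-flatness of the resolution and of bounded above flat
complexes
-/

set_option linter.style.haveILetI false

universe v u

open CategoryTheory CategoryTheory.Limits CochainComplex CochainComplex.HomComplex

namespace Groth.Agent.KFlatLib

variable {C : Type u} [Category.{v} C] [Abelian C]

section ZeroCx

variable [∀ S : Type, HasColimitsOfShape (Discrete S) C] (A : ℤ → C)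

/-- The cofan presenting a complex with zero differential as the sum of its terms. -/
noncomputable def zeroCxCofan :
    Cofan (fun j : ℤ => (HomologicalComplex.single C (ComplexShape.up ℤ) j).obj (A j)) :=
  Cofan.mk (zeroCx A) fun j => HomologicalComplex.mkHomFromSingle (K := zeroCx A) (𝟙 (A j))
    (fun _ _ => comp_zero)

/-- It is a colimit cofan. -/
noncomputable def isColimitZeroCxCofan : IsColimit (zeroCxCofan A) :=
  HomologicalComplex.isColimitOfEval _ _ fun m =>
    { desc := fun s => (HomologicalComplex.singleObjXSelf (ComplexShape.up ℤ) m (A m)).inv ≫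
        s.ι.app ⟨m⟩
      fac := fun s ⟨j⟩ => by
        by_cases h : j = m
        · subst h
          change (HomologicalComplex.mkHomFromSingle (K := zeroCx A) (𝟙 (A j))
            (fun _ _ => comp_zero)).f j ≫ _ = _
          rw [HomologicalComplex.mkHomFromSingle_f]
          erw [Category.comp_id, Iso.hom_inv_id_assoc]
        · exact (HomologicalComplex.isZero_single_obj_X (ComplexShape.up ℤ) j (A j) m
            (Ne.symm h)).eq_of_src _ _
      uniq := fun s φ hφ => by
        rw [← hφ ⟨m⟩]
        change φ = _ ≫ (HomologicalComplex.mkHomFromSingle (K := zeroCx A) (𝟙 (A m))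
            (fun _ _ => comp_zero)).f m ≫ φ
        rw [HomologicalComplex.mkHomFromSingle_f]
        erw [Category.comp_id, Iso.inv_hom_id_assoc] }

variable {T : C ⥤ C ⥤ C} [T.Additive] [∀ Y, (T.obj Y).Additive]
  [∀ S : Type, HasExactColimitsOfShape (Discrete S) C]
  [∀ Y, PreservesColimitsOfShape (Discrete ℤ) (T.obj Y)]

/-- A complex with zero differential and flat terms is K-flat. -/
lemma kFlat_zeroCx (h : ∀ j, FlatObj T (A j)) : KFlat T (zeroCx A) :=
  (kFlat_sigma _ (fun j => kFlat_single (A j) j (h j))).of_iso
    ((coproductIsCoproduct _).coconePointUniqueUpToIso (isColimitZeroCxCofan A))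

variable [HasColimitsOfShape ℕ C] [HasExactColimitsOfShape ℕ C]
  [∀ Y, PreservesColimitsOfShape ℕ (T.obj Y)]

namespace FlatCover

variable (c : FlatCover C) (hc : ∀ X, c.Flat X → FlatObj T X)

include hc in
lemma kFlat_stage (k : ℕ) (K : CochainComplex C ℤ) : KFlat T ((c.stage k).Q.obj K) := by
  induction k with
  | zero => exact kFlat_cone_id _
  | succ k ih =>
    exact kFlat_cone (T := T) (genMap c.π ((c.stage k).f.app K))
      (kFlat_zeroCx _ (fun j => hc _ (c.flat _))) ih

include hc in
/-- The resolution is K-flat. -/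
lemma kFlat_P (K : CochainComplex C ℤ) : KFlat T (c.P.obj K) :=
  kFlat_of_isColimit (c.isColimitCoconeAt K) (fun k => c.kFlat_stage hc k K)

end FlatCover

end ZeroCx

section BoundedAbove

variable [∀ S : Type, HasColimitsOfShape (Discrete S) C]
  [∀ S : Type, HasExactColimitsOfShape (Discrete S) C]
  (T : C ⥤ C ⥤ C) [T.Additive] [∀ Y, (T.obj Y).Additive] (K : CochainComplex C ℤ)

/-- A K-flat approximation of `K` in degrees `≥ n`. -/
structure Trunc (n : ℤ) where
  /-- The complex. -/
  Q : CochainComplex C ℤ
  /-- The comparison map. -/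
  q : Q ⟶ K
  kFlat : KFlat T Q
  zero : ∀ m, m < n → IsZero (Q.X m)
  iso : ∀ m, n ≤ m → IsIso (q.f m)

variable {T K}

/-- Add one degree to an approximation. -/
noncomputable def Trunc.next {n : ℤ} (t : Trunc T K n) (h : FlatObj T (K.X (n - 1))) :
    Σ' t' : Trunc T K (n - 1), { a : t.Q ⟶ t'.Q // a ≫ t'.q = t.q } :=
  let g : (HomologicalComplex.single C (ComplexShape.up ℤ) n).obj (K.X (n - 1)) ⟶ t.Q :=
    haveI := t.iso n le_rfl
    HomologicalComplex.mkHomFromSingle (K.d (n - 1) n ≫ inv (t.q.f n)) (fun k hk => by
      obtain rfl : n + 1 = k := hk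
      haveI := t.iso (n + 1) (by omega)
      rw [← cancel_mono (t.q.f (n + 1)), Category.assoc, Category.assoc, ← t.q.comm,
        IsIso.inv_hom_id_assoc]
      simp)
  let γ : Cochain ((singleFunctor C n).obj (K.X (n - 1))) K (-1) :=
    Cochain.fromSingleMk (𝟙 (K.X (n - 1))) (show n + -1 = n - 1 by omega)
  have hγ : δ (-1) 0 γ = Cochain.ofHom (g ≫ t.q) := by
    haveI := t.iso n le_rfl
    rw [Cochain.δ_fromSingleMk _ _ 0 n (by omega), Category.id_comp]
    ext m
    by_cases hm : m = n
    · subst hm
      rw [Cochain.fromSingleMk_v]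
      erw [Cochain.ofHom_v, HomologicalComplex.comp_f, HomologicalComplex.mkHomFromSingle_f]
      erw [Category.assoc, Category.assoc, IsIso.inv_hom_id, Category.comp_id]
      rfl
    · exact (HomologicalComplex.isZero_single_obj_X _ _ _ _ hm).eq_of_src _ _
  ⟨{ Q := mappingCone g
     q := mappingCone.desc g γ t.q hγ
     kFlat := kFlat_cone g (kFlat_single (K.X (n - 1)) n h) t.kFlat
     zero := fun m hm => IsZero.of_iso
       ((biprod_isZero_iff _ _).2 ⟨HomologicalComplex.isZero_single_obj_X _ _ _ _ (by omega),
         t.zero m (by omega)⟩) (mappingConeXBiprod g m)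
     iso := fun m hm => by
       by_cases hn : m = n - 1
       · subst hn
         have hz := t.zero (n - 1) (by omega)
         have hinl : IsIso ((mappingCone.inl g).v (n - 1 + 1) (n - 1) (by omega)) :=
           ⟨(mappingCone.fst g).1.v (n - 1) (n - 1 + 1) rfl, by simp, by
             have : (mappingCone.inr g).f (n - 1) = 0 := hz.eq_of_src _ _
             exact ((add_eq_left.2 (by rw [this, comp_zero])).symm.trans
               (mappingCone.id_X g (n - 1) (n - 1 + 1) rfl))⟩
         have he : (mappingCone.inl g).v (n - 1 + 1) (n - 1) (by omega) ≫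
             (mappingCone.desc g γ t.q hγ).f (n - 1) =
               γ.v (n - 1 + 1) (n - 1) (by omega) := mappingCone.inl_v_desc_f _ _ _ _ _ _ _
         have hgen : ∀ (p : ℤ) (hp : p + -1 = n - 1), IsIso (γ.v p (n - 1) hp) := by
           intro p hp
           obtain rfl : n = p := by omega
           have e : γ.v n (n - 1) hp =
               (HomologicalComplex.singleObjXSelf (ComplexShape.up ℤ) n (K.X (n - 1))).hom := by
             simp [γ]
           rw [e]
           exact Iso.isIso_hom _
         haveI := hgen (n - 1 + 1) (by omega)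
         haveI : IsIso ((mappingCone.inl g).v (n - 1 + 1) (n - 1) (by omega) ≫
             (mappingCone.desc g γ t.q hγ).f (n - 1)) := by
           rw [he]; exact hgen _ _
         exact IsIso.of_isIso_comp_left ((mappingCone.inl g).v (n - 1 + 1) (n - 1) _) _
       · have hz : IsZero (((HomologicalComplex.single C (ComplexShape.up ℤ) n).obj
             (K.X (n - 1))).X (m + 1)) :=
           HomologicalComplex.isZero_single_obj_X _ _ _ _ (by omega)
         haveI : IsIso ((mappingCone.inr g).f m) :=
           ⟨(mappingCone.snd g).v m m (add_zero m), by simp, by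
             have : (mappingCone.inl g).v (m + 1) m (by omega) = 0 := hz.eq_of_src _ _
             exact ((add_eq_right.2 (by rw [this, comp_zero])).symm.trans
               (mappingCone.id_X g m (m + 1) rfl))⟩
         haveI : IsIso ((mappingCone.inr g).f m ≫ (mappingCone.desc g γ t.q hγ).f m) := by
           rw [mappingCone.inr_f_desc_f]; exact t.iso m (by omega)
         exact IsIso.of_isIso_comp_left ((mappingCone.inr g).f m) _ },
   mappingCone.inr g, mappingCone.inr_desc g γ t.q hγ⟩

variable [HasColimitsOfShape ℕ C] [HasExactColimitsOfShape ℕ C]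
  [∀ Y, PreservesColimitsOfShape ℕ (T.obj Y)]

/-- A bounded above complex of flat objects is K-flat. -/
lemma kFlat_of_isStrictlyLE (b : ℤ) [CochainComplex.IsStrictlyLE K b] (h : ∀ n, FlatObj T (K.X n)) :
    KFlat T K := by
  let t₀ : Trunc T K (b + 1) :=
    { Q := HomologicalComplex.zero
      q := { f := fun _ => 0 }
      kFlat := kFlat_of_isZero HomologicalComplex.isZero_zero
      zero := fun m _ => isZero_zero C
      iso := fun m hm => by
        have hz : IsZero (K.X m) := CochainComplex.isZero_of_isStrictlyLE K b m (by omega)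
        exact ⟨0, (isZero_zero C).eq_of_src _ _, hz.eq_of_src _ _⟩ }
  let t : ∀ k : ℕ, Σ n : ℤ, Trunc T K n := fun k => Nat.rec ⟨b + 1, t₀⟩
    (fun _ s => ⟨s.1 - 1, (s.2.next (h _)).1⟩) k
  have ht : ∀ k : ℕ, (t k).1 = b + 1 - k := by
    intro k
    induction k with
    | zero => simp [t]
    | succ k ih =>
      have : (t (k + 1)).1 = (t k).1 - 1 := rfl
      rw [this, ih]; push_cast; ring
  let X : ℕ ⥤ CochainComplex C ℤ :=
    Functor.ofSequence (X := fun k => (t k).2.Q) (fun k => ((t k).2.next (h _)).2.1)
  let c : Cocone X := Cocone.mk K (NatTrans.ofSequence (F := X) (fun k => (t k).2.q) (fun k => by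
    rw [Functor.ofSequence_map_homOfLE_succ]
    exact ((t k).2.next (h _)).2.2.trans (Category.comp_id _).symm))
  have hc : IsColimit c := HomologicalComplex.isColimitOfEval _ _ fun m => by
    let k₀ : ℕ := (b + 1 - m).toNat
    have hi : ∀ k, k₀ ≤ k → IsIso ((c.ι.app k).f m) := fun k hk =>
      (t k).2.iso m (by rw [ht]; omega)
    haveI := hi k₀ le_rfl
    refine
      { desc := fun s => @inv _ _ _ _ ((c.ι.app k₀).f m) (hi k₀ le_rfl) ≫ s.ι.app k₀
        fac := fun s k => ?_
        uniq := fun s φ hφ => by
          rw [← hφ k₀]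
          exact (@IsIso.inv_hom_id_assoc _ _ _ _ ((c.ι.app k₀).f m) (hi k₀ le_rfl) _ _).symm }
    change (c.ι.app k).f m ≫ _ = _
    rcases le_total k k₀ with hk | hk
    · have h₁ := congrArg (fun φ => HomologicalComplex.Hom.f φ m) (c.w (homOfLE hk))
      simp only [HomologicalComplex.comp_f] at h₁
      rw [← h₁, Category.assoc]
      erw [IsIso.hom_inv_id_assoc]
      exact s.w (homOfLE hk)
    · haveI := hi k hk
      have h₁ := congrArg (fun φ => HomologicalComplex.Hom.f φ m) (c.w (homOfLE hk))
      simp only [HomologicalComplex.comp_f] at h₁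
      have h₂ : (X.map (homOfLE hk)).f m ≫ s.ι.app k = s.ι.app k₀ := s.w (homOfLE hk)
      haveI : IsIso ((X.map (homOfLE hk)).f m ≫ (c.ι.app k).f m) := by rw [h₁]; infer_instance
      haveI : IsIso ((X.map (homOfLE hk)).f m) := IsIso.of_isIso_comp_right _ ((c.ι.app k).f m)
      rw [← cancel_epi ((X.map (homOfLE hk)).f m), h₂, ← Category.assoc]
      erw [h₁, IsIso.hom_inv_id_assoc]
  exact kFlat_of_isColimit hc (fun k => (t k).2.kFlat)

end BoundedAbove

section Symmetry

variable [∀ S : Type, HasColimitsOfShape (Discrete S) C]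
  {T T' : C ⥤ C ⥤ C} [T.Additive] [∀ Y, (T.obj Y).Additive] [T'.Additive]
  [∀ Y, (T'.obj Y).Additive]

/-- The map of total complexes induced by a natural transformation of bifunctors. -/
noncomputable def congrHom (α : T ⟶ T') (L K : CochainComplex C ℤ) :
    (T.map₂CochainComplex.obj L).obj K ⟶ (T'.map₂CochainComplex.obj L).obj K where
  f n := HomologicalComplex.mapBifunctorDesc (fun p q h =>
    (α.app (L.X p)).app (K.X q) ≫
      HomologicalComplex.ιMapBifunctor L K T' (ComplexShape.up ℤ) p q n h)
  comm' n n' hn := by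
    refine HomologicalComplex.mapBifunctor.hom_ext (fun p q h => ?_)
    change p + q = n at h
    obtain rfl : n + 1 = n' := hn
    erw [HomologicalComplex.ι_mapBifunctorDesc_assoc]
    refine (Category.assoc _ _ _).trans ?_
    change _ ≫ _ ≫ (HomologicalComplex.mapBifunctor L K T' (ComplexShape.up ℤ)).d n (n + 1) =
      HomologicalComplex.ιMapBifunctor L K T (ComplexShape.up ℤ) p q n h ≫
        (HomologicalComplex.mapBifunctor L K T (ComplexShape.up ℤ)).d n (n + 1) ≫ _
    rw [HomologicalComplex.mapBifunctor.d_eq, HomologicalComplex.mapBifunctor.d_eq]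
    simp only [Preadditive.comp_add, Preadditive.add_comp,
      HomologicalComplex.mapBifunctor.ι_D₁, HomologicalComplex.mapBifunctor.ι_D₂,
      HomologicalComplex.mapBifunctor.ι_D₁_assoc, HomologicalComplex.mapBifunctor.ι_D₂_assoc]
    rw [HomologicalComplex.mapBifunctor.d₁_eq _ _ _ _ (show (ComplexShape.up ℤ).Rel p (p + 1) from rfl)
        q (n + 1) (show p + 1 + q = n + 1 by omega),
      HomologicalComplex.mapBifunctor.d₁_eq _ _ _ _ (show (ComplexShape.up ℤ).Rel p (p + 1) from rfl)
        q (n + 1) (show p + 1 + q = n + 1 by omega),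
      HomologicalComplex.mapBifunctor.d₂_eq _ _ _ _ p (show (ComplexShape.up ℤ).Rel q (q + 1) from rfl)
        (n + 1) (show p + (q + 1) = n + 1 by omega),
      HomologicalComplex.mapBifunctor.d₂_eq _ _ _ _ p (show (ComplexShape.up ℤ).Rel q (q + 1) from rfl)
        (n + 1) (show p + (q + 1) = n + 1 by omega)]
    simp only [Linear.units_smul_comp, Linear.comp_units_smul, Category.assoc,
      HomologicalComplex.ι_mapBifunctorDesc]
    have e₁ : (α.app (L.X p)).app (K.X q) ≫ (T'.map (L.d p (p + 1))).app (K.X q) =
        (T.map (L.d p (p + 1))).app (K.X q) ≫ (α.app (L.X (p + 1))).app (K.X q) :=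
      (NatTrans.congr_app (α.naturality (L.d p (p + 1))) (K.X q)).symm
    have e₂ : (α.app (L.X p)).app (K.X q) ≫ (T'.obj (L.X p)).map (K.d q (q + 1)) =
        (T.obj (L.X p)).map (K.d q (q + 1)) ≫ (α.app (L.X p)).app (K.X (q + 1)) :=
      ((α.app (L.X p)).naturality (K.d q (q + 1))).symm
    rw [reassoc_of% e₁, reassoc_of% e₂]
    erw [HomologicalComplex.ι_mapBifunctorDesc, HomologicalComplex.ι_mapBifunctorDesc]
    rfl

@[reassoc]
lemma ι_congrHom (α : T ⟶ T') (L K : CochainComplex C ℤ) (p q n : ℤ) (h : p + q = n) :
    HomologicalComplex.ιMapBifunctor L K T (ComplexShape.up ℤ) p q n h ≫ (congrHom α L K).f n =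
      (α.app (L.X p)).app (K.X q) ≫
        HomologicalComplex.ιMapBifunctor L K T' (ComplexShape.up ℤ) p q n h := by
  dsimp only [congrHom]
  exact HomologicalComplex.ι_mapBifunctorDesc _ _ _ h

/-- Isomorphic bifunctors give isomorphic total complexes, naturally in the second variable. -/
noncomputable def congrIso (e : T ≅ T') (L : CochainComplex C ℤ) :
    T.map₂CochainComplex.obj L ≅ T'.map₂CochainComplex.obj L :=
  NatIso.ofComponents
    (fun K =>
      { hom := congrHom e.hom L K
        inv := congrHom e.inv L K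
        hom_inv_id := by
          ext n : 1
          refine HomologicalComplex.mapBifunctor.hom_ext (fun p q h => ?_)
          change p + q = n at h
          erw [ι_congrHom_assoc, Category.assoc, ι_congrHom, Category.comp_id, ← Category.assoc,
            ← NatTrans.comp_app, ← NatTrans.comp_app, e.hom_inv_id]
          exact Category.id_comp _
        inv_hom_id := by
          ext n : 1
          refine HomologicalComplex.mapBifunctor.hom_ext (fun p q h => ?_)
          change p + q = n at h
          erw [ι_congrHom_assoc, Category.assoc, ι_congrHom, Category.comp_id, ← Category.assoc,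
            ← NatTrans.comp_app, ← NatTrans.comp_app, e.inv_hom_id]
          exact Category.id_comp _ })
    (fun {K K'} f => by
      ext n : 1
      change (HomologicalComplex.mapBifunctorMap (𝟙 L) f T (ComplexShape.up ℤ)).f n ≫
          (congrHom e.hom L K').f n =
        (congrHom e.hom L K).f n ≫
          (HomologicalComplex.mapBifunctorMap (𝟙 L) f T' (ComplexShape.up ℤ)).f n
      refine HomologicalComplex.mapBifunctor.hom_ext (fun p q h => ?_)
      change p + q = n at h
      rw [HomologicalComplex.ι_mapBifunctorMap_assoc, ι_congrHom]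
      erw [ι_congrHom_assoc, Category.assoc, HomologicalComplex.ι_mapBifunctorMap]
      simp
      exact NatTrans.naturality_assoc (e.hom.app (L.X p)) (f.f q) _)

/-- For a symmetric bifunctor the total complex is symmetric. -/
noncomputable def symmIso (e : T.flip ≅ T) (K : CochainComplex C ℤ) :
    T.map₂CochainComplex.flip.obj K ≅ T.map₂CochainComplex.obj K :=
  flipIso T K ≪≫ congrIso e K

end Symmetry

section QuasiIso

variable [∀ S : Type, HasColimitsOfShape (Discrete S) C]
  [∀ S : Type, HasExactColimitsOfShape (Discrete S) C]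
  [HasColimitsOfShape ℕ C] [HasExactColimitsOfShape ℕ C]
  {T : C ⥤ C ⥤ C} [T.Additive] [∀ Y, (T.obj Y).Additive]

omit [HasColimitsOfShape ℕ C] [HasExactColimitsOfShape ℕ C] in
lemma KFlat.quasiIso_map' (e : T.flip ≅ T) {K : CochainComplex C ℤ} (hK : KFlat T K)
    {F G : CochainComplex C ℤ} (f : F ⟶ G) [QuasiIso f] :
    QuasiIso ((T.map₂CochainComplex.obj K).map f) := by
  haveI := hK.quasiIso_map f
  exact (quasiIso_iff_of_arrow_mk_iso ((T.map₂CochainComplex.flip.obj K).map f)
    ((T.map₂CochainComplex.obj K).map f)
    (((Functor.mapArrowFunctor _ _).mapIso (symmIso e K)).app (Arrow.mk f))).1 (by assumption)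

variable [∀ Y, PreservesColimitsOfShape (Discrete ℤ) (T.obj Y)]
  [∀ Y, PreservesColimitsOfShape ℕ (T.obj Y)]

/-- A quasi-isomorphism between K-flat complexes stays one after tensoring with anything. -/
lemma quasiIso_tensor (c : FlatCover C) (hc : ∀ X, c.Flat X → FlatObj T X) (e : T.flip ≅ T)
    {P Q : CochainComplex C ℤ} (α : P ⟶ Q) [QuasiIso α] (hP : KFlat T P) (hQ : KFlat T Q)
    (F : CochainComplex C ℤ) : QuasiIso ((T.map₂CochainComplex.obj F).map α) := by
  haveI := c.quasiIso_ψ F
  haveI : QuasiIso ((T.map₂CochainComplex.map (c.ψ.app F)).app P) :=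
    hP.quasiIso_map (c.ψ.app F)
  haveI : QuasiIso ((T.map₂CochainComplex.map (c.ψ.app F)).app Q) :=
    hQ.quasiIso_map (c.ψ.app F)
  haveI : QuasiIso ((T.map₂CochainComplex.obj (c.P.obj F)).map α) :=
    (c.kFlat_P hc F).quasiIso_map' e α
  have h := (T.map₂CochainComplex.map (c.ψ.app F)).naturality α
  haveI : QuasiIso ((T.map₂CochainComplex.map (c.ψ.app F)).app P ≫
      (T.map₂CochainComplex.obj F).map α) := by
    erw [← h]
    exact quasiIso_comp _ _
  exact quasiIso_of_comp_left ((T.map₂CochainComplex.map (c.ψ.app F)).app P) _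

end QuasiIso

section Factor

variable [HasColimitsOfShape ℕ C] (c : FlatCover C)

/-- A complex over `L`, and a map to it from `K` over `L`. -/
structure Over' (L : CochainComplex C ℤ) where
  /-- The complex. -/
  Q : CochainComplex C ℤ
  /-- The map. -/
  f : Q ⟶ L

/-- The sequence over `L` starting at `a`. -/
noncomputable def factorStage {K L : CochainComplex C ℤ} (a : K ⟶ L) : ℕ → Over' L
  | 0 => ⟨K, a⟩
  | k + 1 => ⟨stepQ c.π (factorStage a k).f, stepF c.π (factorStage a k).f⟩

/-- The sequence. -/
noncomputable def factorSeq {K L : CochainComplex C ℤ} (a : K ⟶ L) : ℕ ⥤ CochainComplex C ℤ :=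
  Functor.ofSequence (X := fun k => (factorStage c a k).Q)
    (fun k => mappingCone.inr (genMap c.π (factorStage c a k).f))

/-- Its maps to `L`. -/
noncomputable def factorAug {K L : CochainComplex C ℤ} (a : K ⟶ L) :
    factorSeq c a ⟶ (Functor.const ℕ).obj L :=
  NatTrans.ofSequence (F := factorSeq c a) (fun k => (factorStage c a k).f) (fun k => by
    have hk : (factorSeq c a).map (homOfLE (Nat.le_add_right k 1)) =
        mappingCone.inr (genMap c.π (factorStage c a k).f) :=
      Functor.ofSequence_map_homOfLE_succ _ k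
    rw [hk]
    exact (inr_stepF _ _).trans (Category.comp_id _).symm)

omit [HasColimitsOfShape ℕ C] in
lemma flat_factorStage {K L : CochainComplex C ℤ} (a : K ⟶ L) (h : ∀ n, c.Flat (K.X n))
    (k : ℕ) (n : ℤ) : c.Flat ((factorStage c a k).Q.X n) := by
  induction k generalizing n with
  | zero => exact h n
  | succ k ih =>
    exact c.of_iso (mappingConeXBiprod (genMap c.π (factorStage c a k).f) n).symm
      (c.biprod _ _ (c.flat _) (ih n))

variable [∀ S : Type, HasColimitsOfShape (Discrete S) C]
  [∀ S : Type, HasExactColimitsOfShape (Discrete S) C] [HasExactColimitsOfShape ℕ C]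
  {T : C ⥤ C ⥤ C} [T.Additive] [∀ Y, (T.obj Y).Additive]
  [∀ Y, PreservesColimitsOfShape (Discrete ℤ) (T.obj Y)]
  [∀ Y, PreservesColimitsOfShape ℕ (T.obj Y)] (hc : ∀ X, c.Flat X → FlatObj T X)

include hc in
/-- Any map from a K-flat complex factors through a K-flat complex quasi-isomorphic to the
target. -/
lemma factor_through_kFlat {K L : CochainComplex C ℤ} (a : K ⟶ L) (hK : KFlat T K) :
    ∃ (N : CochainComplex C ℤ) (b : K ⟶ N) (q : N ⟶ L), KFlat T N ∧ QuasiIso q ∧ b ≫ q = a ∧
      ((∀ n, c.Flat (K.X n)) → ∀ n, c.Flat (N.X n)) := by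
  haveI := c.epi
  refine ⟨colimit (factorSeq c a), colimit.ι (factorSeq c a) 0,
    colimit.desc _ (Cocone.mk L (factorAug c a)), ?_, ?_, colimit.ι_desc _ 0, fun h n => ?_⟩
  · refine kFlat_of_isColimit (colimit.isColimit _) (fun k => ?_)
    induction k with
    | zero => exact hK
    | succ k ih =>
      exact kFlat_cone (T := T) (genMap c.π (factorStage c a k).f)
        (kFlat_zeroCx _ (fun j => hc _ (c.flat _))) ih
  · refine quasiIso_of_kill (factorAug c a) (colimit.isColimit _) _
      (fun k => colimit.ι_desc _ k) (fun k n => ?_)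
    have : conesMap (factorAug c a) (homOfLE (Nat.le_succ k)) =
        coneStep c.π (factorStage c a k).f := by
      have hk : (factorSeq c a).map (homOfLE (Nat.le_succ k)) =
          mappingCone.inr (genMap c.π (factorStage c a k).f) :=
        Functor.ofSequence_map_homOfLE_succ _ k
      simp only [conesMap, coneStep]
      congr 1
    rw [this]
    exact homologyMap_coneStep c.π _ n
  · exact c.colim _ (isColimitOfPreserves (HomologicalComplex.eval C (ComplexShape.up ℤ) n)
      (colimit.isColimit (factorSeq c a))) (fun k => flat_factorStage c a h k n)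

end Factor

end Groth.Agent.KFlatLib
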