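import Groth.Agent.H9Misc.TotalMapNat
import Mathlib.CategoryTheory.Adjunction.Unique

/-!
# Comparisons of total complexes as natural isomorphisms in the first variable
-/

set_option linter.style.haveILetI false

universe v₁ u₁ v₂ u₂ v u v₁' u₁' v₂' u₂' v' u'

open CategoryTheory CategoryTheory.Limits

namespace Groth.Agent.KFlatLib

/-- A functor on cochain complexes, termwise. -/
noncomputable abbrev mapCx {A : Type u} [Category.{v} A] [Preadditive A] {B : Type u'}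
    [Category.{v'} B] [Preadditive B] (F : A ⥤ B) [F.Additive] :
    CochainComplex A ℤ ⥤ CochainComplex B ℤ :=
  F.mapHomologicalComplex (ComplexShape.up ℤ)

section General

variable {A₁ : Type u₁} [Category.{v₁} A₁] [Preadditive A₁]
  {A₂ : Type u₂} [Category.{v₂} A₂] [Preadditive A₂]
  {A : Type u} [Category.{v} A] [Abelian A] [∀ S : Type, HasColimitsOfShape (Discrete S) A]
  {B₁ : Type u₁'} [Category.{v₁'} B₁] [Preadditive B₁]
  {B₂ : Type u₂'} [Category.{v₂'} B₂] [Preadditive B₂]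
  {B : Type u'} [Category.{v'} B] [Abelian B] [∀ S : Type, HasColimitsOfShape (Discrete S) B]
  {Φ₁ : A₁ ⥤ B₁} {Φ₂ : A₂ ⥤ B₂} {Ψ : A ⥤ B} [Φ₁.Additive] [Φ₂.Additive] [Ψ.Additive]
  {T : A₁ ⥤ A₂ ⥤ A} [T.Additive] [∀ X, (T.obj X).Additive]
  {T' : B₁ ⥤ B₂ ⥤ B} [T'.Additive] [∀ X, (T'.obj X).Additive]
  [∀ J : Type, PreservesColimitsOfShape (Discrete J) Ψ]
  (θ : T ⋙ (Functor.whiskeringRight A₂ A B).obj Ψ ≅
    Φ₁ ⋙ T' ⋙ (Functor.whiskeringLeft A₂ B₂ B).obj Φ₂)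

/-- The comparison of total complexes, natural in the first variable. -/
noncomputable def totalMapNatIso (K : CochainComplex A₂ ℤ) :
    Φ₁.mapHomologicalComplex (ComplexShape.up ℤ) ⋙
        T'.map₂CochainComplex.flip.obj ((Φ₂.mapHomologicalComplex (ComplexShape.up ℤ)).obj K) ≅
      T.map₂CochainComplex.flip.obj K ⋙ Ψ.mapHomologicalComplex (ComplexShape.up ℤ) :=
  NatIso.ofComponents (fun L => totalMapIso θ L K)
    (fun {_ _} α => H9Misc.TotalMapNat.totalMapIso_hom_naturality θ α K)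

end General

section Left

variable {A₁ : Type u₁} [Category.{v₁} A₁] [Preadditive A₁]
  {A₂ : Type u₂} [Category.{v₂} A₂] [Preadditive A₂]
  {A : Type u} [Category.{v} A] [Abelian A] [∀ S : Type, HasColimitsOfShape (Discrete S) A]
  {B₁ : Type u₁'} [Category.{v₁'} B₁] [Preadditive B₁]
  {B : Type u'} [Category.{v'} B] [Abelian B] [∀ S : Type, HasColimitsOfShape (Discrete S) B]
  {Φ₁ : A₁ ⥤ B₁} {Ψ : A ⥤ B} [Φ₁.Additive] [Ψ.Additive]
  {T : A₁ ⥤ A₂ ⥤ A} [T.Additive] [∀ X, (T.obj X).Additive]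
  {T' : B₁ ⥤ A₂ ⥤ B} [T'.Additive] [∀ X, (T'.obj X).Additive]
  [∀ J : Type, PreservesColimitsOfShape (Discrete J) Ψ]
  (θ : T ⋙ (Functor.whiskeringRight A₂ A B).obj Ψ ≅
    Φ₁ ⋙ T' ⋙ (Functor.whiskeringLeft A₂ A₂ B).obj (𝟭 A₂))

/-- The case of an identity on the second variable. -/
noncomputable def totalLeftIso (K : CochainComplex A₂ ℤ) :
    Φ₁.mapHomologicalComplex (ComplexShape.up ℤ) ⋙ T'.map₂CochainComplex.flip.obj K ≅
      T.map₂CochainComplex.flip.obj K ⋙ Ψ.mapHomologicalComplex (ComplexShape.up ℤ) :=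
  Functor.isoWhiskerLeft _ (T'.map₂CochainComplex.flip.mapIso
      ((Functor.mapHomologicalComplexIdIso A₂ (ComplexShape.up ℤ)).app K).symm) ≪≫
    totalMapNatIso θ K

end Left

section Right

variable {A₁ : Type u₁} [Category.{v₁} A₁] [Preadditive A₁]
  {A₂ : Type u₂} [Category.{v₂} A₂] [Preadditive A₂]
  {A : Type u} [Category.{v} A] [Abelian A] [∀ S : Type, HasColimitsOfShape (Discrete S) A]
  {B₂ : Type u₂'} [Category.{v₂'} B₂] [Preadditive B₂]
  {Φ₂ : A₂ ⥤ B₂} [Φ₂.Additive]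
  {T : A₁ ⥤ A₂ ⥤ A} [T.Additive] [∀ X, (T.obj X).Additive]
  {T' : A₁ ⥤ B₂ ⥤ A} [T'.Additive] [∀ X, (T'.obj X).Additive]
  (θ : T ⋙ (Functor.whiskeringRight A₂ A A).obj (𝟭 A) ≅
    (𝟭 A₁) ⋙ T' ⋙ (Functor.whiskeringLeft A₂ B₂ A).obj Φ₂)

/-- The case of identities on the first variable and on the target. -/
noncomputable def totalRightIso (K : CochainComplex A₂ ℤ) :
    T.map₂CochainComplex.flip.obj K ≅
      T'.map₂CochainComplex.flip.obj ((Φ₂.mapHomologicalComplex (ComplexShape.up ℤ)).obj K) :=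
  (Functor.rightUnitor _).symm ≪≫
    Functor.isoWhiskerLeft _ (Functor.mapHomologicalComplexIdIso A (ComplexShape.up ℤ)).symm ≪≫
    (totalMapNatIso θ K).symm ≪≫
    Functor.isoWhiskerRight (Functor.mapHomologicalComplexIdIso A₁ (ComplexShape.up ℤ)) _ ≪≫
    Functor.leftUnitor _

end Right

section Proj

variable {A₂ : Type u₂} [Category.{v₂} A₂] [Preadditive A₂]
  {A : Type u} [Category.{v} A] [Abelian A] [∀ S : Type, HasColimitsOfShape (Discrete S) A]
  {B : Type u'} [Category.{v'} B] [Abelian B] [∀ S : Type, HasColimitsOfShape (Discrete S) B]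
  {Ψ : A ⥤ B} [Ψ.Additive] [∀ J : Type, PreservesColimitsOfShape (Discrete J) Ψ]
  {R : A₂ ⥤ A} [R.Additive]
  {T : A ⥤ A ⥤ A} [T.Additive] [∀ X, (T.obj X).Additive]
  {S : B ⥤ A₂ ⥤ B} [S.Additive] [∀ X, (S.obj X).Additive]
  (θ : (T ⋙ (Functor.whiskeringLeft A₂ A A).obj R) ⋙ (Functor.whiskeringRight A₂ A B).obj Ψ ≅
    Ψ ⋙ S ⋙ (Functor.whiskeringLeft A₂ A₂ B).obj (𝟭 A₂))

/-- A projection formula passes to complexes. The functors on complexes are given up to equality,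
so that the conclusion can be stated with the names they carry. -/
noncomputable def totalProjIso
    (Pc : CochainComplex A ℤ ⥤ CochainComplex B ℤ) (hP : Pc = mapCx Ψ)
    (Rc : CochainComplex A₂ ℤ ⥤ CochainComplex A ℤ) (hR : Rc = mapCx R)
    (Tc : CochainComplex A ℤ ⥤ CochainComplex A ℤ ⥤ CochainComplex A ℤ) (hT : Tc = T.map₂CochainComplex)
    (Sc : CochainComplex B ℤ ⥤ CochainComplex A₂ ℤ ⥤ CochainComplex B ℤ) (hS : Sc = S.map₂CochainComplex)
    (K : CochainComplex A₂ ℤ) :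
    Pc ⋙ Sc.flip.obj K ≅ Tc.flip.obj (Rc.obj K) ⋙ Pc :=
  haveI : ∀ X, ((T ⋙ (Functor.whiskeringLeft A₂ A A).obj R).obj X).Additive := fun X =>
    inferInstanceAs (R ⋙ T.obj X).Additive
  haveI : (T ⋙ (Functor.whiskeringLeft A₂ A A).obj R).Additive :=
    { map_add := by intros; ext; simp }
  eqToIso (by subst hP hS; rfl) ≪≫ totalLeftIso θ K ≪≫ Functor.isoWhiskerRight
    (totalRightIso (T := T ⋙ (Functor.whiskeringLeft A₂ A A).obj R) (T' := T) (Φ₂ := R) (Iso.refl _) K) _ ≪≫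
    eqToIso (by subst hP hR hT; rfl)

/-- The right adjoints of a projection formula on complexes. -/
noncomputable def totalProjAdjIso
    (Pc : CochainComplex A ℤ ⥤ CochainComplex B ℤ) (hP : Pc = mapCx Ψ)
    (Rc : CochainComplex A₂ ℤ ⥤ CochainComplex A ℤ) (hR : Rc = mapCx R)
    (Tc : CochainComplex A ℤ ⥤ CochainComplex A ℤ ⥤ CochainComplex A ℤ) (hT : Tc = T.map₂CochainComplex)
    (Sc : CochainComplex B ℤ ⥤ CochainComplex A₂ ℤ ⥤ CochainComplex B ℤ) (hS : Sc = S.map₂CochainComplex)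
    {Rs : CochainComplex B ℤ ⥤ CochainComplex A ℤ} (a : Pc ⊣ Rs) (K : CochainComplex A₂ ℤ)
    {iS : CochainComplex B ℤ ⥤ CochainComplex B ℤ} (aS : Sc.flip.obj K ⊣ iS)
    {iT : CochainComplex A ℤ ⥤ CochainComplex A ℤ} (aT : Tc.flip.obj (Rc.obj K) ⊣ iT) :
    iS ⋙ Rs ≅ Rs ⋙ iT :=
  ((a.comp aS).ofNatIsoLeft (totalProjIso θ Pc hP Rc hR Tc hT Sc hS K)).rightAdjointUniq (aT.comp a)

end Proj

end Groth.Agent.KFlatLib
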