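import Groth.Agent.KFlatLib.InnerGen
import Groth.Agent.KFlatLib.TotalMapFlip

/-!
# The internal hom commutes with a right adjoint satisfying the projection formula
-/

set_option linter.style.haveILetI false

universe u

open CategoryTheory CategoryTheory.Limits

namespace Groth.Agent.KFlatLib.Inner

variable {A : Type (u + 1)} [Category.{u} A] [Abelian A] [IsGrothendieckAbelian.{u} A]
  [∀ S : Type, HasColimitsOfShape (Discrete S) A]
  {B : Type (u + 1)} [Category.{u} B] [Abelian B] [IsGrothendieckAbelian.{u} B]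
  [∀ S : Type, HasColimitsOfShape (Discrete S) B]
  {Ψ : A ⥤ B} [Ψ.Additive] [∀ J : Type, PreservesColimitsOfShape (Discrete J) Ψ]
  {R : B ⥤ A} [R.Additive]
  {T : A ⥤ A ⥤ A} [T.Additive] [∀ X, (T.obj X).Additive]
  [∀ X, PreservesColimitsOfSize.{u, u} (T.flip.obj X)]
  {S : B ⥤ B ⥤ B} [S.Additive] [∀ X, (S.obj X).Additive]
  [∀ X, PreservesColimitsOfSize.{u, u} (S.flip.obj X)]
  (θ : (T ⋙ (Functor.whiskeringLeft B A A).obj R) ⋙ (Functor.whiskeringRight B A B).obj Ψ ≅
    Ψ ⋙ S ⋙ (Functor.whiskeringLeft B B B).obj (𝟭 B))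

/-- The internal hom commutes with `R`. -/
noncomputable def innerHomProjIso
    (Pc : CochainComplex A ℤ ⥤ CochainComplex B ℤ) (hP : Pc = mapCx Ψ)
    (Rc : CochainComplex B ℤ ⥤ CochainComplex A ℤ) (hR : Rc = mapCx R)
    (a : Pc ⊣ Rc) (K : CochainComplex B ℤ) :
    innerHom S K ⋙ Rc ≅ Rc ⋙ innerHom T (Rc.obj K) :=
  totalProjAdjIso θ Pc hP Rc hR _ rfl _ rfl a K (innerAdj S K) (innerAdj T (Rc.obj K))

end Groth.Agent.KFlatLib.Inner
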