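import Mathlib.CategoryTheory.Adjunction.Basic
import Mathlib.CategoryTheory.Equivalence

/-!
# Mates of isomorphisms along equivalences
-/

universe v₁ v₂ u₁ u₂

open CategoryTheory

namespace Groth.Agent.KFlatLib

variable {C : Type u₁} [Category.{v₁} C] {D : Type u₂} [Category.{v₂} D]
  {L : C ⥤ D} {G : D ⥤ C}

/-- The mate of an isomorphism between equivalences. -/
theorem isIso_mate (adj : L ⊣ G) {F₁ : C ⥤ C} {F₂ : D ⥤ D} [F₁.IsEquivalence] [F₂.IsEquivalence]
    (α : F₁ ⋙ L ≅ L ⋙ F₂) (M : D) :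
    IsIso (adj.homEquiv (F₁.obj (G.obj M)) (F₂.obj M)
      (α.hom.app (G.obj M) ≫ F₂.map (adj.counit.app M))) := by
  refine isIso_of_yoneda_map_bijective _ fun Z => ?_
  let W := F₁.objPreimage Z
  let e : F₁.obj W ≅ Z := F₁.objObjPreimageIso Z
  let Φ : (W ⟶ G.obj M) ≃ (Z ⟶ G.obj (F₂.obj M)) :=
    (adj.homEquiv W M).symm.trans (((Functor.FullyFaithful.ofFullyFaithful F₂).homEquiv).trans
      ((Iso.homFromEquiv (α.app W).symm).trans ((adj.homEquiv (F₁.obj W) (F₂.obj M)).trans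
        (Iso.homFromEquiv e))))
  let Ψ : (W ⟶ G.obj M) ≃ (Z ⟶ F₁.obj (G.obj M)) :=
    ((Functor.FullyFaithful.ofFullyFaithful F₁).homEquiv).trans (Iso.homFromEquiv e)
  have h : ∀ b, Ψ b ≫ adj.homEquiv (F₁.obj (G.obj M)) (F₂.obj M)
      (α.hom.app (G.obj M) ≫ F₂.map (adj.counit.app M)) = Φ b := fun b => by
    simp only [Φ, Ψ, Equiv.trans_apply, Iso.homFromEquiv_apply, Iso.symm_inv, Iso.app_hom,
      Functor.FullyFaithful.homEquiv_apply, Category.assoc]
    rw [← adj.homEquiv_naturality_left, Adjunction.homEquiv_counit, F₂.map_comp]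
    have := α.hom.naturality b
    simp only [Functor.comp_map] at this
    rw [reassoc_of% this]
  refine ⟨fun a a' ha => ?_, fun y => ⟨Ψ (Φ.symm y), (h _).trans (Φ.apply_symm_apply y)⟩⟩
  rw [← Ψ.apply_symm_apply a, ← Ψ.apply_symm_apply a'] at ha ⊢
  simp only [h] at ha
  exact congrArg Ψ (Φ.injective ha)

/-- The transpose of a map composed with `α` factors through the mate. -/
theorem adjunct_eq_mate (adj : L ⊣ G) {F₁ : C ⥤ C} {F₂ : D ⥤ D} (α : F₁ ⋙ L ≅ L ⋙ F₂) {R : C} {M : D}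
    (a : R ⟶ G.obj M) :
    adj.homEquiv (F₁.obj R) (F₂.obj M) (α.hom.app R ≫ F₂.map ((adj.homEquiv R M).symm a)) =
      F₁.map a ≫ adj.homEquiv (F₁.obj (G.obj M)) (F₂.obj M)
        (α.hom.app (G.obj M) ≫ F₂.map (adj.counit.app M)) := by
  rw [← adj.homEquiv_naturality_left, Adjunction.homEquiv_counit, F₂.map_comp]
  have := α.hom.naturality a
  simp only [Functor.comp_map] at this
  rw [reassoc_of% this]

end Groth.Agent.KFlatLib
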