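import Mathlib.Algebra.Homology.Embedding.StupidTrunc
import Mathlib.Algebra.Homology.Embedding.CochainComplex
import Mathlib.Algebra.Homology.HomologicalComplexAbelian

/-!
# Brutal truncation of cochain complexes
-/

set_option linter.style.haveILetI false

open CategoryTheory CategoryTheory.Limits

namespace Groth.Agent.KFlatLib

variable {C : Type*} [Category C] [Abelian C] (F : CochainComplex C ℤ) (m : ℤ)

omit [Abelian C] in
lemma eqToHom_d [HasZeroMorphisms C] (K : CochainComplex C ℤ) {a a' b b' : ℤ} (ha : a' = a)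
    (hb : b' = b) : eqToHom (congrArg K.X ha) ≫ K.d a b = K.d a' b' ≫ eqToHom (congrArg K.X hb) := by
  subst ha hb
  simp

open Classical in
/-- The components of the inclusion of the brutal truncation. -/
noncomputable def sigmaGEιf (n : ℤ) :
    (F.stupidTrunc (ComplexShape.embeddingUpIntGE m)).X n ⟶ F.X n :=
  if h : ∃ i, (ComplexShape.embeddingUpIntGE m).f i = n then
    (F.stupidTruncXIso _ h.choose_spec).hom else 0

lemma sigmaGEιf_eq {n : ℤ} {i : ℕ} (h : (ComplexShape.embeddingUpIntGE m).f i = n) :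
    sigmaGEιf F m n = (F.stupidTruncXIso _ h).hom := by
  have h' : ∃ i, (ComplexShape.embeddingUpIntGE m).f i = n := ⟨i, h⟩
  have hc : h'.choose = i :=
    (ComplexShape.embeddingUpIntGE m).injective_f (h'.choose_spec.trans h.symm)
  rw [sigmaGEιf, dif_pos h']
  subst hc
  rfl

/-- The inclusion of the brutal truncation in degrees `≥ m`. -/
noncomputable def sigmaGEι : F.stupidTrunc (ComplexShape.embeddingUpIntGE m) ⟶ F where
  f := sigmaGEιf F m
  comm' n n' hn := by
    obtain rfl : n + 1 = n' := hn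
    by_cases h : m ≤ n
    · obtain ⟨k, rfl⟩ := Int.le.dest h
      have e1 : (ComplexShape.embeddingUpIntGE m).f k = m + k := rfl
      have e2 : (ComplexShape.embeddingUpIntGE m).f (k + 1) = m + k + 1 := by
        change m + ((k + 1 : ℕ) : ℤ) = _
        push_cast
        omega
      rw [sigmaGEιf_eq F m e1, sigmaGEιf_eq F m e2]
      simp [HomologicalComplex.stupidTrunc, HomologicalComplex.stupidTruncXIso,
        HomologicalComplex.extend_d_eq _ _ e1 e2,
        HomologicalComplex.restrictionXIso]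
      exact eqToHom_d F e1 e2
    · exact (F.isZero_stupidTrunc_X _ n fun i hi => h (by
        rw [← hi]; change m ≤ m + (i : ℤ); omega)).eq_of_src _ _

lemma isIso_sigmaGEι_f (n : ℤ) (hn : m ≤ n) : IsIso ((sigmaGEι F m).f n) := by
  obtain ⟨k, rfl⟩ := Int.le.dest hn
  change IsIso (sigmaGEιf F m (m + k))
  rw [sigmaGEιf_eq F m (i := k) (n := m + k) rfl]
  infer_instance

lemma isZero_stupidTrunc_of_lt (n : ℤ) (hn : n < m) :
    IsZero ((F.stupidTrunc (ComplexShape.embeddingUpIntGE m)).X n) :=
  F.isZero_stupidTrunc_X _ n fun i hi => by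
    change m + (i : ℤ) = n at hi
    omega

lemma mono_sigmaGEι_f (n : ℤ) : Mono ((sigmaGEι F m).f n) := by
  rcases lt_or_ge n m with h | h
  · exact ⟨fun a b _ => (isZero_stupidTrunc_of_lt F m n h).eq_of_tgt _ _⟩
  · haveI := isIso_sigmaGEι_f F m n h
    infer_instance

instance mono_sigmaGEι : Mono (sigmaGEι F m) :=
  HomologicalComplex.mono_of_mono_f _ (mono_sigmaGEι_f F m)

/-- The short exact sequence of the brutal truncation. -/
noncomputable def sigmaSES : ShortComplex (CochainComplex C ℤ) :=
  ShortComplex.mk (sigmaGEι F m) (cokernel.π _) (cokernel.condition _)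

lemma sigmaSES_shortExact : (sigmaSES F m).ShortExact where
  exact := ShortComplex.exact_of_g_is_cokernel _ (cokernelIsCokernel _)
  mono_f := inferInstanceAs (Mono (sigmaGEι F m))
  epi_g := inferInstanceAs (Epi (cokernel.π (sigmaGEι F m)))

lemma isStrictlyLE_sigmaSES_X₃ : (sigmaSES F m).X₃.IsStrictlyLE (m - 1) := by
  rw [CochainComplex.isStrictlyLE_iff]
  intro i hi
  have h := (sigmaSES_shortExact F m).map_of_exact (HomologicalComplex.eval C (ComplexShape.up ℤ) i)
  haveI : Epi ((sigmaSES F m).map (HomologicalComplex.eval C (ComplexShape.up ℤ) i)).g := h.epi_g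
  haveI : IsIso (((sigmaSES F m).map (HomologicalComplex.eval C (ComplexShape.up ℤ) i)).f) :=
    isIso_sigmaGEι_f F m i (by omega)
  exact @IsZero.of_epi_eq_zero _ _ _ _ _ ((sigmaSES F m).map (HomologicalComplex.eval C (ComplexShape.up ℤ) i)).g h.epi_g
    ((cancel_epi ((sigmaSES F m).map (HomologicalComplex.eval C (ComplexShape.up ℤ) i)).f).1
      (((sigmaSES F m).map (HomologicalComplex.eval C (ComplexShape.up ℤ) i)).zero.trans
        comp_zero.symm))

lemma nonempty_sigmaSES_X₃_iso (n : ℤ) (hn : n < m) : Nonempty (F.X n ≅ (sigmaSES F m).X₃.X n) := by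
  have h := (sigmaSES_shortExact F m).map_of_exact (HomologicalComplex.eval C (ComplexShape.up ℤ) n)
  haveI := h.epi_g
  haveI : Mono ((sigmaSES F m).map (HomologicalComplex.eval C (ComplexShape.up ℤ) n)).g :=
    h.exact.mono_g ((isZero_stupidTrunc_of_lt F m n hn).eq_of_src _ _)
  exact ⟨@asIso _ _ _ _ ((sigmaSES F m).map (HomologicalComplex.eval C (ComplexShape.up ℤ) n)).g
    (@isIso_of_mono_of_epi _ _ _ _ _ _ ‹_› h.epi_g)⟩

end Groth.Agent.KFlatLib
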