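import Groth.Agent.KFlatLib.Single

/-!
# Tensoring with an object placed in degree zero
-/

set_option linter.style.haveILetI false

universe v u

open CategoryTheory CategoryTheory.Limits

namespace Groth.Agent.KFlatLib

variable {C : Type u} [Category.{v} C] [Abelian C] [∀ S : Type, HasColimitsOfShape (Discrete S) C]
  (T : C ⥤ C ⥤ C) [T.Additive] [∀ Y, (T.obj Y).Additive]

/-- `L ⊗ P[0]` is `L` with `- ⊗ P` applied termwise. -/
noncomputable def singleIso (P : C) :
    T.map₂CochainComplex.flip.obj ((HomologicalComplex.single C (ComplexShape.up ℤ) 0).obj P) ≅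
      (T.flip.obj P).mapHomologicalComplex (ComplexShape.up ℤ) :=
  (NatIso.ofComponents
    (fun L => HomologicalComplex.Hom.isoOfComponents
      (fun n => @asIso _ _ _ _ (singleSummand (T := T) L P 0 n n (add_zero n))
        (isIso_singleSummand L P 0 _ _ _))
      (fun i j hij => by
        change i + 1 = j at hij
        exact singleSummand_d L P 0 i j i j (add_zero i) (add_zero j) hij))
    (fun {L L'} f => by
      ext n
      change (T.map (f.f n)).app P ≫ singleSummand (T := T) L' P 0 n n (add_zero n) =
        singleSummand (T := T) L P 0 n n (add_zero n) ≫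
          (HomologicalComplex.mapBifunctorMap f (𝟙 _) T (ComplexShape.up ℤ)).f n
      simp only [singleSummand, Category.assoc]
      erw [HomologicalComplex.ι_mapBifunctorMap]
      simp [NatTrans.naturality_assoc])).symm

end Groth.Agent.KFlatLib
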