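import Groth.Agent.KFlatLib.InnerGen
import Groth.Agent.KFlatLib.SingleIso
import Mathlib.Algebra.Homology.BifunctorShift
import Mathlib.Algebra.Homology.HomotopyCategory.SingleFunctors
import Mathlib.Algebra.Homology.Additive

/-!
# The internal hom out of a unit placed in one degree, and out of zero
-/

set_option linter.style.haveILetI false
set_option backward.isDefEq.respectTransparency false

universe u

open CategoryTheory CategoryTheory.Limits

namespace Groth.Agent.KFlatLib.Inner

variable {C : Type (u + 1)} [Category.{u} C] [Abelian C] [IsGrothendieckAbelian.{u} C]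
  [∀ S : Type, HasColimitsOfShape (Discrete S) C]
  (T : C ⥤ C ⥤ C) [T.Additive] [∀ X, (T.obj X).Additive]

/-- `- ⊗ P⟦y⟧` is `- ⊗ P` shifted by `y`. -/
noncomputable def tensorShiftIso (P : CochainComplex C ℤ) (y : ℤ) :
    tenX T (P⟦y⟧) ≅ tenX T P ⋙ shiftFunctor _ y :=
  NatIso.ofComponents (fun L => ((T.map₂CochainComplex.obj L).commShiftIso y).app P)
    (fun {L L'} f => (NatTrans.shift_app_comm (T.map₂CochainComplex.map f) y P).symm)

/-- `- ⊗ E[j]` is a shift when `- ⊗ E` is the identity. -/
noncomputable def tensorUnitShiftIso (E : C) (e : T.flip.obj E ≅ 𝟭 C) (j : ℤ) :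
    tenX T ((HomologicalComplex.single C (ComplexShape.up ℤ) j).obj E) ≅
      shiftFunctor (CochainComplex C ℤ) (-j) :=
  T.map₂CochainComplex.flip.mapIso
      (((CochainComplex.singleFunctors C).shiftIso (-j) j 0 (by omega)).app E).symm ≪≫
    tensorShiftIso T _ (-j) ≪≫
    Functor.isoWhiskerRight (singleIso T E ≪≫ NatIso.mapHomologicalComplex e (ComplexShape.up ℤ) ≪≫
      Functor.mapHomologicalComplexIdIso _ _) _ ≪≫
    Functor.leftUnitor _

variable [∀ X, PreservesColimitsOfSize.{u, u} (T.flip.obj X)]

/-- The internal hom out of a unit in degree `j` is the shift by `j`. -/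
noncomputable def innerHomUnitIso (E : C) (e : T.flip.obj E ≅ 𝟭 C) (j : ℤ) :
    innerHom T ((HomologicalComplex.single C (ComplexShape.up ℤ) j).obj E) ≅
      shiftFunctor (CochainComplex C ℤ) j :=
  (innerAdj T _).rightAdjointUniq
    ((shiftEquiv' (CochainComplex C ℤ) (-j) j (by omega)).toAdjunction.ofNatIsoLeft
      (tensorUnitShiftIso T E e j).symm)

/-- The internal hom out of zero vanishes. -/
lemma isZero_innerHom {P : CochainComplex C ℤ} (hP : IsZero P) (I : CochainComplex C ℤ) :
    IsZero ((innerHom T P).obj I) := by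
  refine (IsZero.iff_id_eq_zero _).2 (((innerAdj T P).homEquiv _ _).symm.injective ?_)
  have h : IsZero ((tenX T P).obj ((innerHom T P).obj I)) :=
    Functor.map_isZero (T.map₂CochainComplex.obj _) hP
  exact h.eq_of_src _ _

/-- Contravariant functoriality on isomorphisms. -/
noncomputable def innerHomIso {P P' : CochainComplex C ℤ} (e : P ≅ P') :
    innerHom T P ≅ innerHom T P' :=
  conjugateIsoEquiv (innerAdj T P) (innerAdj T P') (T.map₂CochainComplex.flip.mapIso e.symm)

end Groth.Agent.KFlatLib.Inner
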