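import Mathlib.Algebra.Homology.DerivedCategory.KProjective
import Mathlib.Algebra.Homology.DerivedCategory.ExactFunctor
import Mathlib.Algebra.Homology.DerivedCategory.FullyFaithful
import Mathlib.Algebra.Homology.DerivedCategory.HomologySequence
import Mathlib.Algebra.Homology.HomotopyCategory.HomComplexSingle
import Mathlib.Algebra.Homology.SingleHomology
import Mathlib.Algebra.Homology.ShortComplex.PreservesHomology
import Mathlib.Algebra.Homology.ShortComplex.HomologicalComplex

/-!
# `Hom(P[-n], L) ⟶ Hom(P, H^n L)`, and exact functors between derived categories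
-/

set_option linter.style.haveILetI false

universe w w' v v' u u'

open CategoryTheory CategoryTheory.Limits CochainComplex.HomComplex

namespace Groth.Agent.KFlatLib

variable {C : Type u} [Category.{v} C] [Abelian C] [HasDerivedCategory.{w} C]

/-- `H^n(F[-n]) ≅ F`. -/
noncomputable def hSingle (n : ℤ) (F : C) :
    (DerivedCategory.homologyFunctor C n).obj ((DerivedCategory.singleFunctor C n).obj F) ≅ F :=
  (DerivedCategory.singleFunctorCompHomologyFunctorIso C n).app F

/-- `Hom(F[-n], L) ⟶ Hom(F, H^n L)`. -/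
noncomputable def psiC (n : ℤ) (F : C) (L : DerivedCategory C)
    (φ : (DerivedCategory.singleFunctor C n).obj F ⟶ L) :
    F ⟶ (DerivedCategory.homologyFunctor C n).obj L :=
  (hSingle n F).inv ≫ (DerivedCategory.homologyFunctor C n).map φ

lemma psiC_comp {n : ℤ} {F : C} {L M : DerivedCategory C}
    (φ : (DerivedCategory.singleFunctor C n).obj F ⟶ L) (f : L ⟶ M) :
    psiC n F M (φ ≫ f) = psiC n F L φ ≫ (DerivedCategory.homologyFunctor C n).map f := by
  simp [psiC]

lemma psiC_single_map {n : ℤ} {F F' : C} {L : DerivedCategory C} (a : F' ⟶ F)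
    (φ : (DerivedCategory.singleFunctor C n).obj F ⟶ L) :
    psiC n F' L ((DerivedCategory.singleFunctor C n).map a ≫ φ) = a ≫ psiC n F L φ := by
  have h : (hSingle n F').inv ≫ (DerivedCategory.homologyFunctor C n).map
      ((DerivedCategory.singleFunctor C n).map a) = a ≫ (hSingle n F).inv :=
    ((DerivedCategory.singleFunctorCompHomologyFunctorIso C n).inv.naturality a).symm
  simp only [psiC, Functor.map_comp]
  rw [reassoc_of% h]

lemma bijective_psiC_of_iso_left {n : ℤ} {F F' : C} (e : F' ≅ F) {L : DerivedCategory C}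
    (h : Function.Bijective (psiC n F L)) : Function.Bijective (psiC n F' L) := by
  let S := DerivedCategory.singleFunctor C n
  refine ⟨fun φ φ' hφ => (cancel_epi (S.map e.inv)).1 (h.1 ?_), fun y => ?_⟩
  · rw [psiC_single_map, psiC_single_map, hφ]
  · obtain ⟨φ, hφ⟩ := h.2 (e.inv ≫ y)
    exact ⟨S.map e.hom ≫ φ, by rw [psiC_single_map, hφ, Iso.hom_inv_id_assoc]⟩

lemma bijective_psiC_of_iso {n : ℤ} {F : C} {L M : DerivedCategory C} (e : L ≅ M)
    (h : Function.Bijective (psiC n F L)) : Function.Bijective (psiC n F M) := by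
  refine ⟨fun φ φ' hφ => (cancel_mono e.inv).1 (h.1 ?_), fun y => ?_⟩
  · rw [psiC_comp, psiC_comp, hφ]
  · obtain ⟨φ, hφ⟩ := h.2 (y ≫ (DerivedCategory.homologyFunctor C n).map e.inv)
    exact ⟨φ ≫ e.hom, by rw [psiC_comp, hφ, Category.assoc, ← Functor.map_comp]; simp⟩

/-- Reduction of all degrees to degree zero. -/
lemma bijective_psiC_of_shift {n : ℤ} {F : C} {L : DerivedCategory C}
    (h : Function.Bijective (psiC 0 F ((shiftFunctor (DerivedCategory C) n).obj L))) :
    Function.Bijective (psiC n F L) := by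
  let e : (shiftFunctor (DerivedCategory C) n).obj ((DerivedCategory.singleFunctor C n).obj F) ≅
      (DerivedCategory.singleFunctor C 0).obj F :=
    ((DerivedCategory.singleFunctors C).shiftIso n 0 n (add_zero n)).app F
  let sI : shiftFunctor (DerivedCategory C) n ⋙ DerivedCategory.homologyFunctor C 0 ≅
      DerivedCategory.homologyFunctor C n :=
    (DerivedCategory.homologyFunctor C 0).shiftIso n 0 n (add_zero n)
  let g : ((DerivedCategory.singleFunctor C n).obj F ⟶ L) →
      ((DerivedCategory.singleFunctor C 0).obj F ⟶ (shiftFunctor (DerivedCategory C) n).obj L) :=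
    fun φ => e.inv ≫ (shiftFunctor (DerivedCategory C) n).map φ
  have hg : Function.Bijective g := by
    refine ⟨fun φ φ' h' => (shiftFunctor (DerivedCategory C) n).map_injective
      ((cancel_epi e.inv).1 h'), fun ψ => ?_⟩
    obtain ⟨φ, hφ⟩ := (shiftFunctor (DerivedCategory C) n).map_surjective (e.hom ≫ ψ)
    exact ⟨φ, by simp [g, hφ]⟩
  let a : F ≅ F := (hSingle 0 F).symm ≪≫ (DerivedCategory.homologyFunctor C 0).mapIso e.symm ≪≫
    sI.app _ ≪≫ hSingle n F
  have key : ∀ φ, psiC 0 F _ (g φ) = a.hom ≫ psiC n F L φ ≫ sI.inv.app L := fun φ => by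
    have hn : (DerivedCategory.homologyFunctor C 0).map
        ((shiftFunctor (DerivedCategory C) n).map φ) =
        sI.hom.app _ ≫ (DerivedCategory.homologyFunctor C n).map φ ≫ sI.inv.app L := by
      refine Eq.trans ?_ (Category.assoc _ _ _)
      refine (Iso.eq_comp_inv (sI.app L)).2 ?_
      exact sI.hom.naturality φ
    simp only [psiC, g, a, Functor.map_comp, Iso.trans_hom, Iso.symm_hom, Functor.mapIso_hom,
      Iso.app_hom, Category.assoc, Iso.hom_inv_id_assoc]
    exact congrArg (fun z => (hSingle 0 F).inv ≫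
      (DerivedCategory.homologyFunctor C 0).map e.inv ≫ z) hn
  refine ⟨fun φ φ' hφ => hg.1 (h.1 ?_), fun y => ?_⟩
  · rw [key, key, hφ]
  · obtain ⟨ψ, hψ⟩ := h.2 (a.hom ≫ y ≫ sI.inv.app L)
    obtain ⟨φ, rfl⟩ := hg.2 ψ
    rw [key] at hψ
    exact ⟨φ, (cancel_mono (sI.inv.app L)).1 ((cancel_epi a.hom).1 hψ)⟩

omit [HasDerivedCategory.{w} C] in
lemma single_f_eq {P : C} (n : ℤ) {K : CochainComplex C ℤ}
    (g : (HomologicalComplex.single C (ComplexShape.up ℤ) n).obj P ⟶ K) :
    g.f n = (HomologicalComplex.singleObjXSelf (ComplexShape.up ℤ) n P).hom ≫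
      (HomologicalComplex.singleObjCyclesSelfIso (ComplexShape.up ℤ) n P).inv ≫
        HomologicalComplex.cyclesMap g n ≫ K.iCycles n := by
  simp [HomologicalComplex.singleObjCyclesSelfIso_inv_iCycles_assoc]

omit [HasDerivedCategory.{w} C] in
/-- A morphism out of `P[-n]` that is zero on `H^n` is null homotopic, if `P` lifts boundaries. -/
lemma homotopy_zero_of_homologyMap {P : C} (n : ℤ) {K : CochainComplex C ℤ}
    (hA : ∀ c : P ⟶ K.cycles n, c ≫ K.homologyπ n = 0 →
      ∃ h : P ⟶ K.X (n - 1), h ≫ K.toCycles (n - 1) n = c)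
    (g : (CochainComplex.singleFunctor C n).obj P ⟶ K)
    (hg : HomologicalComplex.homologyMap g n = 0) : Nonempty (Homotopy g 0) := by
  have h1 : HomologicalComplex.cyclesMap g n ≫ K.homologyπ n = 0 := by
    rw [← HomologicalComplex.homologyπ_naturality, hg, comp_zero]
  let c := (HomologicalComplex.singleObjCyclesSelfIso (ComplexShape.up ℤ) n P).inv ≫
    HomologicalComplex.cyclesMap g n
  obtain ⟨h, hh⟩ := hA c ((Category.assoc _ _ _).trans ((congrArg _ h1).trans comp_zero))
  have hf : g.f n = (HomologicalComplex.singleObjXSelf (ComplexShape.up ℤ) n P).hom ≫ h ≫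
      K.d (n - 1) n := by
    have h2 := congrArg (· ≫ K.iCycles n) hh
    simp [c] at h2
    rw [h2]
    exact single_f_eq n g
  refine ⟨(Cochain.equivHomotopy g 0).symm
    ⟨Cochain.fromSingleMk (p := n) (q := n - 1) h (n := -1) (by omega), ?_⟩⟩
  rw [Cochain.δ_fromSingleMk _ _ 0 n (by omega), Cochain.ofHom_zero, add_zero]
  refine (Cochain.fromSingleEquiv (q := n) (n := 0) (by omega)).injective ?_
  rw [Cochain.fromSingleEquiv_fromSingleMk]
  simp [Cochain.fromSingleEquiv, hf]

omit [HasDerivedCategory.{w} C] in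
/-- A cycle gives a morphism out of `P[-n]`. -/
lemma exists_single_map {P : C} (n : ℤ) {K : CochainComplex C ℤ} (ζ : P ⟶ K.cycles n) :
    ∃ g : (HomologicalComplex.single C (ComplexShape.up ℤ) n).obj P ⟶ K,
      (HomologicalComplex.singleObjHomologySelfIso (ComplexShape.up ℤ) n P).inv ≫
        HomologicalComplex.homologyMap g n = ζ ≫ K.homologyπ n := by
  let S : CochainComplex C ℤ := (HomologicalComplex.single C (ComplexShape.up ℤ) n).obj P
  let g : S ⟶ K := HomologicalComplex.mkHomFromSingle (ζ ≫ K.iCycles n) (fun j _ => by simp)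
  have hcy : HomologicalComplex.cyclesMap g n =
      (HomologicalComplex.singleObjCyclesSelfIso (ComplexShape.up ℤ) n P).hom ≫ ζ := by
    rw [← cancel_mono (K.iCycles n), HomologicalComplex.cyclesMap_i, Category.assoc]
    simp [g, S, HomologicalComplex.singleObjCyclesSelfIso_hom,
      HomologicalComplex.mkHomFromSingle_f]
  refine ⟨g, ?_⟩
  rw [← cancel_epi (HomologicalComplex.singleObjCyclesSelfIso (ComplexShape.up ℤ) n P).hom,
    HomologicalComplex.singleObjHomologySelfIso_hom_singleObjHomologySelfIso_inv_assoc,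
    HomologicalComplex.homologyπ_naturality, hcy, Category.assoc]

/-- `P[-n]` in the derived category. -/
noncomputable def singleQ (n : ℤ) (P : C) : (DerivedCategory.singleFunctor C n).obj P ≅
    DerivedCategory.Q.obj ((HomologicalComplex.single C (ComplexShape.up ℤ) n).obj P) :=
  (DerivedCategory.singleFunctorIsoCompQ C n).app P

/-- `P ≅ H^n(P[-n])`. -/
noncomputable def singleH (n : ℤ) (P : C) :
    P ≅ ((HomologicalComplex.single C (ComplexShape.up ℤ) n).obj P).homology n :=
  (hSingle n P).symm ≪≫ (DerivedCategory.homologyFunctor C n).mapIso (singleQ n P) ≪≫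
    (DerivedCategory.homologyFunctorFactors C n).app _

lemma psiC_Q_map {P : C} (n : ℤ) {K : CochainComplex C ℤ}
    (g : (HomologicalComplex.single C (ComplexShape.up ℤ) n).obj P ⟶ K) :
    psiC n P _ ((singleQ n P).hom ≫ DerivedCategory.Q.map g) = (singleH n P).hom ≫
      HomologicalComplex.homologyMap g n ≫
        ((DerivedCategory.homologyFunctorFactors C n).app K).inv := by
  let H := DerivedCategory.homologyFunctor C n
  let φ := DerivedCategory.homologyFunctorFactors C n
  have h : H.map (DerivedCategory.Q.map g) =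
      (φ.app _).hom ≫ HomologicalComplex.homologyMap g n ≫ (φ.app K).inv := by
    refine Eq.trans ?_ (Category.assoc _ _ _)
    exact (Iso.eq_comp_inv _).2 (φ.hom.naturality g)
  refine ((congrArg (fun z => (hSingle n P).inv ≫ z) (H.map_comp _ _)).trans ?_)
  refine (congrArg (fun z => (hSingle n P).inv ≫ H.map (singleQ n P).hom ≫ z) h).trans ?_
  simp only [singleH, Iso.trans_hom, Iso.symm_hom, Functor.mapIso_hom, Category.assoc]
  rfl

lemma homologyMap_eq_zero_of_psiC {P : C} (n : ℤ) {K : CochainComplex C ℤ}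
    (g : (HomologicalComplex.single C (ComplexShape.up ℤ) n).obj P ⟶ K)
    (h : psiC n P _ ((singleQ n P).hom ≫ DerivedCategory.Q.map g) = 0) :
    HomologicalComplex.homologyMap g n = 0 := by
  rw [psiC_Q_map] at h
  refine (cancel_mono ((DerivedCategory.homologyFunctorFactors C n).app K).inv).1
    (((cancel_epi (singleH n P).hom).1 (h.trans comp_zero.symm)).trans ?_)
  exact zero_comp.symm

lemma exists_psiC_Q_map {P : C} (n : ℤ) {K : CochainComplex C ℤ}
    (hB : ∀ y : P ⟶ K.homology n, ∃ ζ : P ⟶ K.cycles n, ζ ≫ K.homologyπ n = y)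
    (y : P ⟶ (DerivedCategory.homologyFunctor C n).obj (DerivedCategory.Q.obj K)) :
    ∃ g, psiC n P _ ((singleQ n P).hom ≫ DerivedCategory.Q.map g) = y := by
  let φ := DerivedCategory.homologyFunctorFactors C n
  let σ := (HomologicalComplex.singleObjHomologySelfIso (ComplexShape.up ℤ) n P).inv
  obtain ⟨ζ, hζ⟩ := hB (σ ≫ (singleH n P).inv ≫ y ≫ (φ.app K).hom)
  obtain ⟨g, hg⟩ := exists_single_map n ζ
  refine ⟨g, ?_⟩
  rw [hζ, cancel_epi] at hg
  rw [psiC_Q_map, hg]
  refine ((congrArg ((singleH n P).hom ≫ ·) (Category.assoc _ _ _)).trans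
    (Iso.hom_inv_id_assoc _ _)).trans ?_
  exact (Category.assoc _ _ _).trans ((congrArg (y ≫ ·) (φ.app K).hom_inv_id).trans (Category.comp_id _))

/-- `Hom(P[-n], L) = Hom(P, H^n L)` for `P` projective. -/
theorem bijective_psiC_of_projective {P : C} [Projective P] (n : ℤ) (L : DerivedCategory C) :
    Function.Bijective (psiC n P L) := by
  refine bijective_psiC_of_iso (DerivedCategory.Q.objObjPreimageIso L) ?_
  generalize DerivedCategory.Q.objPreimage L = K
  let S : CochainComplex C ℤ := (HomologicalComplex.single C (ComplexShape.up ℤ) n).obj P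
  haveI : S.IsKProjective := by
    haveI : ∀ i, Projective (S.X i) := fun i => by
      by_cases hi : i = n
      · subst hi
        exact Projective.of_iso (HomologicalComplex.singleObjXSelf (ComplexShape.up ℤ) i P).symm ‹_›
      · exact (HomologicalComplex.isZero_single_obj_X (ComplexShape.up ℤ) n P i hi).projective
    haveI : CochainComplex.IsStrictlyLE S n :=
      inferInstanceAs (CochainComplex.IsStrictlyLE ((CochainComplex.singleFunctor C n).obj P) n)
    exact CochainComplex.isKProjective_of_projective S n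
  have hB : ∀ y : P ⟶ K.homology n, ∃ ζ : P ⟶ K.cycles n, ζ ≫ K.homologyπ n = y := fun y =>
    ⟨Projective.factorThru y (K.homologyπ n), Projective.factorThru_comp _ _⟩
  have hA : ∀ c : P ⟶ K.cycles n, c ≫ K.homologyπ n = 0 →
      ∃ h : P ⟶ K.X (n - 1), h ≫ K.toCycles (n - 1) n = c := fun c zc => by
    have hz : K.toCycles (n - 1) n ≫ K.homologyπ n = 0 := K.toCycles_comp_homologyπ _ _
    have hex := ShortComplex.exact_of_g_is_cokernel
      (ShortComplex.mk (K.toCycles (n - 1) n) (K.homologyπ n) hz)
      (K.homologyIsCokernel (n - 1) n (by simp))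
    haveI : Epi (kernel.lift (K.homologyπ n) (K.toCycles (n - 1) n) hz) := hex.epi_kernelLift
    refine ⟨Projective.factorThru (kernel.lift _ c zc) (kernel.lift _ (K.toCycles (n - 1) n) hz), ?_⟩
    refine Eq.trans ?_ (kernel.lift_ι (K.homologyπ n) c zc)
    rw [← Projective.factorThru_comp (kernel.lift _ c zc) (kernel.lift _ (K.toCycles (n - 1) n) hz),
      Category.assoc, kernel.lift_ι]
    simp
  refine ⟨fun a b hab => sub_eq_zero.1 ?_, fun y => ?_⟩
  · have hc : psiC n P _ (a - b) = 0 := by
      simp only [psiC, Functor.map_sub, Preadditive.comp_sub]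
      exact sub_eq_zero.2 hab
    generalize a - b = c at hc
    obtain ⟨g', hg'⟩ := (CochainComplex.IsKProjective.Qh_map_bijective S
      ((HomotopyCategory.quotient C _).obj K)).2
        ((DerivedCategory.quotientCompQhIso C).hom.app S ≫ (singleQ n P).inv ≫ c ≫
          (DerivedCategory.quotientCompQhIso C).inv.app K)
    obtain ⟨g, rfl⟩ := (HomotopyCategory.quotient C _).map_surjective g'
    have hc' : c = (singleQ n P).hom ≫ DerivedCategory.Q.map g := by
      have := (DerivedCategory.quotientCompQhIso C).hom.naturality g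
      simp only [Functor.comp_map] at this
      rw [hg'] at this
      simp only [Category.assoc, Iso.inv_hom_id_app, Category.comp_id] at this
      erw [cancel_epi] at this
      rw [← this, Iso.hom_inv_id_assoc]
    rw [hc'] at hc
    obtain ⟨H⟩ := homotopy_zero_of_homologyMap n hA g (homologyMap_eq_zero_of_psiC n g hc)
    exact hc'.trans ((congrArg ((singleQ n P).hom ≫ ·)
      ((DerivedCategory.Q_map_eq_of_homotopy C H).trans (Functor.map_zero _ _ _))).trans comp_zero)
  · obtain ⟨g, hg⟩ := exists_psiC_Q_map n hB y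
    exact ⟨_, hg⟩

section Exact

variable {C' : Type u'} [Category.{v'} C'] [Abelian C'] [HasDerivedCategory.{w'} C']
  (F : C ⥤ C') [F.Additive] [PreservesFiniteLimits F] [PreservesFiniteColimits F]

/-- An exact functor commutes with the homology of complexes. -/
noncomputable def mapCxHomologyIso (n : ℤ) :
    F.mapHomologicalComplex (ComplexShape.up ℤ) ⋙
        HomologicalComplex.homologyFunctor C' (ComplexShape.up ℤ) n ≅
      HomologicalComplex.homologyFunctor C (ComplexShape.up ℤ) n ⋙ F :=
  NatIso.ofComponents (fun K => (K.sc n).mapHomologyIso F)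
    (fun f => ShortComplex.mapHomologyIso_hom_naturality
      ((HomologicalComplex.shortComplexFunctor C (ComplexShape.up ℤ) n).map f) F)

/-- An exact functor commutes with cohomology on derived categories. -/
noncomputable def mapDCHomologyIso (n : ℤ) :
    F.mapDerivedCategory ⋙ DerivedCategory.homologyFunctor C' n ≅
      DerivedCategory.homologyFunctor C n ⋙ F :=
  letI : Localization.Lifting DerivedCategory.Q (HomologicalComplex.quasiIso C (ComplexShape.up ℤ))
      (F.mapHomologicalComplex (ComplexShape.up ℤ) ⋙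
        HomologicalComplex.homologyFunctor C' (ComplexShape.up ℤ) n)
      (F.mapDerivedCategory ⋙ DerivedCategory.homologyFunctor C' n) :=
    ⟨(Functor.associator _ _ _).symm ≪≫ Functor.isoWhiskerRight F.mapDerivedCategoryFactors _ ≪≫
      Functor.associator _ _ _ ≪≫
      Functor.isoWhiskerLeft _ (DerivedCategory.homologyFunctorFactors C' n)⟩
  letI : Localization.Lifting DerivedCategory.Q (HomologicalComplex.quasiIso C (ComplexShape.up ℤ))
      (HomologicalComplex.homologyFunctor C (ComplexShape.up ℤ) n ⋙ F)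
      (DerivedCategory.homologyFunctor C n ⋙ F) :=
    ⟨(Functor.associator _ _ _).symm ≪≫
      Functor.isoWhiskerRight (DerivedCategory.homologyFunctorFactors C n) _⟩
  Localization.liftNatIso DerivedCategory.Q (HomologicalComplex.quasiIso C (ComplexShape.up ℤ))
    (F.mapHomologicalComplex (ComplexShape.up ℤ) ⋙
      HomologicalComplex.homologyFunctor C' (ComplexShape.up ℤ) n)
    (HomologicalComplex.homologyFunctor C (ComplexShape.up ℤ) n ⋙ F) _ _ (mapCxHomologyIso F n)

/-- `F` is bijective on `Hom(P[-n], M)` if `H^n` detects both sides. -/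
lemma map_bijective_of_psiC [F.Full] [F.Faithful] {n : ℤ} {P : C} {M : DerivedCategory C}
    (h : Function.Bijective (psiC n P M))
    (h' : Function.Bijective (psiC n (F.obj P) (F.mapDerivedCategory.obj M))) :
    Function.Bijective (F.mapDerivedCategory.map :
      ((DerivedCategory.singleFunctor C n).obj P ⟶ M) → _) := by
  let e := (F.mapDerivedCategorySingleFunctor n).app P
  let Θ := mapDCHomologyIso F n
  let u : F.obj P ⟶ F.obj P := ((hSingle n (F.obj P)).symm ≪≫
    (DerivedCategory.homologyFunctor C' n).mapIso e.symm ≪≫ Θ.app _ ≪≫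
      F.mapIso (hSingle n P)).hom
  haveI : IsIso u := Iso.isIso_hom _
  have key : ∀ b, psiC n (F.obj P) _ (e.inv ≫ F.mapDerivedCategory.map b) =
      u ≫ F.map (psiC n P M b) ≫ Θ.inv.app M := fun b => by
    have hΘ : (DerivedCategory.homologyFunctor C' n).map (F.mapDerivedCategory.map b) =
        Θ.hom.app _ ≫ F.map ((DerivedCategory.homologyFunctor C n).map b) ≫ Θ.inv.app M := by
      refine Eq.trans ?_ (Category.assoc _ _ _)
      exact (Iso.eq_comp_inv (Θ.app M)).2 (Θ.hom.naturality b)
    simp only [psiC, u, Iso.trans_hom, Iso.symm_hom, Functor.mapIso_hom, Iso.app_hom,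
      Functor.map_comp, Category.assoc, Iso.map_hom_inv_id_assoc]
    exact congrArg (fun z => (hSingle n (F.obj P)).inv ≫
      (DerivedCategory.homologyFunctor C' n).map e.inv ≫ z) hΘ
  refine ⟨fun a b hab => h.1 (F.map_injective ?_), fun y => ?_⟩
  · have := congrArg (fun z => psiC n (F.obj P) _ (e.inv ≫ z)) hab
    simp only [key, cancel_epi, cancel_mono] at this
    exact this
  · obtain ⟨c, hc⟩ := F.map_surjective
      (inv u ≫ psiC n (F.obj P) _ (e.inv ≫ y) ≫ Θ.hom.app M)
    obtain ⟨b, rfl⟩ := h.2 c
    refine ⟨b, (cancel_epi e.inv).1 (h'.1 ?_)⟩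
    rw [key, hc]
    simp

end Exact

end Groth.Agent.KFlatLib
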