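import Groth.Agent.KFlatLib.TotalMap
import Groth.Agent.KFlatLib.KFlat
import Mathlib.Algebra.Category.ModuleCat.ChangeOfRings
import Mathlib.Algebra.Category.ModuleCat.Monoidal.Closed
import Mathlib.Algebra.Category.ModuleCat.AB
import Mathlib.Algebra.Category.ModuleCat.ChangeOfRingsExact
import Mathlib.LinearAlgebra.TensorProduct.Tower
import Mathlib.Algebra.Category.ModuleCat.Biproducts

/-!
# Base change preserves K-flatness of complexes of modules
-/

set_option linter.style.haveILetI false

universe u

open CategoryTheory CategoryTheory.Limits MonoidalCategory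
open scoped TensorProduct

namespace Groth.Agent.KFlatLib

variable {R S : Type u} [CommRing R] [CommRing S] (f : R →+* S)

/-- `L ⊗_S (S ⊗_R N) ≅ L ⊗_R N`. -/
noncomputable def cancelBCIso (L : ModuleCat.{u} S) (N : ModuleCat.{u} R) :
    (ModuleCat.restrictScalars f).obj (L ⊗ (ModuleCat.extendScalars f).obj N) ≅
      (ModuleCat.restrictScalars f).obj L ⊗ N :=
  letI : Algebra R S := f.toAlgebra
  letI : Module R (L : Type u) := Module.compHom L f
  haveI : IsScalarTower R S (L : Type u) := IsScalarTower.of_algebraMap_smul fun _ _ => rfl
  LinearEquiv.toModuleIso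
    (m₁ := ((ModuleCat.restrictScalars f).obj (L ⊗ (ModuleCat.extendScalars f).obj N)).isModule)
    (m₂ := ((ModuleCat.restrictScalars f).obj L ⊗ N).isModule)
    { toFun := fun z => TensorProduct.AlgebraTensorModule.cancelBaseChange R S S (L : Type u) (N : Type u) z
      invFun := fun z => (TensorProduct.AlgebraTensorModule.cancelBaseChange R S S (L : Type u) (N : Type u)).symm z
      left_inv := LinearEquiv.symm_apply_apply _
      right_inv := LinearEquiv.apply_symm_apply _
      map_add' := map_add _
      map_smul' := fun r z => ((TensorProduct.AlgebraTensorModule.cancelBaseChange R S S (L : Type u) (N : Type u)).map_smul (f r) z).trans (algebraMap_smul S r _) }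
lemma cancelIso_hom_tmul (L : ModuleCat.{u} S) (N : ModuleCat.{u} R) (l : L) (s : S) (n : N) :
    (cancelBCIso f L N).hom (l ⊗ₜ[S] (show (ModuleCat.extendScalars f).obj N from
      @TensorProduct.tmul R _ _ _ _ _ (Module.compHom S f) _ s n)) =
    @TensorProduct.tmul R _ _ _ _ _ (Module.compHom L f) _ (s • l) n := rfl

/-- The bifunctor `(L, N) ↦ L ⊗_S (S ⊗_R N)`. -/
noncomputable abbrev extT : ModuleCat.{u} S ⥤ ModuleCat.{u} R ⥤ ModuleCat.{u} S :=
  curriedTensor (ModuleCat.{u} S) ⋙ (Functor.whiskeringLeft _ _ _).obj (ModuleCat.extendScalars f)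

instance additive_extendScalars : ((ModuleCat.extendScalars f : ModuleCat.{u} R ⥤ ModuleCat.{u} S)).Additive := by
  haveI : ((ModuleCat.extendScalars f : ModuleCat.{u} R ⥤ ModuleCat.{u} S)).IsLeftAdjoint :=
    Adjunction.isLeftAdjoint (G := (ModuleCat.restrictScalars f : ModuleCat.{u} S ⥤ ModuleCat.{u} R))
      (ModuleCat.extendRestrictScalarsAdj f)
  haveI := preservesBinaryBiproducts_of_preservesBinaryCoproducts ((ModuleCat.extendScalars f : ModuleCat.{u} R ⥤ ModuleCat.{u} S))
  exact Functor.additive_of_preservesBinaryBiproducts _

instance additive_curriedTensor_obj_moduleCat {A : Type u} [CommRing A] (M : ModuleCat.{u} A) :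
    ((curriedTensor (ModuleCat.{u} A)).obj M).Additive :=
  inferInstanceAs (tensorLeft M).Additive

instance additive_extT_obj (L : ModuleCat.{u} S) : ((extT f).obj L).Additive :=
  inferInstanceAs (ModuleCat.extendScalars f ⋙ tensorLeft L).Additive

instance additive_extT : (extT f).Additive where
  map_add {L L' g h} := by
    ext N : 2
    exact (tensorRight ((ModuleCat.extendScalars f).obj N)).map_add (f := g) (g := h)

/-- Restriction of `L ⊗_S (S ⊗_R N)` is `L ⊗_R N`. -/
noncomputable def extTIso :
    extT f ⋙ (Functor.whiskeringRight _ _ _).obj (ModuleCat.restrictScalars f) ≅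
      ModuleCat.restrictScalars f ⋙ curriedTensor (ModuleCat.{u} R) ⋙
        (Functor.whiskeringLeft _ _ _).obj (𝟭 (ModuleCat.{u} R)) :=
  NatIso.ofComponents
    (fun L => NatIso.ofComponents (fun N => cancelBCIso f L N) fun {N N'} g => by
      apply ModuleCat.hom_ext
      refine LinearMap.ext fun z => ?_
      induction z using TensorProduct.induction_on with
      | zero => exact (map_zero _).trans (map_zero _).symm
      | add a b ha hb => exact (map_add _ _ _).trans ((congrArg₂ _ ha hb).trans (map_add _ _ _).symm)
      | tmul l w =>
        induction w using TensorProduct.induction_on with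
        | zero =>
          erw [TensorProduct.tmul_zero]
          exact (map_zero _).trans (map_zero _).symm
        | add a b ha hb =>
          erw [TensorProduct.tmul_add]
          exact (map_add _ _ _).trans ((congrArg₂ _ ha hb).trans (map_add _ _ _).symm)
        | tmul s n => rfl)
    fun {L L'} g => by
      ext N : 2
      apply ModuleCat.hom_ext
      refine LinearMap.ext fun z => ?_
      induction z using TensorProduct.induction_on with
      | zero => exact (map_zero _).trans (map_zero _).symm
      | add a b ha hb => exact (map_add _ _ _).trans ((congrArg₂ _ ha hb).trans (map_add _ _ _).symm)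
      | tmul l w =>
        induction w using TensorProduct.induction_on with
        | zero =>
          erw [TensorProduct.tmul_zero]
          exact (map_zero _).trans (map_zero _).symm
        | add a b ha hb =>
          erw [TensorProduct.tmul_add]
          exact (map_add _ _ _).trans ((congrArg₂ _ ha hb).trans (map_add _ _ _).symm)
        | tmul s n =>
          exact congrArg (fun t => @TensorProduct.tmul R _ _ _ _ _ (Module.compHom L' f) _ t n)
            (map_smul g.hom s l).symm

/-- Base change preserves K-flatness. -/
lemma kFlat_extendScalars {K : CochainComplex (ModuleCat.{u} R) ℤ}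
    (hK : KFlat (curriedTensor (ModuleCat.{u} R)) K) :
    KFlat (curriedTensor (ModuleCat.{u} S))
      (((ModuleCat.extendScalars f).mapHomologicalComplex (ComplexShape.up ℤ)).obj K) :=
  kFlat_iff.2 fun L hL => by
    let e₁ : (((curriedTensor (ModuleCat.{u} S)).map₂CochainComplex.obj
        (((𝟭 (ModuleCat.{u} S)).mapHomologicalComplex (ComplexShape.up ℤ)).obj L)).obj
          (((ModuleCat.extendScalars f).mapHomologicalComplex (ComplexShape.up ℤ)).obj K)) ≅
        ((𝟭 (ModuleCat.{u} S)).mapHomologicalComplex (ComplexShape.up ℤ)).obj
          (((extT f).map₂CochainComplex.obj L).obj K) :=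
      totalMapIso (Φ₁ := 𝟭 (ModuleCat.{u} S)) (Φ₂ := ModuleCat.extendScalars f)
        (Ψ := 𝟭 (ModuleCat.{u} S)) (T := extT f) (T' := curriedTensor (ModuleCat.{u} S))
        (Iso.refl _) L K
    let e₂ := totalMapIso (extTIso f) L K
    have hL' : (((ModuleCat.restrictScalars f).mapHomologicalComplex (ComplexShape.up ℤ)).obj
        L).Acyclic := fun i => (hL i).map (ModuleCat.restrictScalars f)
    have h : (((ModuleCat.restrictScalars f).mapHomologicalComplex (ComplexShape.up ℤ)).obj
        (((extT f).map₂CochainComplex.obj L).obj K)).Acyclic :=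
      fun i => (hK.acyclic hL' i).of_iso e₂
    intro i
    refine HomologicalComplex.ExactAt.of_iso ?_ e₁.symm
    exact (ShortComplex.exact_map_iff_of_faithful _ (ModuleCat.restrictScalars f)).1 (h i)

end Groth.Agent.KFlatLib
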