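import Groth.Agent.KFlatLib.Scheme.StalkCx
import Groth.Agent.KFlatLib.Setup
import Groth.Agent.KFlatLib.BaseChange
import Groth.Prelude.Def_DRing2
import Mathlib.RingTheory.Flat.CategoryTheory
import Mathlib.Algebra.Category.ModuleCat.Monoidal.Symmetric

/-!
# Bounded above complexes of flat modules
-/

set_option linter.style.haveILetI false

universe u

open CategoryTheory CategoryTheory.Limits MonoidalCategory

namespace Groth.Agent.KFlatLib

variable {A : Type u} [CommRing A]

/-- The tensor product of modules is symmetric. -/
noncomputable def curriedTensorFlipIso :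
    (curriedTensor (ModuleCat.{u} A)).flip ≅ curriedTensor (ModuleCat.{u} A) :=
  NatIso.ofComponents (fun M => NatIso.ofComponents (fun N => β_ N M)
    fun {N N'} f => BraidedCategory.braiding_naturality_left f M) fun {M M'} g => by
      ext N : 2
      exact BraidedCategory.braiding_naturality_right N g

lemma flatObj_moduleCat (P : ModuleCat.{u} A) [Module.Flat A P] :
    FlatObj (curriedTensor (ModuleCat.{u} A)) P := fun _ hS =>
  hS.map_of_exact (tensorRight P)

/-- A bounded above complex of flat modules is K-flat. -/
lemma kFlat_of_termwiseFlat {L : DRing.Cx A} (hL : DRing.TermwiseFlat L) {b : ℤ}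
    (hb : DRing.VanishesAbove L b) : KFlat (curriedTensor (ModuleCat.{u} A)) L := by
  haveI : CochainComplex.IsStrictlyLE L b :=
    (CochainComplex.isStrictlyLE_iff L b).2 fun i hi => hb i hi
  exact kFlat_of_isStrictlyLE b fun n => haveI := hL n; flatObj_moduleCat _

lemma quasiIso_tensorHom_id {L M Q : DRing.Cx A} (η : M ⟶ Q) [QuasiIso η]
    (hL : KFlat (curriedTensor (ModuleCat.{u} A)) L) :
    QuasiIso (((curriedTensor (ModuleCat.{u} A)).map₂CochainComplex.obj L).map η) :=
  hL.quasiIso_map' curriedTensorFlipIso η

end Groth.Agent.KFlatLib
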