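import Groth.Agent.KFlatLib.Setup

/-!
# Naturality of the symmetry of total complexes in the other variable
-/

set_option linter.style.haveILetI false

universe v u

open CategoryTheory CategoryTheory.Limits

namespace Groth.Agent.KFlatLib

variable {C : Type u} [Category.{v} C] [Abelian C] [∀ S : Type, HasColimitsOfShape (Discrete S) C]
  {T : C ⥤ C ⥤ C} [T.Additive] [∀ Y, (T.obj Y).Additive]

/-- The symmetry is natural in the other variable. -/
lemma symmIso_naturality_left (e : T.flip ≅ T) (L : CochainComplex C ℤ) {K K' : CochainComplex C ℤ}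
    (h : K ⟶ K') :
    (T.map₂CochainComplex.obj L).map h ≫ (symmIso e K').hom.app L =
      (symmIso e K).hom.app L ≫ (T.map₂CochainComplex.map h).app L := by
  have h₁ : HomologicalComplex.mapBifunctorMap (𝟙 L) h T (ComplexShape.up ℤ) ≫
      (HomologicalComplex.mapBifunctorFlipIso L K' T (ComplexShape.up ℤ)).inv =
      (HomologicalComplex.mapBifunctorFlipIso L K T (ComplexShape.up ℤ)).inv ≫
        HomologicalComplex.mapBifunctorMap h (𝟙 L) T.flip (ComplexShape.up ℤ) := by
    rw [Iso.comp_inv_eq, Category.assoc,
      HomologicalComplex.mapBifunctorFlipIso_hom_naturality, Iso.inv_hom_id_assoc]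
  have h₂ : HomologicalComplex.mapBifunctorMap h (𝟙 L) T.flip (ComplexShape.up ℤ) ≫
      congrHom e.hom K' L = congrHom e.hom K L ≫
        HomologicalComplex.mapBifunctorMap h (𝟙 L) T (ComplexShape.up ℤ) := by
    ext n : 1
    refine HomologicalComplex.mapBifunctor.hom_ext (fun p q hpq => ?_)
    change p + q = n at hpq
    simp only [HomologicalComplex.comp_f]
    rw [HomologicalComplex.ι_mapBifunctorMap_assoc, ι_congrHom]
    erw [ι_congrHom_assoc, Category.assoc, HomologicalComplex.ι_mapBifunctorMap]
    simp only [HomologicalComplex.id_f, CategoryTheory.Functor.map_id]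
    erw [Category.id_comp, Category.id_comp]
    exact (Category.assoc _ _ _).symm.trans ((congrArg (· ≫ _)
      (NatTrans.congr_app (e.hom.naturality (h.f p)) (L.X q))).trans (Category.assoc _ _ _))
  exact ((Category.assoc _ _ _).symm.trans (congrArg (· ≫ congrHom e.hom K' L) h₁)).trans
    ((Category.assoc _ _ _).trans ((congrArg (_ ≫ ·) h₂).trans (Category.assoc _ _ _).symm))

end Groth.Agent.KFlatLib
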