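import Mathlib.Algebra.Homology.DerivedCategory.Basic
import Mathlib.CategoryTheory.Localization.Equivalence

/-!
# Comparing models of a derived category
-/

set_option linter.style.haveILetI false
set_option backward.isDefEq.respectTransparency false

universe w₁ w₂ v u

open CategoryTheory Category Limits Pretriangulated

namespace Groth.Agent.KFlatLib.SmallModel

variable (A : Type u) [Category.{v} A] [Abelian A]
  (h₁ : HasDerivedCategory.{w₁} A) (h₂ : HasDerivedCategory.{w₂} A)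

/-- A model of the derived category. -/
abbrev Der (h : HasDerivedCategory.{w₁} A) := @DerivedCategory A _ _ h

/-- The localisation functor of a model. -/
noncomputable abbrev QD (h : HasDerivedCategory.{w₁} A) : CochainComplex A ℤ ⥤ Der A h :=
  @DerivedCategory.Q A _ _ h

/-- Two models are equivalent. -/
noncomputable def compare : Der A h₁ ≌ Der A h₂ :=
  haveI : (QD A h₁).IsLocalization (HomologicalComplex.quasiIso A (ComplexShape.up ℤ)) :=
    letI := h₁; inferInstance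
  haveI : (QD A h₂).IsLocalization (HomologicalComplex.quasiIso A (ComplexShape.up ℤ)) :=
    letI := h₂; inferInstance
  Localization.uniq (QD A h₁) (QD A h₂) (HomologicalComplex.quasiIso A (ComplexShape.up ℤ))

/-- The comparison on complexes. -/
noncomputable def compareQ : QD A h₁ ⋙ (compare A h₁ h₂).functor ≅ QD A h₂ :=
  haveI : (QD A h₁).IsLocalization (HomologicalComplex.quasiIso A (ComplexShape.up ℤ)) :=
    letI := h₁; inferInstance
  haveI : (QD A h₂).IsLocalization (HomologicalComplex.quasiIso A (ComplexShape.up ℤ)) :=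
    letI := h₂; inferInstance
  Localization.compUniqFunctor (QD A h₁) (QD A h₂) (HomologicalComplex.quasiIso A (ComplexShape.up ℤ))

lemma exists_rep (X : Der A h₁) : ∃ K, Nonempty ((QD A h₁).obj K ≅ X) := by
  letI := h₁
  haveI := Localization.essSurj (DerivedCategory.Q (C := A)) (HomologicalComplex.quasiIso A (ComplexShape.up ℤ))
  exact ⟨_, ⟨DerivedCategory.Q.objObjPreimageIso X⟩⟩

/-- The comparison commutes with shifts, objectwise. -/
theorem nonempty_compare_shift (X : Der A h₁) (n : ℤ) :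
    Nonempty ((compare A h₁ h₂).functor.obj (X⟦n⟧) ≅ ((compare A h₁ h₂).functor.obj X)⟦n⟧) := by
  obtain ⟨K, ⟨e⟩⟩ := exists_rep A h₁ X
  let Φ := (compare A h₁ h₂).functor
  let c₁ : X⟦n⟧ ≅ (QD A h₁).obj (K⟦n⟧) :=
    (shiftFunctor (Der A h₁) n).mapIso e.symm ≪≫
      (letI := h₁; ((DerivedCategory.Q (C := A)).commShiftIso n).symm.app K)
  let c₂ : (QD A h₂).obj (K⟦n⟧) ≅ ((QD A h₂).obj K)⟦n⟧ :=
    letI := h₂; ((DerivedCategory.Q (C := A)).commShiftIso n).app K
  exact ⟨Φ.mapIso c₁ ≪≫ (compareQ A h₁ h₂).app _ ≪≫ c₂ ≪≫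
    (shiftFunctor (Der A h₂) n).mapIso (((compareQ A h₁ h₂).app K).symm ≪≫ Φ.mapIso e)⟩

/-- The first two maps of a distinguished triangle stay so. -/
theorem exists_compare_triangle (T : Triangle (Der A h₁)) (hT : T ∈ distTriang (Der A h₁)) :
    ∃ c, Triangle.mk ((compare A h₁ h₂).functor.map T.mor₁) ((compare A h₁ h₂).functor.map T.mor₂) c ∈
      distTriang (Der A h₂) := by
  obtain ⟨K, L, f, ⟨e⟩⟩ := (letI := h₁; (DerivedCategory.mem_distTriang_iff T).1 hT)
  let Φ := (compare A h₁ h₂).functor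
  let ε := compareQ A h₁ h₂
  let T₂ : Triangle (Der A h₂) :=
    letI := h₂; DerivedCategory.Q.mapTriangle.obj (CochainComplex.mappingCone.triangle f)
  have hT₂ : T₂ ∈ distTriang (Der A h₂) :=
    letI := h₂; DerivedCategory.mappingCone_triangle_distinguished f
  have e₁ := e.hom.comm₁
  have e₂ := e.hom.comm₂
  let a₁ : Φ.obj T.obj₁ ≅ T₂.obj₁ := Φ.mapIso (Triangle.π₁.mapIso e) ≪≫ ε.app K
  let a₂ : Φ.obj T.obj₂ ≅ T₂.obj₂ := Φ.mapIso (Triangle.π₂.mapIso e) ≪≫ ε.app L
  let a₃ : Φ.obj T.obj₃ ≅ T₂.obj₃ := Φ.mapIso (Triangle.π₃.mapIso e) ≪≫ ε.app (CochainComplex.mappingCone f)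
  refine ⟨a₃.hom ≫ T₂.mor₃ ≫ a₁.inv⟦(1 : ℤ)⟧', isomorphic_distinguished _ hT₂ _
    (Triangle.isoMk _ _ a₁ a₂ a₃ ?_ ?_ ?_)⟩
  · show Φ.map T.mor₁ ≫ Φ.map e.hom.hom₂ ≫ ε.hom.app L = (Φ.map e.hom.hom₁ ≫ ε.hom.app K) ≫ T₂.mor₁
    rw [← Category.assoc, ← Functor.map_comp, e₁, Functor.map_comp, Category.assoc, Category.assoc]
    exact congrArg (_ ≫ ·) (ε.hom.naturality f)
  · show Φ.map T.mor₂ ≫ Φ.map e.hom.hom₃ ≫ ε.hom.app _ = (Φ.map e.hom.hom₂ ≫ ε.hom.app L) ≫ T₂.mor₂
    rw [← Category.assoc, ← Functor.map_comp, e₂, Functor.map_comp, Category.assoc, Category.assoc]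
    exact congrArg (_ ≫ ·) (ε.hom.naturality (CochainComplex.mappingCone.inr f))
  · show (a₃.hom ≫ T₂.mor₃ ≫ a₁.inv⟦(1 : ℤ)⟧') ≫ a₁.hom⟦(1 : ℤ)⟧' = a₃.hom ≫ T₂.mor₃
    simp only [Category.assoc, ← Functor.map_comp, Iso.inv_hom_id, CategoryTheory.Functor.map_id, Category.comp_id]

end Groth.Agent.KFlatLib.SmallModel
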