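import Mathlib.Algebra.Homology.Bifunctor
import Mathlib.Algebra.Homology.BifunctorFlip
import Mathlib.Algebra.Homology.BifunctorHomotopy
import Mathlib.Algebra.Homology.HomologicalComplexLimits
import Mathlib.Algebra.Homology.HomologicalComplexAbelian
import Mathlib.Algebra.Homology.HomologySequence
import Mathlib.Algebra.Homology.QuasiIso
import Mathlib.CategoryTheory.Abelian.GrothendieckAxioms.Basic
import Mathlib.Algebra.Homology.ShortComplex.ShortExact

/-!
# The action of a bifunctor on cochain complexes: exactness and colimits in each variable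
-/

set_option linter.style.haveILetI false
set_option linter.unusedSimpArgs false

universe v u v' u' v'' u'' w w'

open CategoryTheory CategoryTheory.Limits

namespace Groth.Agent.KFlatLib

variable {C₁ : Type u} [Category.{v} C₁] [Preadditive C₁]
  {C₂ : Type u'} [Category.{v'} C₂] [Preadditive C₂]
  {D : Type u''} [Category.{v''} D] [Abelian D] [∀ S : Type, HasColimitsOfShape (Discrete S) D]
  (T : C₁ ⥤ C₂ ⥤ D) [T.Additive] [∀ X, (T.obj X).Additive]

/-- The index set of the summands in degree `n`. -/
abbrev fibre (n : ℤ) : Type :=
  ↑((ComplexShape.up ℤ).π (ComplexShape.up ℤ) (ComplexShape.up ℤ) ⁻¹' {n})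

/-- The family of the summands in degree `n`, as a functor in the second variable. -/
noncomputable def family₂ (L : CochainComplex C₁ ℤ) (n : ℤ) :
    CochainComplex C₂ ℤ ⥤ (Discrete (fibre n) ⥤ D) :=
  (Discrete.functor fun s : fibre n =>
    HomologicalComplex.eval C₂ (ComplexShape.up ℤ) s.1.2 ⋙ T.obj (L.X s.1.1)).flip

instance (L : CochainComplex C₁ ℤ) (n : ℤ) : (family₂ T L n).Additive where
  map_add {K K' f g} := by
    refine NatTrans.ext (funext fun s => ?_)
    change (T.obj (L.X s.as.1.1)).map (f.f s.as.1.2 + g.f s.as.1.2) =
      (T.obj (L.X s.as.1.1)).map (f.f s.as.1.2) + (T.obj (L.X s.as.1.1)).map (g.f s.as.1.2)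
    exact Functor.map_add _

/-- The inclusion of a summand in the coproduct of the family. -/
noncomputable abbrev familyι (L : CochainComplex C₁ ℤ) (n : ℤ) (K : CochainComplex C₂ ℤ) (p q : ℤ)
    (h : (ComplexShape.up ℤ).π (ComplexShape.up ℤ) (ComplexShape.up ℤ) (p, q) = n) :
    (T.obj (L.X p)).obj (K.X q) ⟶ colimit ((family₂ T L n).obj K) :=
  colimit.ι ((family₂ T L n).obj K) (Discrete.mk (⟨(p, q), h⟩ : fibre n))

/-- The degree `n` term of the total complex as the coproduct of its summands. -/
noncomputable def evalObjIso₂ (L : CochainComplex C₁ ℤ) (n : ℤ) (K : CochainComplex C₂ ℤ) :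
    (HomologicalComplex.mapBifunctor L K T (ComplexShape.up ℤ)).X n ≅
      colimit ((family₂ T L n).obj K) where
  hom := HomologicalComplex.mapBifunctorDesc (fun p q h => familyι T L n K p q h)
  inv := colimit.desc _ (Cocone.mk _ (Discrete.natTrans fun s =>
    HomologicalComplex.ιMapBifunctor L K T (ComplexShape.up ℤ) s.as.1.1 s.as.1.2 n s.as.2))
  hom_inv_id := by
    refine HomologicalComplex.mapBifunctor.hom_ext (fun p q h => ?_)
    rw [HomologicalComplex.ι_mapBifunctorDesc_assoc, Category.comp_id]
    exact colimit.ι_desc _ _
  inv_hom_id := by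
    refine colimit.hom_ext (fun s => ?_)
    rw [colimit.ι_desc_assoc, Category.comp_id]
    exact HomologicalComplex.ι_mapBifunctorDesc _ _ _ s.as.2

/-- The degree `n` term of the total complex is the coproduct of its summands, naturally. -/
noncomputable def evalIso₂ (L : CochainComplex C₁ ℤ) (n : ℤ) :
    T.map₂CochainComplex.obj L ⋙ HomologicalComplex.eval D (ComplexShape.up ℤ) n ≅
      family₂ T L n ⋙ colim :=
  NatIso.ofComponents (fun K => evalObjIso₂ T L n K)
    (fun {K K'} f => by
      change (HomologicalComplex.mapBifunctorMap (𝟙 L) f T (ComplexShape.up ℤ)).f n ≫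
          (evalObjIso₂ T L n K').hom = (evalObjIso₂ T L n K).hom ≫
            colimMap ((family₂ T L n).map f)
      refine HomologicalComplex.mapBifunctor.hom_ext (fun p q h => ?_)
      rw [HomologicalComplex.ι_mapBifunctorMap_assoc]
      simp only [evalObjIso₂, HomologicalComplex.ι_mapBifunctorDesc,
        HomologicalComplex.ι_mapBifunctorDesc_assoc, HomologicalComplex.id_f,
        CategoryTheory.Functor.map_id, NatTrans.id_app, Category.id_comp]
      exact (ι_colimMap ((family₂ T L n).map f) (Discrete.mk (⟨(p, q), h⟩ : fibre n))).symm)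

/-- The total complex commutes with the colimits which `T` preserves in the second variable. -/
lemma preservesColimitsOfShape₂ (J : Type w) [Category.{w'} J] [HasColimitsOfShape J C₂]
    [HasColimitsOfShape J D]
    (L : CochainComplex C₁ ℤ) [∀ p : ℤ, PreservesColimitsOfShape J (T.obj (L.X p))] :
    PreservesColimitsOfShape J (T.map₂CochainComplex.obj L) where
  preservesColimit {K} :=
    { preserves := fun {c} hc => ⟨HomologicalComplex.isColimitOfEval _ _ fun n => by
        haveI : PreservesColimitsOfShape J (family₂ T L n) :=
          preservesColimitsOfShape_of_evaluation _ _ fun s => by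
            change PreservesColimitsOfShape J
              (HomologicalComplex.eval C₂ (ComplexShape.up ℤ) s.as.1.2 ⋙ T.obj (L.X s.as.1.1))
            infer_instance
        haveI : PreservesColimitsOfShape J
            (T.map₂CochainComplex.obj L ⋙ HomologicalComplex.eval D (ComplexShape.up ℤ) n) :=
          preservesColimitsOfShape_of_natIso (evalIso₂ T L n).symm
        exact IsColimit.ofIsoColimit
          (isColimitOfPreserves
            (T.map₂CochainComplex.obj L ⋙ HomologicalComplex.eval D (ComplexShape.up ℤ) n) hc)
          (Cocone.ext (Iso.refl _))⟩ }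

instance (L : CochainComplex C₁ ℤ) : (T.map₂CochainComplex.obj L).Additive where
  map_add {K K' f g} := by
    change HomologicalComplex.mapBifunctorMap (𝟙 L) (f + g) T (ComplexShape.up ℤ) =
      HomologicalComplex.mapBifunctorMap (𝟙 L) f T (ComplexShape.up ℤ) +
        HomologicalComplex.mapBifunctorMap (𝟙 L) g T (ComplexShape.up ℤ)
    ext n : 1
    refine HomologicalComplex.mapBifunctor.hom_ext (fun p q h => ?_)
    simp

variable [∀ S : Type, HasExactColimitsOfShape (Discrete S) D]

/-- The total complex functor preserves short exact sequences whose summands stay short exact. -/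
lemma shortExact₂ (L : CochainComplex C₁ ℤ) (S : ShortComplex (CochainComplex C₂ ℤ))
    (h : ∀ p q : ℤ, ((S.map (HomologicalComplex.eval C₂ (ComplexShape.up ℤ) q)).map
      (T.obj (L.X p))).ShortExact) :
    (S.map (T.map₂CochainComplex.obj L)).ShortExact := by
  refine HomologicalComplex.shortExact_of_degreewise_shortExact _ (fun n => ?_)
  have e : ((S.map (T.map₂CochainComplex.obj L)).map
      (HomologicalComplex.eval D (ComplexShape.up ℤ) n)) ≅
      (S.map (family₂ T L n)).map colim := S.mapNatIso (evalIso₂ T L n)
  rw [ShortComplex.shortExact_iff_of_iso e]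
  have hfam : (S.map (family₂ T L n)).ShortExact := by
    haveI : ∀ s, Mono ((S.map (family₂ T L n)).f.app s) :=
      fun s => (h s.as.1.1 s.as.1.2).mono_f
    haveI : ∀ s, Epi ((S.map (family₂ T L n)).g.app s) :=
      fun s => (h s.as.1.1 s.as.1.2).epi_g
    haveI : Mono (S.map (family₂ T L n)).f := NatTrans.mono_of_mono_app _
    haveI : Epi (S.map (family₂ T L n)).g := NatTrans.epi_of_epi_app _
    refine ShortComplex.ShortExact.mk' ?_ inferInstance inferInstance
    rw [ShortComplex.exact_iff_isZero_homology]
    refine Functor.isZero _ (fun s => ?_)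
    exact IsZero.of_iso ((ShortComplex.exact_iff_isZero_homology _).1
      (h s.as.1.1 s.as.1.2).exact) ((S.map (family₂ T L n)).mapHomologyIso
        ((evaluation _ _).obj s)).symm
  exact hfam.map_of_exact colim

section First

omit [∀ S : Type, HasExactColimitsOfShape (Discrete S) D]

instance : T.flip.Additive where
  map_add {X Y f g} := by
    ext Z
    exact (T.obj Z).map_add

instance (Y : C₂) : (T.flip.obj Y).Additive where
  map_add {X X' f g} := by
    change (T.map (f + g)).app Y = _
    rw [Functor.map_add, NatTrans.app_add]
    rfl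

/-- The total complex as a functor of the first variable is the total complex of the flipped
bifunctor as a functor of the second one. -/
noncomputable def flipIso (K : CochainComplex C₂ ℤ) :
    T.map₂CochainComplex.flip.obj K ≅ T.flip.map₂CochainComplex.obj K :=
  NatIso.ofComponents
    (fun L => (HomologicalComplex.mapBifunctorFlipIso L K T (ComplexShape.up ℤ)).symm)
    (fun {L L'} f => by
      change HomologicalComplex.mapBifunctorMap f (𝟙 K) T (ComplexShape.up ℤ) ≫
          (HomologicalComplex.mapBifunctorFlipIso L' K T (ComplexShape.up ℤ)).inv =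
        (HomologicalComplex.mapBifunctorFlipIso L K T (ComplexShape.up ℤ)).inv ≫
          HomologicalComplex.mapBifunctorMap (𝟙 K) f T.flip (ComplexShape.up ℤ)
      rw [Iso.comp_inv_eq, Category.assoc,
        HomologicalComplex.mapBifunctorFlipIso_hom_naturality, Iso.inv_hom_id_assoc])

instance (K : CochainComplex C₂ ℤ) : (T.map₂CochainComplex.flip.obj K).Additive where
  map_add {L L' f g} := by
    change HomologicalComplex.mapBifunctorMap (f + g) (𝟙 K) T (ComplexShape.up ℤ) =
      HomologicalComplex.mapBifunctorMap f (𝟙 K) T (ComplexShape.up ℤ) +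
        HomologicalComplex.mapBifunctorMap g (𝟙 K) T (ComplexShape.up ℤ)
    ext n : 1
    refine HomologicalComplex.mapBifunctor.hom_ext (fun p q h => ?_)
    simp

/-- The total complex commutes with the colimits which `T` preserves in the first variable. -/
lemma preservesColimitsOfShape₁ (J : Type w) [Category.{w'} J] [HasColimitsOfShape J C₁]
    [HasColimitsOfShape J D]
    (K : CochainComplex C₂ ℤ) [∀ q : ℤ, PreservesColimitsOfShape J (T.flip.obj (K.X q))] :
    PreservesColimitsOfShape J (T.map₂CochainComplex.flip.obj K) :=
  haveI := preservesColimitsOfShape₂ T.flip J K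
  preservesColimitsOfShape_of_natIso (flipIso T K).symm

variable [∀ S : Type, HasExactColimitsOfShape (Discrete S) D]

/-- The total complex functor in the first variable preserves short exact sequences whose
summands stay short exact. -/
lemma shortExact₁ (K : CochainComplex C₂ ℤ) (S : ShortComplex (CochainComplex C₁ ℤ))
    (h : ∀ p q : ℤ, ((S.map (HomologicalComplex.eval C₁ (ComplexShape.up ℤ) p)).map
      (T.flip.obj (K.X q))).ShortExact) :
    (S.map (T.map₂CochainComplex.flip.obj K)).ShortExact :=
  (ShortComplex.shortExact_iff_of_iso (S.mapNatIso (flipIso T K))).2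
    (shortExact₂ T.flip K S (fun q p => h p q))

end First

end Groth.Agent.KFlatLib
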