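import Mathlib.Algebra.Homology.DerivedCategory.FullyFaithful
import Mathlib.Algebra.Homology.DerivedCategory.TStructure
import Mathlib.Algebra.Homology.DerivedCategory.HomologySequence
import Mathlib.CategoryTheory.Triangulated.TStructure.TruncLTGE

/-!
# Compositions of maps which vanish on cohomology
-/

set_option linter.style.haveILetI false

universe w v u

open CategoryTheory CategoryTheory.Limits CategoryTheory.Pretriangulated

namespace Groth.Agent.KFlatLib

variable {C : Type u} [Category.{v} C] [Abelian C] [HasDerivedCategory.{w} C]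

open DerivedCategory DerivedCategory.TStructure

/-- In the heart, a map vanishing on cohomology is zero. -/
lemma eq_zero_of_homology {X Y : DerivedCategory C} (n : ℤ) [X.IsGE n] [X.IsLE n] [Y.IsGE n]
    [Y.IsLE n] (f : X ⟶ Y) (h : (homologyFunctor C n).map f = 0) : f = 0 := by
  obtain ⟨A, ⟨eA⟩⟩ := exists_iso_singleFunctor_obj_of_isGE_of_isLE X n
  obtain ⟨B, ⟨eB⟩⟩ := exists_iso_singleFunctor_obj_of_isGE_of_isLE Y n
  obtain ⟨g, hg⟩ := (singleFunctor C n).map_surjective (eA.inv ≫ f ≫ eB.hom)
  have h0 : g = 0 := by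
    have e := singleFunctorCompHomologyFunctorIso C n
    change (𝟭 C).map g = 0
    rw [← NatIso.naturality_1 e g]
    have : (singleFunctor C n ⋙ homologyFunctor C n).map g = 0 := by
      change (homologyFunctor C n).map ((singleFunctor C n).map g) = 0
      rw [hg, Functor.map_comp, Functor.map_comp, h, zero_comp, comp_zero]
    rw [this, zero_comp, comp_zero]
  rw [h0, Functor.map_zero] at hg
  rw [← cancel_epi eA.inv, ← cancel_mono eB.hom, Category.assoc, ← hg, comp_zero, zero_comp]

lemma isIso_homology_truncLTι (X : DerivedCategory C) (b i : ℤ) (hi : i < b) :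
    IsIso ((homologyFunctor C i).map ((t.truncLTι b).app X)) := by
  let T := (t.triangleLTGE b).obj X
  have hT : T ∈ distinguishedTriangles := t.triangleLTGE_distinguished b X
  have hz : ∀ j, j < b → IsZero ((homologyFunctor C j).obj T.obj₃) := fun j hj => by
    haveI : T.obj₃.IsGE b := inferInstanceAs (t.IsGE ((t.truncGE b).obj X) b)
    exact isZero_of_isGE _ b j hj
  haveI : Mono ((homologyFunctor C i).map T.mor₁) :=
    (HomologySequence.mono_homologyMap_mor₁_iff T hT (i - 1) i (by omega)).2
      ((hz (i - 1) (by omega)).eq_of_src _ _)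
  haveI : Epi ((homologyFunctor C i).map T.mor₁) :=
    (HomologySequence.epi_homologyMap_mor₁_iff T hT i).2 ((hz i hi).eq_of_tgt _ _)
  exact isIso_of_mono_of_epi ((homologyFunctor C i).map T.mor₁)

lemma isGE_truncLT (X : DerivedCategory C) (a b : ℤ) [X.IsGE a] :
    DerivedCategory.IsGE ((t.truncLT b).obj X) a := by
  refine (isGE_iff _ a).2 fun i hi => ?_
  by_cases h : i < b
  · haveI := isIso_homology_truncLTι X b i h
    exact (isZero_of_isGE X a i hi).of_iso (asIso ((homologyFunctor C i).map ((t.truncLTι b).app X)))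
  · haveI : DerivedCategory.IsLE ((t.truncLT b).obj X) (b - 1) :=
      inferInstanceAs (t.IsLE ((t.truncLT b).obj X) (b - 1))
    exact isZero_of_isLE _ (b - 1) i (by omega)

/-- The successor functor on `ℕ`. -/
def succFunctor : ℕ ⥤ ℕ :=
  Monotone.functor (f := fun i => i + 1) fun _ _ h => Nat.add_le_add_right h 1

lemma comp_eq_zero (n : ℕ) : ∀ (a : ℤ) (K : ℕ ⥤ DerivedCategory C),
    (∀ i, i ≤ n + 1 → (K.obj i).IsGE a) → (∀ i, i ≤ n + 1 → (K.obj i).IsLE (a + n)) →
    (∀ i, i ≤ n → ∀ q, (homologyFunctor C q).map (K.map (homOfLE (Nat.le_succ i))) = 0) →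
    K.map (homOfLE (Nat.zero_le (n + 1))) = 0 := by
  induction n with
  | zero =>
    intro a K hGE hLE h
    haveI := hGE 0 (by omega)
    haveI := hGE 1 le_rfl
    haveI : (K.obj 0).IsLE a := by simpa using hLE 0 (by omega)
    haveI : (K.obj 1).IsLE a := by simpa using hLE 1 le_rfl
    exact eq_zero_of_homology a _ (h 0 le_rfl a)
  | succ n ih =>
    intro a K hGE hLE h
    let b : ℤ := a + n + 1
    have hLE' : ∀ i, i ≤ n + 1 + 1 → (K.obj i).IsLE b := fun i hi => by
      have := hLE i hi
      rwa [show a + ((n + 1 : ℕ) : ℤ) = b by push_cast; omega] at this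
    have hheart : ∀ i, i ≤ n + 1 + 1 → DerivedCategory.IsLE ((t.truncGE b).obj (K.obj i)) b :=
      fun i hi => by
        haveI := hLE' i hi
        exact inferInstanceAs (t.IsLE ((t.truncGE b).obj (K.obj i)) b)
    let f₀ := K.map (homOfLE (Nat.le_succ 0))
    have hp : f₀ ≫ (t.truncGEπ b).app (K.obj 1) = 0 := by
      haveI := hheart 0 (by omega)
      haveI := hheart 1 (by omega)
      haveI : DerivedCategory.IsGE ((t.truncGE b).obj (K.obj 0)) b :=
        inferInstanceAs (t.IsGE _ b)
      haveI : DerivedCategory.IsGE ((t.truncGE b).obj (K.obj 1)) b :=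
        inferInstanceAs (t.IsGE _ b)
      have hnat : f₀ ≫ (t.truncGEπ b).app (K.obj 1) =
          (t.truncGEπ b).app (K.obj 0) ≫ (t.truncGE b).map f₀ := (t.truncGEπ b).naturality f₀
      rw [hnat, eq_zero_of_homology b ((t.truncGE b).map f₀) ?_, comp_zero]
      let T := (t.triangleLTGE b).obj (K.obj 0)
      have hT : T ∈ distinguishedTriangles := t.triangleLTGE_distinguished b _
      haveI : Epi ((homologyFunctor C b).map ((t.truncGEπ b).app (K.obj 0))) := by
        refine (HomologySequence.epi_homologyMap_mor₂_iff T hT b (b + 1) rfl).2 ?_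
        haveI : T.obj₁.IsLE (b - 1) :=
          inferInstanceAs (t.IsLE ((t.truncLT b).obj (K.obj 0)) (b - 1))
        exact (isZero_of_isLE _ (b - 1) (b + 1) (by omega)).eq_of_tgt _ _
      rw [← cancel_epi ((homologyFunctor C b).map ((t.truncGEπ b).app (K.obj 0))), comp_zero,
        ← Functor.map_comp, ← hnat, Functor.map_comp, h 0 (by omega) b, zero_comp]
    obtain ⟨g, hg⟩ := Triangle.coyoneda_exact₂ _ (t.triangleLTGE_distinguished b (K.obj 1)) f₀ hp
    let L := succFunctor ⋙ K ⋙ t.truncLT b
    have hL : L.map (homOfLE (Nat.zero_le (n + 1))) = 0 := by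
      refine ih a L (fun i hi => ?_) (fun i hi => ?_) (fun i hi q => ?_)
      · haveI := hGE (i + 1) (by omega)
        exact isGE_truncLT (K.obj (i + 1)) a b
      · rw [show a + (n : ℤ) = b - 1 by omega]
        exact inferInstanceAs (t.IsLE ((t.truncLT b).obj (K.obj (i + 1))) (b - 1))
      · by_cases hq : q < b
        · haveI := isIso_homology_truncLTι (K.obj (i + 1 + 1)) b q hq
          refine (cancel_mono ((homologyFunctor C q).map
            ((t.truncLTι b).app (K.obj (i + 1 + 1))))).1 ?_
          refine (((homologyFunctor C q).map_comp _ _).symm.trans ?_).trans zero_comp.symm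
          have hn : L.map (homOfLE (Nat.le_succ i)) ≫ (t.truncLTι b).app (K.obj (i + 1 + 1)) =
              (t.truncLTι b).app (K.obj (i + 1)) ≫ K.map (homOfLE (Nat.le_succ (i + 1))) :=
            (t.truncLTι b).naturality (K.map (homOfLE (Nat.le_succ (i + 1))))
          erw [hn]
          exact ((homologyFunctor C q).map_comp _ _).trans
            ((congrArg (_ ≫ ·) (h (i + 1) (by omega) q)).trans comp_zero)
        · haveI : DerivedCategory.IsLE (L.obj i) (b - 1) :=
            inferInstanceAs (t.IsLE ((t.truncLT b).obj (K.obj (i + 1))) (b - 1))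
          exact (isZero_of_isLE (L.obj i) (b - 1) q (by omega)).eq_of_src _ _
    have hsplit : K.map (homOfLE (Nat.zero_le (n + 1 + 1))) =
        f₀ ≫ K.map (homOfLE (Nat.succ_le_succ (Nat.zero_le (n + 1)))) := by
      rw [← Functor.map_comp]
      rfl
    have hn : L.map (homOfLE (Nat.zero_le (n + 1))) ≫ (t.truncLTι b).app (K.obj (n + 1 + 1)) =
        (t.truncLTι b).app (K.obj 1) ≫ K.map (homOfLE (Nat.succ_le_succ (Nat.zero_le (n + 1)))) :=
      (t.truncLTι b).naturality _
    rw [hL, zero_comp] at hn
    rw [hsplit, hg]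
    exact (Category.assoc _ _ _).trans ((congrArg (g ≫ ·) hn.symm).trans comp_zero)

end Groth.Agent.KFlatLib
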