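import Groth.Agent.KFlatLib.TotalMap

/-!
# Naturality of the comparison of total complexes in the second variable
-/

set_option linter.style.haveILetI false

universe v₁ u₁ v₂ u₂ v u v₁' u₁' v₂' u₂' v' u'

open CategoryTheory CategoryTheory.Limits

namespace Groth.Agent.KFlatLib

variable {A₁ : Type u₁} [Category.{v₁} A₁] [Preadditive A₁]
  {A₂ : Type u₂} [Category.{v₂} A₂] [Preadditive A₂]
  {A : Type u} [Category.{v} A] [Abelian A] [∀ S : Type, HasColimitsOfShape (Discrete S) A]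
  {B₁ : Type u₁'} [Category.{v₁'} B₁] [Preadditive B₁]
  {B₂ : Type u₂'} [Category.{v₂'} B₂] [Preadditive B₂]
  {B : Type u'} [Category.{v'} B] [Abelian B] [∀ S : Type, HasColimitsOfShape (Discrete S) B]
  {Φ₁ : A₁ ⥤ B₁} {Φ₂ : A₂ ⥤ B₂} {Ψ : A ⥤ B} [Φ₁.Additive] [Φ₂.Additive] [Ψ.Additive]
  {T : A₁ ⥤ A₂ ⥤ A} [T.Additive] [∀ X, (T.obj X).Additive]
  {T' : B₁ ⥤ B₂ ⥤ B} [T'.Additive] [∀ X, (T'.obj X).Additive]
  (θ : T ⋙ (Functor.whiskeringRight A₂ A B).obj Ψ ≅
    Φ₁ ⋙ T' ⋙ (Functor.whiskeringLeft A₂ B₂ B).obj Φ₂)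
  (L : CochainComplex A₁ ℤ) {K K' : CochainComplex A₂ ℤ}

lemma totalMapHom_naturality₂ (f : K ⟶ K') :
    (T'.map₂CochainComplex.obj ((Φ₁.mapHomologicalComplex (ComplexShape.up ℤ)).obj L)).map
        ((Φ₂.mapHomologicalComplex (ComplexShape.up ℤ)).map f) ≫ totalMapHom θ L K' =
      totalMapHom θ L K ≫
        (Ψ.mapHomologicalComplex (ComplexShape.up ℤ)).map ((T.map₂CochainComplex.obj L).map f) := by
  ext n : 1
  refine HomologicalComplex.mapBifunctor.hom_ext (fun p q h => ?_)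
  change p + q = n at h
  simp only [HomologicalComplex.comp_f]
  erw [ι_totalMapHom_assoc θ L K p q n h, HomologicalComplex.ι_mapBifunctorMap_assoc]
  simp only [HomologicalComplex.id_f, CategoryTheory.Functor.map_id, NatTrans.id_app,
    Functor.mapHomologicalComplex_map_f, Category.id_comp]
  erw [ι_totalMapHom θ L K' p q n h]
  simp only [totalMapι]
  have e := (θ.inv.app (L.X p)).naturality (f.f q)
  erw [reassoc_of% e]
  refine Eq.trans ?_ (Category.assoc _ _ _).symm
  refine congrArg (_ ≫ ·) ?_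
  erw [← Ψ.map_comp, ← Ψ.map_comp]
  refine congrArg Ψ.map ?_
  erw [HomologicalComplex.ι_mapBifunctorMap]
  simp

variable [∀ J : Type, PreservesColimitsOfShape (Discrete J) Ψ]

include θ in
/-- The comparison of total complexes carries quasi-isomorphisms to quasi-isomorphisms. -/
lemma quasiIso_map₂_iff (f : K ⟶ K') [CategoryWithHomology B] :
    QuasiIso ((Ψ.mapHomologicalComplex (ComplexShape.up ℤ)).map ((T.map₂CochainComplex.obj L).map f)) ↔
      QuasiIso ((T'.map₂CochainComplex.obj ((Φ₁.mapHomologicalComplex (ComplexShape.up ℤ)).obj L)).map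
        ((Φ₂.mapHomologicalComplex (ComplexShape.up ℤ)).map f)) :=
  (quasiIso_iff_of_arrow_mk_iso _ _
    (Arrow.isoMk (totalMapIso θ L K) (totalMapIso θ L K') (totalMapHom_naturality₂ θ L f).symm)).symm

end Groth.Agent.KFlatLib
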