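import Mathlib.CategoryTheory.Adjunction.Unique

/-!
# Transposes along a factorisation of a left adjoint
-/

universe v₁ v₂ v₃ u₁ u₂ u₃

open CategoryTheory

namespace Groth.Agent.KFlatLib

variable {C : Type u₁} [Category.{v₁} C] {D : Type u₂} [Category.{v₂} D] {E : Type u₃} [Category.{v₃} E]
  {F : C ⥤ D} {G : D ⥤ C} {F' : D ⥤ E} {G' : E ⥤ D} {F'' : C ⥤ E} {G'' : E ⥤ C}

/-- If `F'' ≅ F ⋙ F'` then the transpose of `c` along `F''` is, up to iso, the transpose along `F`
of the transpose along `F'` of the composite. -/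
theorem exists_iso_adjunct (adj : F ⊣ G) (adj' : F' ⊣ G') (adj'' : F'' ⊣ G'')
    (N : F ⋙ F' ≅ F'') {R : C} {I : E} (c : F''.obj R ⟶ I) (c' : F'.obj (F.obj R) ⟶ I)
    (hc' : c' = N.hom.app R ≫ c) :
    ∃ u : G''.obj I ≅ G.obj (G'.obj I), adj''.homEquiv R I c ≫ u.hom =
      adj.homEquiv _ _ (adj'.homEquiv _ _ c') := by
  subst hc'
  let a := (adj.comp adj').ofNatIsoLeft N
  refine ⟨(Adjunction.rightAdjointUniq adj'' a).app I, (a.homEquiv _ _).symm.injective ?_⟩
  have h₁ : (a.homEquiv R I).symm (adj''.homEquiv R I c ≫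
      ((Adjunction.rightAdjointUniq adj'' a).app I).hom) = c := by
    rw [Adjunction.homEquiv_counit, Functor.map_comp, Category.assoc, Iso.app_hom,
      Adjunction.rightAdjointUniq_hom_app_counit, ← Adjunction.homEquiv_counit,
      Equiv.symm_apply_apply]
  refine h₁.trans (Eq.symm ?_)
  refine (Adjunction.homEquiv_ofNatIsoLeft_symm_apply (adj.comp adj') N _).trans ?_
  rw [Adjunction.comp_homEquiv]
  change N.inv.app R ≫ (adj'.homEquiv _ _).symm ((adj.homEquiv _ _).symm
    (adj.homEquiv _ _ (adj'.homEquiv _ _ (N.hom.app R ≫ c)))) = c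
  rw [Equiv.symm_apply_apply, Equiv.symm_apply_apply]
  simp

end Groth.Agent.KFlatLib
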