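import Groth.Agent.KFlatLib.KFlat
import Mathlib.CategoryTheory.Abelian.GrothendieckAxioms.Colim
import Mathlib.CategoryTheory.Functor.OfSequence
import Mathlib.CategoryTheory.Abelian.Exact

/-!
# Sequential colimits and acyclicity
-/

set_option linter.style.haveILetI false

universe v u v' u' w w'

open CategoryTheory CategoryTheory.Limits

namespace Groth.Agent.KFlatLib

variable {C : Type u} [Category.{v} C] [Abelian C]
  [HasColimitsOfShape ℕ C] [HasExactColimitsOfShape ℕ C]

/-- If every stage maps to zero in degree `n` homology at some later stage, the homology of the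
colimit vanishes. -/
lemma isZero_homology_of_isColimit {X : ℕ ⥤ CochainComplex C ℤ} {c : Cocone X} (hc : IsColimit c)
    (n : ℤ) (h : ∀ k : ℕ, ∃ (j : ℕ) (hj : k ≤ j),
      HomologicalComplex.homologyMap (X.map (homOfLE hj)) n = 0) :
    IsZero (c.pt.homology n) := by
  have hrel : (ComplexShape.up ℤ).next n = n + 1 := by simp
  let S : ShortComplex (ℕ ⥤ C) := ShortComplex.mk
    (X₁ := X ⋙ HomologicalComplex.cyclesFunctor C (ComplexShape.up ℤ) n)
    (X₂ := X ⋙ HomologicalComplex.eval C (ComplexShape.up ℤ) n)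
    (X₃ := X ⋙ HomologicalComplex.eval C (ComplexShape.up ℤ) (n + 1))
    { app := fun k => (X.obj k).iCycles n
      naturality := fun _ _ f => HomologicalComplex.cyclesMap_i _ _ }
    { app := fun k => (X.obj k).d n (n + 1)
      naturality := fun _ _ f => (X.map f).comm _ _ }
    (by ext k; exact HomologicalComplex.iCycles_d _ _ _)
  have hS : S.Exact := by
    rw [ShortComplex.exact_iff_isZero_homology]
    refine Functor.isZero _ (fun k => ?_)
    refine IsZero.of_iso ((ShortComplex.exact_iff_isZero_homology _).1 ?_)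
      (S.mapHomologyIso ((evaluation _ _).obj k)).symm
    exact ShortComplex.exact_of_f_is_kernel _ ((X.obj k).cyclesIsKernel n (n + 1) hrel)
  let c₁ := colimit.isColimit S.X₁
  let c₂ := isColimitOfPreserves (HomologicalComplex.eval C (ComplexShape.up ℤ) n) hc
  let c₃ := isColimitOfPreserves (HomologicalComplex.eval C (ComplexShape.up ℤ) (n + 1)) hc
  let f : colimit S.X₁ ⟶ c.pt.X n := c₁.desc ((Cocone.precompose S.f).obj
    ((HomologicalComplex.eval C (ComplexShape.up ℤ) n).mapCocone c))
  have hf : ∀ k, colimit.ι S.X₁ k ≫ f = (X.obj k).iCycles n ≫ (c.ι.app k).f n :=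
    fun k => c₁.fac _ k
  have hex := colim.exact_mapShortComplex hS c₁ c₂ c₃ f (c.pt.d n (n + 1))
    (fun k => hf k) (fun k => ((c.ι.app k).comm n (n + 1)))
  have hfd : f ≫ c.pt.d n (n + 1) = 0 := (colim.mapShortComplex S c₁ ((HomologicalComplex.eval C (ComplexShape.up ℤ) n).mapCocone c) ((HomologicalComplex.eval C (ComplexShape.up ℤ) (n + 1)).mapCocone c) f _
    (fun k => hf k) (fun k => ((c.ι.app k).comm n (n + 1)))).zero
  let l : colimit S.X₁ ⟶ c.pt.cycles n := c.pt.liftCycles f (n + 1) hrel hfd
  haveI : Epi l := by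
    haveI : Epi (kernel.lift (c.pt.d n (n + 1)) f hfd) :=
      (ShortComplex.exact_iff_epi_kernel_lift _).1 hex
    let e : kernel (c.pt.d n (n + 1)) ≅ c.pt.cycles n :=
      { hom := c.pt.liftCycles (kernel.ι _) (n + 1) hrel (kernel.condition _)
        inv := kernel.lift _ (c.pt.iCycles n) (c.pt.iCycles_d _ _)
        hom_inv_id := by ext; simp
        inv_hom_id := by rw [← cancel_mono (c.pt.iCycles n)]; simp }
    have : l = kernel.lift (c.pt.d n (n + 1)) f hfd ≫ e.hom := by
      rw [← cancel_mono (c.pt.iCycles n)]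
      simp [l, e]
    rw [this]
    haveI : IsIso e.hom := e.isIso_hom
    exact epi_comp _ _
  rw [IsZero.iff_id_eq_zero, ← cancel_epi (c.pt.homologyπ n), ← cancel_epi l]
  refine colimit.hom_ext (fun k => ?_)
  simp only [Category.comp_id, comp_zero]
  have hl : colimit.ι S.X₁ k ≫ l = HomologicalComplex.cyclesMap (c.ι.app k) n := by
    rw [← cancel_mono (c.pt.iCycles n)]
    rw [Category.assoc, HomologicalComplex.liftCycles_i, hf]
    exact (HomologicalComplex.cyclesMap_i _ _).symm
  erw [reassoc_of% hl]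
  have hnat := HomologicalComplex.homologyπ_naturality (c.ι.app k) n
  obtain ⟨j, hj, h'⟩ := h k
  rw [← c.w (homOfLE hj), HomologicalComplex.homologyMap_comp, h', zero_comp,
    comp_zero, c.w (homOfLE hj)] at hnat
  exact hnat.symm

/-- A sequential colimit of complexes whose transition maps vanish in homology is acyclic. -/
lemma acyclic_of_isColimit {X : ℕ ⥤ CochainComplex C ℤ} {c : Cocone X} (hc : IsColimit c)
    (h : ∀ (k : ℕ) (n : ℤ),
      HomologicalComplex.homologyMap (X.map (homOfLE (Nat.le_succ k))) n = 0) :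
    c.pt.Acyclic :=
  (acyclic_iff_isZero _).2 fun n =>
    isZero_homology_of_isColimit hc n fun k => ⟨k + 1, Nat.le_succ k, h k n⟩

/-- A sequential colimit of acyclic complexes is acyclic. -/
lemma acyclic_of_isColimit' {X : ℕ ⥤ CochainComplex C ℤ} {c : Cocone X} (hc : IsColimit c)
    (h : ∀ k, (X.obj k).Acyclic) : c.pt.Acyclic :=
  acyclic_of_isColimit hc fun k n =>
    ((acyclic_iff_isZero _).1 (h k) n).eq_of_src _ _

variable [∀ S : Type, HasColimitsOfShape (Discrete S) C]
  {T : C ⥤ C ⥤ C} [T.Additive] [∀ Y, (T.obj Y).Additive]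

/-- A sequential colimit of K-flat complexes is K-flat. -/
lemma kFlat_of_isColimit [∀ Y, PreservesColimitsOfShape ℕ (T.obj Y)]
    {X : ℕ ⥤ CochainComplex C ℤ} {c : Cocone X} (hc : IsColimit c)
    (h : ∀ k, KFlat T (X.obj k)) : KFlat T c.pt :=
  kFlat_iff.2 fun L hL => by
    haveI := preservesColimitsOfShape₂ T ℕ L
    exact acyclic_of_isColimit' (isColimitOfPreserves (T.map₂CochainComplex.obj L) hc)
      (fun k => (h k).acyclic hL)

end Groth.Agent.KFlatLib
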