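import Mathlib.Algebra.Homology.DerivedCategory.ShortExact
import Mathlib.Algebra.Homology.DerivedCategory.Fractions
import Mathlib.Algebra.Homology.HomotopyCategory.DegreewiseSplit
import Mathlib.CategoryTheory.Triangulated.HomologicalFunctor
import Mathlib.CategoryTheory.Abelian.DiagramLemmas.Four
import Mathlib.CategoryTheory.Limits.Preserves.Shapes.Products

/-!
# Natural transformations between homological functors, and homological functors out of the derived
category detected on degreewise split sequences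
-/

set_option linter.style.haveILetI false
set_option backward.isDefEq.respectTransparency false

universe t v u v' u'

open CategoryTheory CategoryTheory.Limits Pretriangulated

namespace Groth.Agent.KFlatLib

section Five

variable {C : Type u} [Category.{v} C] [Preadditive C] [HasShift C ℤ]
  [∀ n : ℤ, (shiftFunctor C n).Additive] [HasZeroObject C] [Pretriangulated C]
  {A : Type u'} [Category.{v'} A] [Abelian A] {Φ Ψ : C ⥤ A}

/-- Five lemma for natural transformations of homological functors. -/
lemma isIso_app_obj₃ [Φ.IsHomological] [Ψ.IsHomological] (η : Φ ⟶ Ψ) (T : Triangle C)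
    (hT : T ∈ distTriang C) (h₁ : IsIso (η.app T.obj₁)) (h₂ : IsIso (η.app T.obj₂))
    (h₄ : IsIso (η.app (T.obj₁⟦(1 : ℤ)⟧))) (h₅ : IsIso (η.app (T.obj₂⟦(1 : ℤ)⟧))) :
    IsIso (η.app T.obj₃) := by
  let a := T.mor₁
  let b := T.mor₂
  let c := T.mor₃
  let d := -(T.mor₁⟦(1 : ℤ)⟧')
  have hex : ∀ (F : C ⥤ A) [F.IsHomological],
      (ComposableArrows.mk₄ (F.map a) (F.map b) (F.map c) (F.map d)).Exact := fun F _ =>
    ComposableArrows.exact_of_δ₀ (F.map_distinguished_exact T hT).exact_toComposableArrows
      (ComposableArrows.exact_of_δ₀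
        (F.map_distinguished_exact _ (rot_of_distTriang _ hT)).exact_toComposableArrows
        (F.map_distinguished_exact _
          (rot_of_distTriang _ (rot_of_distTriang _ hT))).exact_toComposableArrows)
  let φ : ComposableArrows.mk₄ (Φ.map a) (Φ.map b) (Φ.map c) (Φ.map d) ⟶
      ComposableArrows.mk₄ (Ψ.map a) (Ψ.map b) (Ψ.map c) (Ψ.map d) :=
    ComposableArrows.homMk₄ (η.app _) (η.app _) (η.app _) (η.app _) (η.app _)
      (η.naturality a) (η.naturality b) (η.naturality c) (η.naturality d)
  exact Abelian.isIso_of_epi_of_isIso_of_isIso_of_mono (hex Φ) (hex Ψ) φ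
    (@IsIso.epi_of_iso _ _ _ _ _ h₁) h₂ h₄ (@IsIso.mono_of_iso _ _ _ _ _ h₅)

/-- An iso at each shift of an object is inherited by the third vertex of a triangle. -/
lemma isIso_app_shift_obj₃ [Φ.IsHomological] [Ψ.IsHomological] (η : Φ ⟶ Ψ) (T : Triangle C)
    (hT : T ∈ distTriang C) (h₁ : ∀ n : ℤ, IsIso (η.app (T.obj₁⟦n⟧)))
    (h₂ : ∀ n : ℤ, IsIso (η.app (T.obj₂⟦n⟧))) (n : ℤ) : IsIso (η.app (T.obj₃⟦n⟧)) := by
  refine isIso_app_obj₃ η _ (Triangle.shift_distinguished T hT n) (h₁ n) (h₂ n) ?_ ?_
  · exact (NatTrans.isIso_app_iff_of_iso η ((shiftFunctorAdd C n 1).app T.obj₁)).1 (h₁ (n + 1))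
  · exact (NatTrans.isIso_app_iff_of_iso η ((shiftFunctorAdd C n 1).app T.obj₂)).1 (h₂ (n + 1))

end Five

section Coproduct

variable {C : Type u} [Category.{v} C] {A : Type u'} [Category.{v'} A] {Φ Ψ : C ⥤ A}

/-- An iso at each summand is inherited by a coproduct preserved by both functors. -/
lemma isIso_app_sigma (η : Φ ⟶ Ψ) {J : Type t} (X : J → C) [HasCoproduct X]
    [PreservesColimit (Discrete.functor X) Φ] [PreservesColimit (Discrete.functor X) Ψ]
    (h : ∀ j, IsIso (η.app (X j))) : IsIso (η.app (∐ X)) := by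
  let hΦ := isColimitOfPreserves Φ (coproductIsCoproduct X)
  let hΨ := isColimitOfPreserves Ψ (coproductIsCoproduct X)
  haveI : ∀ j, IsIso (η.app ((Discrete.functor X).obj j)) := fun j => h j.as
  let w : Discrete.functor X ⋙ Φ ≅ Discrete.functor X ⋙ Ψ :=
    NatIso.ofComponents (fun j => asIso (η.app _)) fun g => η.naturality _
  let e := IsColimit.coconePointsIsoOfNatIso hΦ hΨ w
  have he : η.app (∐ X) = e.hom := hΦ.hom_ext fun j => by
    refine Eq.trans ?_ (IsColimit.comp_coconePointsIsoOfNatIso_hom hΦ hΨ w j).symm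
    exact η.naturality _
  rw [he]
  infer_instance

end Coproduct

section Split

variable {C : Type u} [Category.{v} C] [Abelian C] [HasDerivedCategory C]
  {A : Type u'} [Category.{v'} A] [Abelian A]

open CochainComplex

/-- A functor out of the derived category is homological if it is exact on degreewise split
sequences of resolutions. -/
theorem isHomological_of_split (H : DerivedCategory C ⥤ A) [H.PreservesZeroMorphisms]
    (Good : CochainComplex C ℤ → Prop)
    (P : CochainComplex C ℤ ⥤ CochainComplex C ℤ) (ψ : P ⟶ 𝟭 _)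
    (hψ : ∀ K, QuasiIso (ψ.app K)) (hP : ∀ K, Good (P.obj K))
    (hcone : ∀ {K L : CochainComplex C ℤ} (φ : K ⟶ L), Good K → Good L → Good (mappingCone φ))
    (hshift : ∀ K : CochainComplex C ℤ, Good K → Good (K⟦(1 : ℤ)⟧))
    (hex : ∀ (S : ShortComplex (CochainComplex C ℤ)),
      (∀ n, Nonempty (S.map (HomologicalComplex.eval C _ n)).Splitting) →
      Good S.X₁ → Good S.X₂ → Good S.X₃ → ((S.map DerivedCategory.Q).map H).Exact) :
    H.IsHomological := by
  refine Functor.IsHomological.mk' _ fun T hT => ?_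
  obtain ⟨K, L, φ₀, ⟨e⟩⟩ := (DerivedCategory.mem_distTriang_iff _).1 (inv_rot_of_distTriang _ hT)
  haveI : ∀ K, IsIso (DerivedCategory.Q.map (ψ.app K)) := fun K =>
    (DerivedCategory.isIso_Q_map_iff_quasiIso _ _).2 (hψ K)
  let φ := P.map φ₀
  have hK := hP K
  have hL := hP L
  let eT : DerivedCategory.Q.mapTriangle.obj (mappingCone.triangle φ) ≅ T.invRotate :=
    isoTriangleOfIso₁₂ (DerivedCategory.Q.mapTriangle.obj (mappingCone.triangle φ))
      (DerivedCategory.Q.mapTriangle.obj (mappingCone.triangle φ₀))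
      (DerivedCategory.mappingCone_triangle_distinguished φ)
      (DerivedCategory.mappingCone_triangle_distinguished φ₀)
      (asIso (DerivedCategory.Q.map (ψ.app K))) (asIso (DerivedCategory.Q.map (ψ.app L)))
      ((DerivedCategory.Q.map_comp _ _).symm.trans ((congrArg DerivedCategory.Q.map (ψ.naturality φ₀)).trans
        (DerivedCategory.Q.map_comp _ _))) ≪≫ e.symm
  refine ⟨_, (triangleRotation _).counitIso.symm.app T ≪≫ (rotate _).mapIso eT.symm ≪≫
    DerivedCategory.Q.mapTriangleRotateIso.app _, ?_⟩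
  exact hex (mappingCone.triangleRotateShortComplex φ)
    (fun n => ⟨mappingCone.triangleRotateShortComplexSplitting φ n⟩) hL (hcone φ hK hL) (hshift _ hK)

end Split

end Groth.Agent.KFlatLib
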