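import Groth.Agent.KFlatLib.Ring.InnerHom
import Groth.Agent.KFlatLib.Setup
import Groth.Agent.KFlatLib.Resolution
import Groth.Agent.KFlatLib.Scheme.TildeD

/-!
# An internal hom of complexes for a bifunctor on a Grothendieck abelian category
-/

set_option linter.style.haveILetI false

universe u

open CategoryTheory CategoryTheory.Limits Pretriangulated

attribute [local instance] HasDerivedCategory.standard

namespace Groth.Agent.KFlatLib.Inner

variable {C : Type (u + 1)} [Category.{u} C] [Abelian C] [IsGrothendieckAbelian.{u} C]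
  [∀ S : Type, HasColimitsOfShape (Discrete S) C]
  (T : C ⥤ C ⥤ C) [T.Additive] [∀ X, (T.obj X).Additive]
  [∀ X, PreservesColimitsOfSize.{u, u} (T.flip.obj X)]

/-- `- ⊗ P`. -/
noncomputable abbrev tenX (P : CochainComplex C ℤ) : CochainComplex C ℤ ⥤ CochainComplex C ℤ :=
  T.map₂CochainComplex.flip.obj P

/-- `- ⊗ P` has a right adjoint. -/
lemma isLeftAdjoint_tenX (P : (CochainComplex C ℤ)) : (tenX T P).IsLeftAdjoint := by
  haveI : PreservesColimitsOfSize.{u, u} (tenX T P) := ⟨fun {J} _ => by
    haveI : ∀ q : ℤ, PreservesColimitsOfShape J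
        (T.flip.obj (P.X q)) := fun q =>
      inferInstance
    exact preservesColimitsOfShape₁ T J P⟩
  haveI : WellPowered.{u} ((CochainComplex C ℤ)) := inferInstance
  exact isLeftAdjoint_of_preservesColimits_of_isSeparating
    (P := ObjectProperty.singleton (separator ((CochainComplex C ℤ)))) (isSeparator_separator _) _

/-- The internal hom out of `P`. -/
noncomputable def innerHom (P : (CochainComplex C ℤ)) : (CochainComplex C ℤ) ⥤ (CochainComplex C ℤ) :=
  haveI := isLeftAdjoint_tenX T P
  (tenX T P).rightAdjoint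

/-- The adjunction defining the internal hom. -/
noncomputable def innerAdj (P : (CochainComplex C ℤ)) : tenX T P ⊣ innerHom T P :=
  haveI := isLeftAdjoint_tenX T P
  Adjunction.ofIsLeftAdjoint (tenX T P)

/-- Contravariance of the internal hom. -/
noncomputable def innerMap {P P' : (CochainComplex C ℤ)} (g : P ⟶ P') : innerHom T P' ⟶ innerHom T P :=
  conjugateEquiv (innerAdj T P') (innerAdj T P)
    (T.map₂CochainComplex.flip.map g)

lemma innerMap_counit {P P' : (CochainComplex C ℤ)} (g : P ⟶ P') (I : (CochainComplex C ℤ)) :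
    (tenX T P).map ((innerMap T g).app I) ≫ (innerAdj T P).counit.app I =
      (T.map₂CochainComplex.flip.map g).app ((innerHom T P').obj I) ≫
        (innerAdj T P').counit.app I :=
  conjugateEquiv_counit _ _ _ I

lemma homEquiv_innerMap {P P' : (CochainComplex C ℤ)} (g : P ⟶ P') {Z I : (CochainComplex C ℤ)}
    (a : Z ⟶ (innerHom T P').obj I) :
    ((innerAdj T P).homEquiv Z I).symm (a ≫ (innerMap T g).app I) =
      (T.map₂CochainComplex.flip.map g).app Z ≫
        ((innerAdj T P').homEquiv Z I).symm a := by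
  rw [Adjunction.homEquiv_counit, Adjunction.homEquiv_counit, Functor.map_comp, Category.assoc,
    innerMap_counit T, ← Category.assoc, ← Category.assoc]
  exact congrArg (· ≫ _) ((T.map₂CochainComplex.flip.map g).naturality a)

lemma homEquiv_zero (P : (CochainComplex C ℤ)) (Z I : (CochainComplex C ℤ)) :
    ((innerAdj T P).homEquiv Z I).symm 0 = 0 := by
  haveI : (tenX T P).PreservesZeroMorphisms := inferInstance
  rw [Adjunction.homEquiv_counit, (tenX T P).map_zero, zero_comp]

/-- The internal hom turns degreewise split sequences into short exact ones, into injective terms. -/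
lemma innerHom_shortExact (S : ShortComplex ((CochainComplex C ℤ)))
    (hS : ∀ n, Nonempty (S.map (HomologicalComplex.eval _ _ n)).Splitting) (I : (CochainComplex C ℤ))
    [∀ n, Injective (I.X n)] :
    ∃ hz, (ShortComplex.mk ((innerMap T S.g).app I) ((innerMap T S.f).app I) hz).ShortExact := by
  let T := T
  have hten : ∀ Z : (CochainComplex C ℤ), (S.map (T.map₂CochainComplex.obj Z)).ShortExact := fun Z =>
    shortExact₂_of_splitting Z S hS
  have hz : (innerMap T S.g).app I ≫ (innerMap T S.f).app I = 0 := by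
    refine ((innerAdj T S.X₁).homEquiv _ _).symm.injective ?_
    rw [homEquiv_innerMap T, homEquiv_zero T]
    have h := homEquiv_innerMap T S.g (𝟙 ((innerHom T S.X₃).obj I))
    rw [Category.id_comp] at h
    rw [h, ← Category.assoc]
    exact (congrArg (· ≫ _) (S.map (T.map₂CochainComplex.obj _)).zero).trans zero_comp
  refine ⟨hz, ?_⟩
  let H := ShortComplex.mk ((innerMap T S.g).app I) ((innerMap T S.f).app I) hz
  have hmono : Mono H.f := Preadditive.mono_of_cancel_zero _ fun {Z} a ha => by
    refine ((innerAdj T S.X₃).homEquiv _ _).symm.injective ?_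
    rw [homEquiv_zero T]
    haveI : Epi ((T.map₂CochainComplex.obj Z).map S.g) := (hten Z).epi_g
    refine (cancel_epi ((T.map₂CochainComplex.obj Z).map S.g)).1 (Eq.trans ?_ comp_zero.symm)
    have h := homEquiv_innerMap T S.g a
    rw [show a ≫ (innerMap T S.g).app I = 0 from ha, homEquiv_zero T] at h
    exact h.symm
  have hepi : Epi H.g := by
    let X := (innerHom T S.X₁).obj I
    let D : (CochainComplex C ℤ) := CochainComplex.mappingCone (𝟙 (X⟦(-1 : ℤ)⟧))
    let π : D ⟶ X := (CochainComplex.mappingCone.triangle (𝟙 (X⟦(-1 : ℤ)⟧))).mor₃ ≫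
      (shiftFunctorCompIsoId ((CochainComplex C ℤ)) (-1 : ℤ) 1 (by omega)).hom.app X
    haveI : Epi π := by
      haveI : Epi (CochainComplex.mappingCone.triangle (𝟙 (X⟦(-1 : ℤ)⟧))).mor₃ :=
        @HomologicalComplex.epi_of_epi_f _ _ _ _ _ _ _ (coneSeq (𝟙 (X⟦(-1 : ℤ)⟧))).g fun n =>
          (coneSeqSplitting (𝟙 (X⟦(-1 : ℤ)⟧)) n).shortExact.epi_g
      haveI h2 : Epi ((shiftFunctorCompIsoId ((CochainComplex C ℤ)) (-1 : ℤ) 1 (by omega)).app X).hom := inferInstance
      exact @epi_comp _ _ _ _ _ _ ‹_› _ h2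
    obtain ⟨h₁⟩ := nonempty_homotopy₁ T S.X₁
      (CochainComplex.mappingCone.homotopyToZeroOfId (X⟦(-1 : ℤ)⟧))
    let f := ((innerAdj T S.X₁).homEquiv D I).symm π
    haveI : ∀ n, Mono (((T.map₂CochainComplex.obj D).map S.f).f n) := fun n =>
      ((hten D).map_of_exact (HomologicalComplex.eval _ _ n)).mono_f
    obtain ⟨e, he⟩ := exists_extension_of_homotopy ((T.map₂CochainComplex.obj D).map S.f) f
      ((Homotopy.ofEq (Category.id_comp f).symm).trans
        ((((Homotopy.ofEq (CategoryTheory.Functor.map_id _ D).symm).trans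
          (h₁.trans (Homotopy.ofEq (Functor.map_zero _ _ _)))).compRight f).trans
            (Homotopy.ofEq zero_comp)))
    have : (innerAdj T S.X₂).homEquiv D I e ≫ H.g = π := by
      refine ((innerAdj T S.X₁).homEquiv _ _).symm.injective ?_
      refine (homEquiv_innerMap T S.f _).trans ?_
      rw [Equiv.symm_apply_apply]
      exact he
    exact epi_of_epi_fac this
  refine { exact := ?_, mono_f := hmono, epi_g := hepi }
  refine ShortComplex.exact_of_f_is_kernel H (KernelFork.IsLimit.ofι' H.f H.zero fun {Z} a ha => ?_)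
  have hb : (T.map₂CochainComplex.obj Z).map S.f ≫ ((innerAdj T S.X₂).homEquiv Z I).symm a = 0 := by
    have h := homEquiv_innerMap T S.f a
    rw [show a ≫ (innerMap T S.f).app I = 0 from ha, homEquiv_zero T] at h
    exact h.symm
  haveI : Epi (S.map (T.map₂CochainComplex.obj Z)).g := (hten Z).epi_g
  refine ⟨(innerAdj T S.X₃).homEquiv Z I ((hten Z).exact.desc (((innerAdj T S.X₂).homEquiv Z I).symm a) hb), ?_⟩
  refine ((innerAdj T S.X₂).homEquiv _ _).symm.injective ?_
  refine (homEquiv_innerMap T S.g _).trans ?_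
  rw [Equiv.symm_apply_apply]
  exact (hten Z).exact.g_desc _ hb

lemma tenCx_acyclic {X : (CochainComplex C ℤ)} (hX : X.Acyclic) {P : (CochainComplex C ℤ)}
    (hP : KFlat T P) : ((tenX T P).obj X).Acyclic :=
  (kFlat_iff.1 hP) X hX

lemma nonempty_homotopy_of_homEquiv {P I X : (CochainComplex C ℤ)} [∀ n, Injective (I.X n)]
    (g : X ⟶ (innerHom T P).obj I) (h : Homotopy (((innerAdj T P).homEquiv X I).symm g) 0) :
    Nonempty (Homotopy g 0) := by
  let ι : X ⟶ CochainComplex.mappingCone (𝟙 X) := CochainComplex.mappingCone.inr (𝟙 X)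
  have hι : ((coneSeq (𝟙 X)).map (tenX T P)).ShortExact :=
    shortExact₁_of_splitting P (coneSeq (𝟙 X)) fun n => ⟨coneSeqSplitting (𝟙 X) n⟩
  haveI : ∀ n, Mono (((tenX T P).map ι).f n) := fun n =>
    (hι.map_of_exact (HomologicalComplex.eval _ _ n)).mono_f
  obtain ⟨e, he⟩ := exists_extension_of_homotopy ((tenX T P).map ι) _ h
  have hg : g = ι ≫ (innerAdj T P).homEquiv _ _ e := by
    rw [← (innerAdj T P).homEquiv_naturality_left, he, Equiv.apply_symm_apply]
  exact ⟨(Homotopy.ofEq (hg.trans (by rw [Category.id_comp]))).trans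
    ((((CochainComplex.mappingCone.homotopyToZeroOfId X).compRight _).compLeft ι).trans
      (Homotopy.ofEq (by rw [zero_comp, comp_zero])))⟩

lemma isKInjective_innerHom {P : (CochainComplex C ℤ)} (hP : KFlat T P)
    (I : (CochainComplex C ℤ)) [I.IsKInjective] [∀ n, Injective (I.X n)] :
    ((innerHom T P).obj I).IsKInjective where
  nonempty_homotopy_zero {X} g hX := by
    obtain ⟨h⟩ := CochainComplex.IsKInjective.nonempty_homotopy_zero
      (((innerAdj T P).homEquiv X I).symm g) (tenCx_acyclic T hX hP)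
    exact nonempty_homotopy_of_homEquiv T g h


section QuasiIso

lemma homEquiv_sub {P I X : CochainComplex C ℤ} (g g' : X ⟶ (innerHom T P).obj I) :
    ((innerAdj T P).homEquiv X I).symm (g - g') =
      ((innerAdj T P).homEquiv X I).symm g - ((innerAdj T P).homEquiv X I).symm g' := by
  simp only [Adjunction.homEquiv_counit, Functor.map_sub, Preadditive.sub_comp]

/-- Homotopies of maps into the internal hom are detected after transposing. -/
lemma nonempty_homotopy_iff {P I X : CochainComplex C ℤ} [∀ n, Injective (I.X n)]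
    (g g' : X ⟶ (innerHom T P).obj I) :
    Nonempty (Homotopy g g') ↔
      Nonempty (Homotopy (((innerAdj T P).homEquiv X I).symm g) (((innerAdj T P).homEquiv X I).symm g')) := by
  constructor
  · rintro ⟨h⟩
    obtain ⟨h₁⟩ := nonempty_homotopy₁ T P h
    exact ⟨((Homotopy.ofEq ((innerAdj T P).homEquiv_counit X I g)).trans
      (h₁.compRight _)).trans (Homotopy.ofEq ((innerAdj T P).homEquiv_counit X I g').symm)⟩
  · rintro ⟨h⟩
    obtain ⟨k⟩ := nonempty_homotopy_of_homEquiv T (g - g')
      ((Homotopy.ofEq (homEquiv_sub T g g')).trans h.equivSubZero)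
    exact ⟨Homotopy.equivSubZero.symm k⟩

variable {T} [∀ S : Type, HasExactColimitsOfShape (Discrete S) C]
  [HasColimitsOfShape ℕ C] [HasExactColimitsOfShape ℕ C]

omit [HasColimitsOfShape ℕ C] [HasExactColimitsOfShape ℕ C] in
lemma exists_comp_innerMap (e : T.flip ≅ T) {P P' I X : CochainComplex C ℤ} [∀ n, Injective (I.X n)]
    [I.IsKInjective] (hX : KFlat T X) (g : P ⟶ P') [QuasiIso g] (a : X ⟶ (innerHom T P).obj I) :
    ∃ a' : X ⟶ (innerHom T P').obj I, Nonempty (Homotopy (a' ≫ (innerMap T g).app I) a) := by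
  haveI := hX.quasiIso_map' e g
  haveI : IsIso (DerivedCategory.Q.map ((T.map₂CochainComplex.obj X).map g)) :=
    (DerivedCategory.isIso_Q_map_iff_quasiIso (C := C) _).2 inferInstance
  obtain ⟨b, hb⟩ := exists_Q_map (inv (DerivedCategory.Q.map ((T.map₂CochainComplex.obj X).map g)) ≫
    DerivedCategory.Q.map (((innerAdj T P).homEquiv X I).symm a))
  refine ⟨(innerAdj T P').homEquiv X I b, (nonempty_homotopy_iff T _ _).2 ?_⟩
  rw [homEquiv_innerMap T, Equiv.symm_apply_apply]
  refine homotopy_of_Q_map_eq _ _ ?_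
  rw [Functor.map_comp, hb]
  exact IsIso.hom_inv_id_assoc (DerivedCategory.Q.map ((T.map₂CochainComplex.obj X).map g)) _

omit [HasColimitsOfShape ℕ C] [HasExactColimitsOfShape ℕ C] in
lemma homotopic_of_comp_innerMap (e : T.flip ≅ T) {P P' I X : CochainComplex C ℤ}
    [∀ n, Injective (I.X n)] [I.IsKInjective] (hX : KFlat T X) (g : P ⟶ P') [QuasiIso g]
    (a a' : X ⟶ (innerHom T P').obj I)
    (h : Homotopy (a ≫ (innerMap T g).app I) (a' ≫ (innerMap T g).app I)) :
    Nonempty (Homotopy a a') := by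
  haveI := hX.quasiIso_map' e g
  haveI : IsIso (DerivedCategory.Q.map ((T.map₂CochainComplex.obj X).map g)) :=
    (DerivedCategory.isIso_Q_map_iff_quasiIso (C := C) _).2 inferInstance
  obtain ⟨h'⟩ := (nonempty_homotopy_iff T _ _).1 ⟨h⟩
  refine (nonempty_homotopy_iff T _ _).2 (homotopy_of_Q_map_eq _ _ ?_)
  have h'' := DerivedCategory.Q_map_eq_of_homotopy _ h'
  rw [homEquiv_innerMap T, homEquiv_innerMap T, Functor.map_comp, Functor.map_comp] at h''
  exact (cancel_epi (DerivedCategory.Q.map ((T.map₂CochainComplex.obj X).map g))).1 h''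

variable [∀ Y, PreservesColimitsOfShape (Discrete ℤ) (T.obj Y)] [∀ Y, PreservesColimitsOfShape ℕ (T.obj Y)]

/-- The internal hom into a K-injective complex of injectives inverts quasi-isomorphisms. -/
theorem quasiIso_innerMap (c : FlatCover C) (hc : ∀ X, c.Flat X → FlatObj T X) (e : T.flip ≅ T)
    {P P' : CochainComplex C ℤ} (g : P ⟶ P') [QuasiIso g]
    (I : CochainComplex C ℤ) [∀ n, Injective (I.X n)] [I.IsKInjective] :
    QuasiIso ((innerMap T g).app I) := by
  set φ := (innerMap T g).app I
  let A := (innerHom T P).obj I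
  let A' := (innerHom T P').obj I
  haveI := c.quasiIso_ψ A
  haveI := c.quasiIso_ψ A'
  haveI hA : IsIso (DerivedCategory.Q.map (c.ψ.app A)) :=
    (DerivedCategory.isIso_Q_map_iff_quasiIso (C := C) _).2 inferInstance
  haveI hA' : IsIso (DerivedCategory.Q.map (c.ψ.app A')) :=
    (DerivedCategory.isIso_Q_map_iff_quasiIso (C := C) _).2 inferInstance
  obtain ⟨s, ⟨hs⟩⟩ := exists_comp_innerMap e (c.kFlat_P hc A) g (c.ψ.app A)
  have nat : c.P.map φ ≫ c.ψ.app A = c.ψ.app A' ≫ φ := c.ψ.naturality φ
  obtain ⟨hi⟩ := homotopic_of_comp_innerMap e (c.kFlat_P hc A') g (c.P.map φ ≫ s) (c.ψ.app A')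
    (((Homotopy.ofEq (Category.assoc _ _ _)).trans (hs.compLeft _)).trans (Homotopy.ofEq nat))
  have h₁ := DerivedCategory.Q_map_eq_of_homotopy _ hs
  have h₂ := DerivedCategory.Q_map_eq_of_homotopy _ hi
  have h₃ := congrArg DerivedCategory.Q.map nat
  simp only [Functor.map_comp] at h₁ h₂ h₃
  refine (DerivedCategory.isIso_Q_map_iff_quasiIso (C := C) _).1 ?_
  refine ⟨inv (DerivedCategory.Q.map (c.ψ.app A)) ≫ DerivedCategory.Q.map s, ?_, ?_⟩
  · refine (cancel_epi (DerivedCategory.Q.map (c.ψ.app A'))).1 ?_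
    rw [← reassoc_of% h₃, IsIso.hom_inv_id_assoc, h₂]
    exact (Category.comp_id _).symm
  · rw [Category.assoc, h₁, IsIso.inv_hom_id]

end QuasiIso

end Groth.Agent.KFlatLib.Inner
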