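import Groth.Agent.KFlatLib.InnerGen

/-!
# The terms of an internal hom out of a complex of flat objects are injective
-/

set_option linter.style.haveILetI false
set_option backward.isDefEq.respectTransparency false

universe u

open CategoryTheory CategoryTheory.Limits

namespace Groth.Agent.KFlatLib.Inner

variable {C : Type (u + 1)} [Category.{u} C] [Abelian C] [IsGrothendieckAbelian.{u} C]
  [∀ S : Type, HasColimitsOfShape (Discrete S) C]
  (T : C ⥤ C ⥤ C) [T.Additive] [∀ X, (T.obj X).Additive]
  [∀ X, PreservesColimitsOfSize.{u, u} (T.flip.obj X)]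

open CochainComplex CochainComplex.HomComplex in
/-- `iHom(P, I)` has injective terms for `P` with flat terms and `I` with injective terms. -/
theorem injective_innerHom_X (P : CochainComplex C ℤ) (hP : ∀ q, FlatObj T (P.X q))
    (I : CochainComplex C ℤ) [∀ n, Injective (I.X n)] (n : ℤ) :
    Injective (((innerHom T P).obj I).X n) := by
  let A := (innerHom T P).obj I
  refine ⟨fun {Y Z} g f hf => ?_⟩
  let F := HomologicalComplex.single C (ComplexShape.up ℤ) (n + 1)
  let D : C → CochainComplex C ℤ := fun M => mappingCone (𝟙 (F.obj M))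
  let eM : ∀ M, (F.obj M).X (n + 1) ≅ M := fun M => HomologicalComplex.singleObjXSelf _ (n + 1) M
  let i : D Y ⟶ D Z := mappingCone.map (𝟙 (F.obj Y)) (𝟙 (F.obj Z)) (F.map f) (F.map f) (by simp)
  let b : F.obj Y ⟶ A := HomologicalComplex.mkHomFromSingle (g ≫ A.d n (n + 1))
    (fun k _ => by rw [Category.assoc, A.d_comp_d, comp_zero])
  let α : Cochain (F.obj Y) A (-1) := Cochain.mk fun p q hpq =>
    if h : p = n + 1 then
      (HomologicalComplex.singleObjXIsoOfEq _ (n + 1) Y p h).hom ≫ g ≫
        (A.XIsoOfEq (show n = q by omega)).hom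
    else 0
  have hα : α.v (n + 1) n (by omega) = (eM Y).hom ≫ g := by
    simp [α, eM, HomologicalComplex.singleObjXSelf]
    exact Category.comp_id g
  have hδ : δ (-1) 0 α = Cochain.ofHom (𝟙 (F.obj Y) ≫ b) := by
    ext p
    by_cases h : p = n + 1
    · subst h
      rw [δ_v (-1) 0 (by omega) α (n + 1) (n + 1) (by omega) n (n + 2) (by omega) (by omega)]
      rw [show (F.obj Y).d (n + 1) (n + 2) = 0 from
        (HomologicalComplex.isZero_single_obj_X (ComplexShape.up ℤ) (n + 1) Y (n + 2) (by omega)).eq_of_tgt _ _,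
        zero_comp, smul_zero, add_zero, hα]
      simp [b, eM]
    · exact (HomologicalComplex.isZero_single_obj_X (ComplexShape.up ℤ) (n + 1) Y p h).eq_of_src _ _
  let φ : D Y ⟶ A := mappingCone.desc (𝟙 (F.obj Y)) α b hδ
  haveI hi : ∀ k, Mono (i.f k) := fun k => by
    haveI : ∀ l, Mono ((F.map f).f l) := fun l => by
      by_cases h : l = n + 1
      · subst h
        rw [HomologicalComplex.single_map_f_self]
        infer_instance
      · exact ⟨fun _ _ _ => (HomologicalComplex.isZero_single_obj_X _ _ _ _ h).eq_of_tgt _ _⟩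
    have e₁ : i.f k ≫ (mappingCone.fst (𝟙 (F.obj Z))).1.v k (k + 1) rfl =
        (mappingCone.fst (𝟙 (F.obj Y))).1.v k (k + 1) rfl ≫ (F.map f).f (k + 1) := by
      rw [mappingCone.ext_from_iff _ (k + 1) k rfl]
      simp [i, mappingCone.map]
    have e₂ : i.f k ≫ (mappingCone.snd (𝟙 (F.obj Z))).v k k (add_zero k) =
        (mappingCone.snd (𝟙 (F.obj Y))).v k k (add_zero k) ≫ (F.map f).f k := by
      rw [mappingCone.ext_from_iff _ (k + 1) k rfl]
      simp [i, mappingCone.map]
    refine Preadditive.mono_of_cancel_zero _ fun {W} a ha => ?_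
    have h₁ := congrArg (fun t => t ≫ (mappingCone.fst (𝟙 (F.obj Z))).1.v k (k + 1) rfl) ha
    have h₂ := congrArg (fun t => t ≫ (mappingCone.snd (𝟙 (F.obj Z))).v k k (add_zero k)) ha
    simp only [Category.assoc, zero_comp, e₁, e₂] at h₁ h₂
    rw [mappingCone.ext_to_iff _ k (k + 1) rfl, zero_comp, zero_comp,
      ← cancel_mono ((F.map f).f (k + 1)), ← cancel_mono ((F.map f).f k)]
    simp only [Category.assoc, zero_comp]
    constructor
    · exact h₁
    · exact h₂
  have hse : ((ShortComplex.mk i (cokernel.π i) (cokernel.condition i)).map (tenX T P)).ShortExact := by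
    haveI : Mono i := HomologicalComplex.mono_of_mono_f i hi
    have hS : (ShortComplex.mk i (cokernel.π i) (cokernel.condition i)).ShortExact :=
      { exact := ShortComplex.exact_of_g_is_cokernel _ (cokernelIsCokernel _) }
    exact shortExact₁ T P _ fun p q =>
      hP q _ ((HomologicalComplex.shortExact_iff_degreewise_shortExact _).1 hS p)
  haveI : ∀ k, Mono (((tenX T P).map i).f k) := fun k =>
    (hse.map_of_exact (HomologicalComplex.eval _ _ k)).mono_f
  obtain ⟨h₁⟩ := nonempty_homotopy₁ T P (mappingCone.homotopyToZeroOfId (F.obj Y))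
  let φ' := ((innerAdj T P).homEquiv _ _).symm φ
  obtain ⟨e, he⟩ := exists_extension_of_homotopy ((tenX T P).map i) φ'
    ((Homotopy.ofEq (Category.id_comp φ').symm).trans
      ((((Homotopy.ofEq (CategoryTheory.Functor.map_id (tenX T P) (D Y)).symm).trans
        (h₁.trans (Homotopy.ofEq (Functor.map_zero _ _ _)))).compRight φ').trans
          (Homotopy.ofEq zero_comp)))
  have hfac : i ≫ (innerAdj T P).homEquiv _ _ e = φ := by
    rw [← (innerAdj T P).homEquiv_naturality_left, he, Equiv.apply_symm_apply]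
  refine ⟨(eM Z).inv ≫ (mappingCone.inl (𝟙 (F.obj Z))).v (n + 1) n (by omega) ≫
    ((innerAdj T P).homEquiv _ _ e).f n, ?_⟩
  have h₂ : (mappingCone.inl (𝟙 (F.obj Y))).v (n + 1) n (by omega) ≫ i.f n =
      (F.map f).f (n + 1) ≫ (mappingCone.inl (𝟙 (F.obj Z))).v (n + 1) n (by omega) := by
    simp [i, mappingCone.map]
  have h₃ := congrArg (fun t : D Y ⟶ A =>
    (eM Y).inv ≫ (mappingCone.inl (𝟙 (F.obj Y))).v (n + 1) n (by omega) ≫ t.f n) hfac
  simp only [HomologicalComplex.comp_f, φ, mappingCone.inl_v_desc_f, hα, Iso.inv_hom_id_assoc] at h₃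
  rw [reassoc_of% h₂] at h₃
  rw [← h₃]
  simp [eM, F, HomologicalComplex.single_map_f_self]

end Groth.Agent.KFlatLib.Inner
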