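import Groth.Agent.KFlatLib.Bifunctor
import Mathlib.Algebra.Homology.HomologySequenceLemmas
import Mathlib.Algebra.Homology.HomotopyCategory.Pretriangulated
import Mathlib.CategoryTheory.Preadditive.Biproducts

/-!
# Functors on complexes preserving quasi-isomorphisms

An additive functor on cochain complexes which preserves homotopies, degreewise split short exact
sequences and acyclicity preserves quasi-isomorphisms.
-/

set_option linter.style.haveILetI false

universe v u v' u' w w'

open CategoryTheory CategoryTheory.Limits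

namespace Groth.Agent.KFlatLib

variable {C : Type u} [Category.{v} C] [Abelian C] {D : Type u'} [Category.{v'} D] [Abelian D]

lemma acyclic_iff_isZero {ι : Type*} {c : ComplexShape ι} (K : HomologicalComplex C c) :
    K.Acyclic ↔ ∀ i, IsZero (K.homology i) := by
  simp [HomologicalComplex.acyclic_iff, HomologicalComplex.exactAt_iff_isZero_homology]

lemma quasiIso_f_of_acyclic {S : ShortComplex (CochainComplex C ℤ)} (hS : S.ShortExact)
    (h : S.X₃.Acyclic) : QuasiIso S.f := by
  rw [acyclic_iff_isZero] at h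
  refine ⟨fun i => ?_⟩
  rw [quasiIsoAt_iff_isIso_homologyMap]
  haveI : Mono (HomologicalComplex.homologyMap S.f i) :=
    (hS.homology_exact₁ (i - 1) i (by simp)).mono_g ((h (i - 1)).eq_of_src _ _)
  haveI : Epi (HomologicalComplex.homologyMap S.f i) :=
    (hS.homology_exact₂ i).epi_f ((h i).eq_of_tgt _ _)
  exact isIso_of_mono_of_epi _

lemma quasiIso_g_of_acyclic {S : ShortComplex (CochainComplex C ℤ)} (hS : S.ShortExact)
    (h : S.X₁.Acyclic) : QuasiIso S.g := by
  rw [acyclic_iff_isZero] at h
  refine ⟨fun i => ?_⟩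
  rw [quasiIsoAt_iff_isIso_homologyMap]
  haveI : Epi (HomologicalComplex.homologyMap S.g i) :=
    (hS.homology_exact₃ i (i + 1) (by simp)).epi_f ((h (i + 1)).eq_of_tgt _ _)
  haveI : Mono (HomologicalComplex.homologyMap S.g i) :=
    (hS.homology_exact₂ i).mono_g ((h i).eq_of_src _ _)
  exact isIso_of_mono_of_epi _

lemma quasiIso_of_acyclic {ι : Type*} {c : ComplexShape ι} {K L : HomologicalComplex C c}
    (f : K ⟶ L) (hK : K.Acyclic) (hL : L.Acyclic) : QuasiIso f := by
  rw [acyclic_iff_isZero] at hK hL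
  refine ⟨fun i => ?_⟩
  rw [quasiIsoAt_iff_isIso_homologyMap]
  exact ⟨0, (hK i).eq_of_src _ _, (hL i).eq_of_src _ _⟩

lemma acyclic_X₃_of_acyclic {S : ShortComplex (CochainComplex C ℤ)} (hS : S.ShortExact)
    (h₁ : S.X₁.Acyclic) (h₂ : S.X₂.Acyclic) : S.X₃.Acyclic :=
  hS.acyclic_X₃ (quasiIso_of_acyclic _ h₁ h₂)

lemma acyclic_X₁_of_acyclic {S : ShortComplex (CochainComplex C ℤ)} (hS : S.ShortExact)
    (h₂ : S.X₂.Acyclic) (h₃ : S.X₃.Acyclic) : S.X₁.Acyclic :=
  hS.acyclic_X₁ (quasiIso_of_acyclic _ h₂ h₃)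

lemma acyclic_of_homotopy_id_zero {ι : Type*} {c : ComplexShape ι} {K : HomologicalComplex C c}
    (h : Homotopy (𝟙 K) 0) : K.Acyclic := by
  rw [acyclic_iff_isZero]
  intro i
  rw [IsZero.iff_id_eq_zero]
  simpa using h.homologyMap_eq i

/-- The projection from the biproduct with a contractible complex is a homotopy equivalence. -/
noncomputable def homotopyEquivFst {G M : CochainComplex C ℤ} (h : Homotopy (𝟙 M) 0) :
    HomotopyEquiv (G ⊞ M) G where
  hom := biprod.fst
  inv := biprod.inl
  homotopyHomInvId :=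
    let h₁ := (h.compRight (biprod.inr : M ⟶ G ⊞ M)).compLeft (biprod.snd : G ⊞ M ⟶ M)
    let h₂ := Homotopy.add (Homotopy.refl ((biprod.fst : G ⊞ M ⟶ G) ≫ biprod.inl)) h₁
    (Homotopy.ofEq (by simp)).trans (h₂.symm.trans (Homotopy.ofEq (by simp)))
  homotopyInvHomId := Homotopy.ofEq (by simp)

/-- The embedding of `F` in the sum of `G` with the cone of the identity of `F`. -/
noncomputable def embedCone {F G : CochainComplex C ℤ} (f : F ⟶ G) :
    F ⟶ G ⊞ CochainComplex.mappingCone (𝟙 F) :=
  biprod.lift f (CochainComplex.mappingCone.inr (𝟙 F))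

/-- A degreewise retraction of `embedCone`. -/
noncomputable def embedConeRetraction {F G : CochainComplex C ℤ} (f : F ⟶ G) (n : ℤ) :
    (G ⊞ CochainComplex.mappingCone (𝟙 F)).X n ⟶ F.X n :=
  (biprod.snd : G ⊞ CochainComplex.mappingCone (𝟙 F) ⟶ _).f n ≫
    (CochainComplex.mappingCone.snd (𝟙 F)).v n n (add_zero n)

lemma embedCone_retraction {F G : CochainComplex C ℤ} (f : F ⟶ G) (n : ℤ) :
    (embedCone f).f n ≫ embedConeRetraction f n = 𝟙 (F.X n) := by
  rw [embedConeRetraction, ← HomologicalComplex.comp_f_assoc]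
  simp [embedCone]

instance {F G : CochainComplex C ℤ} (f : F ⟶ G) : Mono (embedCone f) :=
  HomologicalComplex.mono_of_mono_f _ fun n =>
    (SplitMono.mk (embedConeRetraction f n) (embedCone_retraction f n)).mono

/-- The short exact sequence of `embedCone`. -/
noncomputable abbrev embedConeSeq {F G : CochainComplex C ℤ} (f : F ⟶ G) :
    ShortComplex (CochainComplex C ℤ) :=
  ShortComplex.mk (embedCone f) (cokernel.π _) (cokernel.condition _)

lemma embedConeSeq_shortExact {F G : CochainComplex C ℤ} (f : F ⟶ G) :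
    (embedConeSeq f).ShortExact :=
  { exact := ShortComplex.exact_of_g_is_cokernel _ (cokernelIsCokernel _) }

/-- The degreewise splitting of the sequence of `embedCone`. -/
noncomputable def embedConeSplitting {F G : CochainComplex C ℤ} (f : F ⟶ G) (n : ℤ) :
    ((embedConeSeq f).map (HomologicalComplex.eval C (ComplexShape.up ℤ) n)).Splitting :=
  haveI := (((HomologicalComplex.shortExact_iff_degreewise_shortExact _).1
    (embedConeSeq_shortExact f)) n).epi_g
  ShortComplex.Splitting.ofExactOfRetraction _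
    (((HomologicalComplex.shortExact_iff_degreewise_shortExact _).1
      (embedConeSeq_shortExact f)) n).exact (embedConeRetraction f n)
    (embedCone_retraction f n) inferInstance

lemma acyclic_cokernel_embedCone {F G : CochainComplex C ℤ} (f : F ⟶ G) [QuasiIso f] :
    (cokernel (embedCone f)).Acyclic := by
  refine (embedConeSeq_shortExact f).acyclic_X₃ ?_
  haveI : QuasiIso (biprod.fst : G ⊞ CochainComplex.mappingCone (𝟙 F) ⟶ G) :=
    (homotopyEquivFst (CochainComplex.mappingCone.homotopyToZeroOfId F)).quasiIso_hom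
  haveI : QuasiIso (embedCone f ≫ (biprod.fst : G ⊞ CochainComplex.mappingCone (𝟙 F) ⟶ G)) := by
    simpa [embedCone] using (inferInstance : QuasiIso f)
  exact quasiIso_of_comp_right (embedCone f) biprod.fst

variable (Φ : CochainComplex C ℤ ⥤ CochainComplex D ℤ) [Φ.Additive]

/-- A functor preserving homotopies, degreewise split short exact sequences, and the acyclicity
of the relevant cokernel, preserves a quasi-isomorphism. -/
lemma quasiIso_map
    (hhom : ∀ {K L : CochainComplex C ℤ} {f g : K ⟶ L},
      Homotopy f g → Nonempty (Homotopy (Φ.map f) (Φ.map g)))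
    (hsplit : ∀ S : ShortComplex (CochainComplex C ℤ),
      (∀ n, Nonempty (S.map (HomologicalComplex.eval C (ComplexShape.up ℤ) n)).Splitting) →
        (S.map Φ).ShortExact)
    {F G : CochainComplex C ℤ} (f : F ⟶ G) [QuasiIso f]
    (hac : ∀ Q : CochainComplex C ℤ, Q.Acyclic →
      Nonempty (cokernel (embedCone f) ≅ Q) → (Φ.obj Q).Acyclic) :
    QuasiIso (Φ.map f) := by
  let e := homotopyEquivFst (G := G) (CochainComplex.mappingCone.homotopyToZeroOfId F)
  let e' : HomotopyEquiv (Φ.obj (G ⊞ CochainComplex.mappingCone (𝟙 F))) (Φ.obj G) :=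
    { hom := Φ.map e.hom
      inv := Φ.map e.inv
      homotopyHomInvId := (Homotopy.ofEq (by simp)).trans
        ((hhom e.homotopyHomInvId).some.trans (Homotopy.ofEq (by simp)))
      homotopyInvHomId := (Homotopy.ofEq (by simp)).trans
        ((hhom e.homotopyInvHomId).some.trans (Homotopy.ofEq (by simp))) }
  haveI h₁ : QuasiIso (Φ.map e.hom) := e'.quasiIso_hom
  haveI h₂ : QuasiIso (Φ.map (embedCone f)) :=
    quasiIso_f_of_acyclic (hsplit _ (fun n => ⟨embedConeSplitting f n⟩))
      (hac _ (acyclic_cokernel_embedCone f) ⟨Iso.refl _⟩)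
  have : Φ.map f = Φ.map (embedCone f) ≫ Φ.map e.hom := by
    rw [← Functor.map_comp]
    simp [e, homotopyEquivFst, embedCone]
  rw [this]
  infer_instance

end Groth.Agent.KFlatLib
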