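import Mathlib.Algebra.Exact
import Mathlib.Algebra.Module.LinearMap.Basic
import Mathlib.Tactic.Abel

/-!
# An elementwise five lemma for complexes of modules
-/

universe u v

namespace Groth.Agent.KFlatLib

section

variable {B : Type u} [Ring B] {A A' : ℤ → Type v} [∀ n, AddCommGroup (A n)] [∀ n, Module B (A n)]
  [∀ n, AddCommGroup (A' n)] [∀ n, Module B (A' n)]

/-- `ψ` induces bijections on cohomology, elementwise. -/
def SecQI (d : ∀ n, A n →ₗ[B] A (n + 1)) (d' : ∀ n, A' n →ₗ[B] A' (n + 1))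
    (ψ : ∀ n, A n →ₗ[B] A' n) : Prop :=
  (∀ n y, d' (n + 1) y = 0 → ∃ z w, d (n + 1) z = 0 ∧ y = ψ (n + 1) z + d' n w) ∧
    ∀ n z w', d (n + 1) z = 0 → ψ (n + 1) z = d' n w' → ∃ w, d n w = z

end

variable {B : Type u} [Ring B] {A A' M M' C C' : ℤ → Type v}
  [∀ n, AddCommGroup (A n)] [∀ n, Module B (A n)] [∀ n, AddCommGroup (A' n)] [∀ n, Module B (A' n)]
  [∀ n, AddCommGroup (M n)] [∀ n, Module B (M n)] [∀ n, AddCommGroup (M' n)] [∀ n, Module B (M' n)]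
  [∀ n, AddCommGroup (C n)] [∀ n, Module B (C n)] [∀ n, AddCommGroup (C' n)] [∀ n, Module B (C' n)]

/-- If two out of three maps of short exact sequences of complexes are quasi-isomorphisms, so is the
third one, for the subcomplex. -/
theorem secQI_five (dA : ∀ n, A n →ₗ[B] A (n + 1)) (dA' : ∀ n, A' n →ₗ[B] A' (n + 1))
    (dM : ∀ n, M n →ₗ[B] M (n + 1)) (dM' : ∀ n, M' n →ₗ[B] M' (n + 1))
    (dC : ∀ n, C n →ₗ[B] C (n + 1)) (dC' : ∀ n, C' n →ₗ[B] C' (n + 1))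
    (r : ∀ n, A n →ₗ[B] M n) (r' : ∀ n, A' n →ₗ[B] M' n)
    (s : ∀ n, M n →ₗ[B] C n) (s' : ∀ n, M' n →ₗ[B] C' n)
    (ψA : ∀ n, A n →ₗ[B] A' n) (ψM : ∀ n, M n →ₗ[B] M' n) (ψC : ∀ n, C n →ₗ[B] C' n)
    (dd : ∀ n x, dM (n + 1) (dM n x) = 0) (dd' : ∀ n x, dM' (n + 1) (dM' n x) = 0)
    (rd : ∀ n x, r (n + 1) (dA n x) = dM n (r n x)) (rd' : ∀ n x, r' (n + 1) (dA' n x) = dM' n (r' n x))
    (sd : ∀ n x, s (n + 1) (dM n x) = dC n (s n x)) (sd' : ∀ n x, s' (n + 1) (dM' n x) = dC' n (s' n x))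
    (hr : ∀ n, Function.Injective (r n)) (hr' : ∀ n, Function.Injective (r' n))
    (hex : ∀ n, Function.Exact (r n) (s n)) (hex' : ∀ n, Function.Exact (r' n) (s' n))
    (hs : ∀ n, Function.Surjective (s n)) (hs' : ∀ n, Function.Surjective (s' n))
    (pd : ∀ n x, ψM (n + 1) (dM n x) = dM' n (ψM n x))
    (cr : ∀ n x, r' n (ψA n x) = ψM n (r n x)) (cs : ∀ n x, s' n (ψM n x) = ψC n (s n x))
    (hM : SecQI dM dM' ψM) (hC : SecQI dC dC' ψC) : SecQI dA dA' ψA := by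
  have sr : ∀ n x, s n (r n x) = 0 := fun n x => (hex n _).2 ⟨x, rfl⟩
  have sr' : ∀ n x, s' n (r' n x) = 0 := fun n x => (hex' n _).2 ⟨x, rfl⟩
  refine ⟨fun n y hy => ?_, fun n z w' hz hw' => ?_⟩
  · obtain ⟨k, rfl⟩ : ∃ k, n = k + 1 := ⟨n - 1, by omega⟩
    obtain ⟨z, w, hz, hzw⟩ := hM.1 (k + 1) (r' _ y) (by rw [← rd', hy, map_zero])
    have h0 : dC (k + 1 + 1) (s _ z) = 0 := by rw [← sd, hz, map_zero]
    have h1 : ψC _ (s _ z) = dC' (k + 1) (- s' _ w) := by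
      have := congrArg (s' (k + 1 + 1)) hzw
      rw [sr', map_add, cs, sd'] at this
      rw [map_neg]
      exact eq_neg_of_add_eq_zero_left this.symm
    obtain ⟨c, hc⟩ := hC.2 (k + 1) _ _ h0 h1
    obtain ⟨m, rfl⟩ := hs _ c
    obtain ⟨a, ha⟩ := (hex _ (z - dM _ m)).1 (by rw [map_sub, sd, hc, sub_self])
    have hda : dA (k + 1 + 1) a = 0 := hr _ (by rw [rd, ha, map_sub, hz, dd, sub_zero, map_zero])
    have hcyc : dC' (k + 1) (s' _ (w + ψM _ m)) = 0 := by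
      rw [← sd', map_add (dM' _), ← pd, map_add, cs, sd, hc]
      have := congrArg (s' (k + 1 + 1)) hzw
      rw [sr', map_add, cs] at this

      exact (add_comm _ _).trans this.symm
    obtain ⟨c₀, e, hc₀, he⟩ := hC.1 k _ hcyc
    obtain ⟨m₀, rfl⟩ := hs _ c₀
    obtain ⟨e₁, rfl⟩ := hs' _ e
    obtain ⟨a', ha'⟩ := (hex' _ (w + ψM _ m - ψM _ m₀ - dM' _ e₁)).1 (by
      rw [map_sub, map_sub, he, cs, sd']
      abel)
    obtain ⟨a₀, ha₀⟩ := (hex _ (dM _ m₀)).1 (by rw [sd, hc₀])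
    have hda₀ : dA (k + 1 + 1) a₀ = 0 := hr _ (by rw [rd, ha₀, dd, map_zero])
    refine ⟨a + a₀, a', by rw [map_add, hda, hda₀, add_zero], hr' _ ?_⟩
    rw [map_add (r' _), cr, map_add (r _), map_add (ψM _), rd', ha, ha₀, ha', map_sub (ψM _), pd, pd,
      map_sub (dM' _), map_sub (dM' _), map_add (dM' _), dd', hzw]
    abel
  · obtain ⟨k, rfl⟩ : ∃ k, n = k + 1 := ⟨n - 1, by omega⟩
    obtain ⟨m, hm⟩ := hM.2 (k + 1) (r _ z) (r' _ w') (by rw [← rd, hz, map_zero])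
      (by rw [← cr, hw', rd'])
    have h0 : dC (k + 1) (s _ m) = 0 := by rw [← sd, hm, sr]
    have hcyc : dM' (k + 1) (ψM _ m - r' _ w') = 0 := by
      rw [map_sub, ← pd, hm, ← cr, hw', rd', sub_self]
    obtain ⟨m₁, e, hm₁, hme⟩ := hM.1 k _ hcyc
    have h1 : ψC (k + 1) (s _ m - s _ m₁) = dC' k (s' _ e) := by
      have h := congrArg (s' (k + 1)) hme
      rw [map_sub, sr', sub_zero, map_add, cs, cs, sd'] at h
      rw [map_sub, h]
      abel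
    obtain ⟨c, hc⟩ := hC.2 k _ _ (by rw [map_sub, h0, ← sd, hm₁, map_zero, sub_zero]) h1
    obtain ⟨m₂, rfl⟩ := hs _ c
    obtain ⟨a, ha⟩ := (hex _ (m - m₁ - dM _ m₂)).1 (by rw [map_sub, map_sub, sd, hc, sub_self])
    exact ⟨a, hr _ (by rw [rd, ha, map_sub, map_sub, hm, hm₁, dd, sub_zero, sub_zero])⟩

end Groth.Agent.KFlatLib
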