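import Groth.Agent.KFlatLib.Colim
import Mathlib.Algebra.Homology.ShortComplex.ExactFunctor

/-!
# Single complexes on flat objects, and coproducts of K-flat complexes
-/

set_option linter.style.haveILetI false

universe v u v' u' w w'

open CategoryTheory CategoryTheory.Limits

namespace Groth.Agent.KFlatLib

variable {C : Type u} [Category.{v} C] [Abelian C]

/-- A colimit of acyclic complexes is acyclic when colimits of that shape are exact. -/
lemma acyclic_of_isColimit_of_exact {J : Type w} [Category.{w'} J] [HasColimitsOfShape J C]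
    [HasExactColimitsOfShape J C] {X : J ⥤ CochainComplex C ℤ} {c : Cocone X} (hc : IsColimit c)
    (h : ∀ j, (X.obj j).Acyclic) : c.pt.Acyclic := by
  intro n
  rw [c.pt.exactAt_iff' (n - 1) n (n + 1) (by simp) (by simp)]
  let S : ShortComplex (J ⥤ C) := ShortComplex.mk
    (X₁ := X ⋙ HomologicalComplex.eval C (ComplexShape.up ℤ) (n - 1))
    (X₂ := X ⋙ HomologicalComplex.eval C (ComplexShape.up ℤ) n)
    (X₃ := X ⋙ HomologicalComplex.eval C (ComplexShape.up ℤ) (n + 1))
    { app := fun k => (X.obj k).d (n - 1) n
      naturality := fun _ _ f => (X.map f).comm _ _ }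
    { app := fun k => (X.obj k).d n (n + 1)
      naturality := fun _ _ f => (X.map f).comm _ _ }
    (by ext k; exact HomologicalComplex.d_comp_d _ _ _ _)
  have hS : S.Exact := by
    rw [ShortComplex.exact_iff_isZero_homology]
    refine Functor.isZero _ (fun k => ?_)
    refine IsZero.of_iso ((ShortComplex.exact_iff_isZero_homology _).1 ?_)
      (S.mapHomologyIso ((evaluation _ _).obj k)).symm
    exact ((X.obj k).exactAt_iff' (n - 1) n (n + 1) (by simp) (by simp)).1 (h k n)
  exact colim.exact_mapShortComplex hS
    (isColimitOfPreserves (HomologicalComplex.eval C (ComplexShape.up ℤ) (n - 1)) hc)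
    (isColimitOfPreserves (HomologicalComplex.eval C (ComplexShape.up ℤ) n) hc)
    (isColimitOfPreserves (HomologicalComplex.eval C (ComplexShape.up ℤ) (n + 1)) hc)
    (c.pt.d (n - 1) n) (c.pt.d n (n + 1))
    (fun k => ((c.ι.app k).comm _ _)) (fun k => ((c.ι.app k).comm _ _))

variable [∀ S : Type, HasColimitsOfShape (Discrete S) C]
  {T : C ⥤ C ⥤ C} [T.Additive] [∀ Y, (T.obj Y).Additive]

/-- A coproduct of K-flat complexes is K-flat. -/
lemma kFlat_sigma {ι : Type w} [HasColimitsOfShape (Discrete ι) C]
    [HasExactColimitsOfShape (Discrete ι) C]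
    [∀ Y, PreservesColimitsOfShape (Discrete ι) (T.obj Y)]
    (K : ι → CochainComplex C ℤ) [HasCoproduct K] (h : ∀ i, KFlat T (K i)) : KFlat T (∐ K) :=
  kFlat_iff.2 fun L hL => by
    haveI := preservesColimitsOfShape₂ T (Discrete ι) L
    exact acyclic_of_isColimit_of_exact
      (isColimitOfPreserves (T.map₂CochainComplex.obj L) (coproductIsCoproduct K))
      (fun i => (h i.as).acyclic hL)

section Single

variable (L : CochainComplex C ℤ) (P : C) (j : ℤ)

/-- The summand of `L ⊗ P[-j]` in degree `n`. -/
noncomputable def singleSummand (p n : ℤ) (h : p + j = n) :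
    (T.obj (L.X p)).obj P ⟶ (HomologicalComplex.mapBifunctor L
      ((HomologicalComplex.single C (ComplexShape.up ℤ) j).obj P) T (ComplexShape.up ℤ)).X n :=
  (T.obj (L.X p)).map (HomologicalComplex.singleObjXSelf (ComplexShape.up ℤ) j P).inv ≫
    HomologicalComplex.ιMapBifunctor L _ T (ComplexShape.up ℤ) p j n h

instance isIso_singleSummand (p n : ℤ) (h : p + j = n) :
    IsIso (singleSummand (T := T) L P j p n h) := by
  refine ⟨HomologicalComplex.mapBifunctorDesc (fun p' q' h' =>
    if hq : q' = j then
      (T.obj (L.X p')).map ((eqToHom (by rw [hq]) :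
          ((HomologicalComplex.single C (ComplexShape.up ℤ) j).obj P).X q' ⟶
            ((HomologicalComplex.single C (ComplexShape.up ℤ) j).obj P).X j) ≫
        (HomologicalComplex.singleObjXSelf (ComplexShape.up ℤ) j P).hom) ≫
        eqToHom (by
          change p' + q' = n at h'
          have : p' = p := by omega
          rw [this])
    else 0), ?_, ?_⟩
  · rw [singleSummand, Category.assoc, HomologicalComplex.ι_mapBifunctorDesc, dif_pos rfl,
      eqToHom_refl, Category.id_comp, eqToHom_refl, Category.comp_id, ← Functor.map_comp,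
      Iso.inv_hom_id, CategoryTheory.Functor.map_id]
  · refine HomologicalComplex.mapBifunctor.hom_ext (fun p' q' h' => ?_)
    rw [HomologicalComplex.ι_mapBifunctorDesc_assoc]
    by_cases hq : q' = j
    · subst hq
      have hp : p' = p := by
        change p' + q' = n at h'
        omega
      subst hp
      simp [singleSummand, ← Functor.map_comp_assoc]
    · exact ((T.obj (L.X p')).map_isZero
        (HomologicalComplex.isZero_single_obj_X _ _ _ _ hq)).eq_of_src _ _

lemma singleSummand_d (p p' n n' : ℤ) (h : p + j = n) (h' : p' + j = n') (hp : p + 1 = p') :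
    singleSummand L P j p n h ≫
      (HomologicalComplex.mapBifunctor L
        ((HomologicalComplex.single C (ComplexShape.up ℤ) j).obj P) T (ComplexShape.up ℤ)).d n n' =
    (T.map (L.d p p')).app P ≫ singleSummand L P j p' n' h' := by
  subst hp
  change (_ ≫ _) ≫ (HomologicalComplex.mapBifunctor L _ T (ComplexShape.up ℤ)).d n n' = _
  rw [HomologicalComplex.mapBifunctor.d_eq, Category.assoc, Preadditive.comp_add,
    HomologicalComplex.mapBifunctor.ι_D₁, HomologicalComplex.mapBifunctor.ι_D₂]
  rw [HomologicalComplex.mapBifunctor.d₁_eq _ _ _ _ (show (ComplexShape.up ℤ).Rel p (p + 1) from rfl)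
    j n' h', HomologicalComplex.mapBifunctor.d₂_eq' _ _ _ _ p
      (show (ComplexShape.up ℤ).Rel j (j + 1) from rfl)]
  rw [HomologicalComplex.single_obj_d, Functor.map_zero, zero_comp, smul_zero, add_zero]
  simp [singleSummand]
  all_goals rfl

/-- A flat object in a single degree is K-flat. -/
lemma kFlat_single (hP : FlatObj T P) :
    KFlat T ((HomologicalComplex.single C (ComplexShape.up ℤ) j).obj P) :=
  kFlat_iff.2 fun L hL n => by
    have hex : ∀ S : ShortComplex C, S.Exact → (S.map (T.flip.obj P)).Exact :=
      ((Functor.exact_tfae (T.flip.obj P)).out 0 1).1 hP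
    rw [HomologicalComplex.exactAt_iff' _ (n - 1) n (n + 1) (by simp) (by simp)]
    refine (ShortComplex.exact_iff_of_iso (ShortComplex.isoMk
      (@asIso _ _ _ _ (singleSummand (T := T) L P j (n - 1 - j) (n - 1) (show n - 1 - j + j = n - 1 by omega))
        (isIso_singleSummand L P j _ _ _))
      (@asIso _ _ _ _ (singleSummand (T := T) L P j (n - j) n (show n - j + j = n by omega))
        (isIso_singleSummand L P j _ _ _))
      (@asIso _ _ _ _ (singleSummand (T := T) L P j (n + 1 - j) (n + 1) (show n + 1 - j + j = n + 1 by omega))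
        (isIso_singleSummand L P j _ _ _))
      (singleSummand_d L P j _ _ _ _ _ _ (by omega))
      (singleSummand_d L P j _ _ _ _ _ _ (by omega)))).1
      (hex _ ((L.exactAt_iff' (n - 1 - j) (n - j) (n + 1 - j) (by simp; omega)
        (by simp; omega)).1 (hL (n - j))))

end Single

end Groth.Agent.KFlatLib
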