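import Mathlib.CategoryTheory.Triangulated.Functor
import Mathlib.CategoryTheory.Triangulated.Pretriangulated
import Mathlib.CategoryTheory.Adjunction.FullyFaithful
import Mathlib.CategoryTheory.HomCongr

/-!
# Full faithfulness tested on a spanning class
-/

universe v v' u u'

open CategoryTheory CategoryTheory.Limits CategoryTheory.Pretriangulated

namespace Groth.Agent.KFlatLib.Spanning

variable {D : Type u} [Category.{v} D] [Preadditive D] [HasZeroObject D] [HasShift D ℤ]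
    [∀ n : ℤ, (shiftFunctor D n).Additive] [Pretriangulated D]
    {D' : Type u'} [Category.{v'} D'] [HasShift D' ℤ]
    (F : D ⥤ D') [F.CommShift ℤ]

/-- Bijectivity of `F.map` is invariant under shifting both objects. -/
lemma bijective_map_of_shift {X Y : D} (n : ℤ)
    (h : Function.Bijective (fun f : X⟦n⟧ ⟶ Y⟦n⟧ => F.map f)) :
    Function.Bijective (fun f : X ⟶ Y => F.map f) := by
  have e : ∀ f : X ⟶ Y, (F.map f)⟦n⟧' =
      (F.commShiftIso n).inv.app X ≫ F.map (f⟦n⟧') ≫ (F.commShiftIso n).hom.app Y := fun f => by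
    rw [← Iso.app_hom, ← Iso.app_inv]
    exact ((Iso.inv_comp_eq _).2 ((F.commShiftIso n).hom.naturality f)).symm
  refine ⟨fun f g hfg => (shiftFunctor D n).map_injective (h.1 ?_), fun φ => ?_⟩
  · have := congrArg (fun k => k⟦n⟧') hfg
    dsimp only at this ⊢
    rw [e f, e g] at this
    exact (cancel_mono _).1 ((cancel_epi _).1 this)
  · obtain ⟨g, hg⟩ := h.2 ((F.commShiftIso n).hom.app X ≫ φ⟦n⟧' ≫ (F.commShiftIso n).inv.app Y)
    obtain ⟨f, rfl⟩ := (shiftFunctor D n).map_surjective g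
    refine ⟨f, (shiftFunctor D' n).map_injective ((e f).trans ?_)⟩
    simp only at hg
    rw [hg]
    simp

variable (S : Set D)

/-- From the hypothesis on the spanning class. -/
lemma bijective_map_shift
    (h4 : ∀ E ∈ S, ∀ E' ∈ S, ∀ i : ℤ,
      Function.Bijective (fun f : E ⟶ (shiftFunctor D i).obj E' => F.map f))
    {E E' : D} (hE : E ∈ S) (hE' : E' ∈ S) (j i : ℤ) :
    Function.Bijective (fun f : E⟦j⟧ ⟶ E'⟦i⟧ => F.map f) := by
  apply bijective_map_of_shift F (-j)
  let a : (E⟦j⟧)⟦-j⟧ ≅ E := (shiftShiftNeg E j)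
  let b : (E'⟦i⟧)⟦-j⟧ ≅ E'⟦i + -j⟧ := ((shiftFunctorAdd D i (-j)).app E').symm
  have key : (fun f : (E⟦j⟧)⟦-j⟧ ⟶ (E'⟦i⟧)⟦-j⟧ => F.map f) =
      (Iso.homCongr (F.mapIso a) (F.mapIso b)).symm ∘ (fun f : E ⟶ E'⟦i + -j⟧ => F.map f) ∘
        Iso.homCongr a b := by
    funext f
    simp
  rw [key]
  exact (Equiv.bijective _).comp ((h4 E hE E' hE' _).comp (Equiv.bijective _))

/-- Full faithfulness tested on a spanning class. -/
lemma full_faithful {G : D' ⥤ D} {H : D' ⥤ D} (adjG : G ⊣ F) (adjH : F ⊣ H)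
    (h2 : ∀ K : D, (∀ E ∈ S, ∀ (i : ℤ) (f : E ⟶ (shiftFunctor D i).obj K), f = 0) → IsZero K)
    (h3 : ∀ K : D, (∀ E ∈ S, ∀ (i : ℤ) (f : K ⟶ (shiftFunctor D i).obj E), f = 0) → IsZero K)
    (h4 : ∀ E ∈ S, ∀ E' ∈ S, ∀ i : ℤ,
      Function.Bijective (fun f : E ⟶ (shiftFunctor D i).obj E' => F.map f)) :
    F.Full ∧ F.Faithful := by
  have unit_iso : ∀ E ∈ S, ∀ i : ℤ, IsIso (adjH.unit.app (E⟦i⟧)) := by
    intro E hE i
    obtain ⟨C, p, d, hT⟩ := distinguished_cocone_triangle (adjH.unit.app (E⟦i⟧))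
    refine (Triangle.isZero₃_iff_isIso₁ _ hT).1 (h2 C fun E' hE' j f => ?_)
    have bij : ∀ k : ℤ, Function.Bijective
        (fun g : E'⟦k⟧ ⟶ E⟦i⟧ => g ≫ adjH.unit.app (E⟦i⟧)) := fun k => by
      have : (fun g : E'⟦k⟧ ⟶ E⟦i⟧ => g ≫ adjH.unit.app (E⟦i⟧)) =
          adjH.homEquiv _ _ ∘ (fun g => F.map g) := by
        funext g
        simp only [Function.comp_apply, Adjunction.homEquiv_unit]
        exact adjH.unit.naturality g
      rw [this]
      exact (Equiv.bijective _).comp (bijective_map_shift F S h4 hE' hE k i)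
    let g : E'⟦-j⟧ ⟶ C := f⟦-j⟧' ≫ (shiftShiftNeg C j).hom
    suffices g = 0 by
      apply (shiftFunctor D (-j)).map_injective
      rw [Functor.map_zero, ← cancel_mono (shiftShiftNeg C j).hom, zero_comp]
      exact this
    have hg : g ≫ d = 0 := by
      let c : E'⟦-j⟧ ≅ (E'⟦-j - 1⟧)⟦(1 : ℤ)⟧ :=
        (shiftFunctorAdd' D (-j - 1) 1 (-j) (by omega)).app E'
      obtain ⟨g'', hg''⟩ := (shiftFunctor D (1 : ℤ)).map_surjective (c.inv ≫ g ≫ d)
      have hd : d ≫ (adjH.unit.app (E⟦i⟧))⟦(1 : ℤ)⟧' = 0 := comp_distTriang_mor_zero₃₁ _ hT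
      have : g'' = 0 := (bij _).1 ((shiftFunctor D (1 : ℤ)).map_injective
        (((shiftFunctor D (1 : ℤ)).map_comp g'' _).trans
          ((congrArg (· ≫ (shiftFunctor D (1 : ℤ)).map (adjH.unit.app (E⟦i⟧))) hg'').trans
            (((Category.assoc _ _ _).trans ((congrArg (c.inv ≫ ·) ((Category.assoc _ _ _).trans
              ((congrArg (g ≫ ·) hd).trans comp_zero))).trans comp_zero)).trans
              ((congrArg (shiftFunctor D (1 : ℤ)).map zero_comp).trans
                ((shiftFunctor D (1 : ℤ)).map_zero _ _)).symm))))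
      subst this
      rw [Functor.map_zero] at hg''
      exact (cancel_epi c.inv).1 (hg''.symm.trans comp_zero.symm)
    obtain ⟨g', hg'⟩ := Triangle.coyoneda_exact₃ _ hT g hg
    obtain ⟨g'', rfl⟩ := (bij _).2 g'
    exact hg'.trans ((Category.assoc _ _ _).trans (by
      erw [comp_distTriang_mor_zero₁₂ _ hT, comp_zero] <;> rfl))
  have map_bij : ∀ (X : D), ∀ E ∈ S, ∀ i : ℤ,
      Function.Bijective (fun g : X ⟶ E⟦i⟧ => F.map g) := fun X E hE i => by
    haveI := unit_iso E hE i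
    have : (fun g : X ⟶ E⟦i⟧ => F.map g) =
        (adjH.homEquiv _ _).symm ∘ (fun g => g ≫ adjH.unit.app (E⟦i⟧)) := by
      funext g
      refine ((Equiv.symm_apply_eq _).2 ?_).symm
      simp only [Adjunction.homEquiv_unit]
      exact adjH.unit.naturality g
    rw [this]
    exact (Equiv.bijective _).comp ((show (fun g : X ⟶ E⟦i⟧ => g ≫ adjH.unit.app (E⟦i⟧)) =
      (Iso.refl X).homCongr (asIso (adjH.unit.app (E⟦i⟧))) by funext g; simp) ▸ Equiv.bijective _)
  haveI : ∀ K : D, IsIso (adjG.counit.app K) := by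
    intro K
    obtain ⟨C, p, d, hT⟩ := distinguished_cocone_triangle (adjG.counit.app K)
    refine (Triangle.isZero₃_iff_isIso₁ _ hT).1 (h3 C fun E hE i f => ?_)
    have bij : ∀ k : ℤ, Function.Bijective
        (fun g : K ⟶ E⟦k⟧ => adjG.counit.app K ≫ g) := fun k => by
      have : (fun g : K ⟶ E⟦k⟧ => adjG.counit.app K ≫ g) =
          (adjG.homEquiv _ _).symm ∘ (fun g => F.map g) := by
        funext g
        simp only [Function.comp_apply, Adjunction.homEquiv_counit]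
        exact (adjG.counit.naturality g).symm
      rw [this]
      exact (Equiv.bijective _).comp (map_bij K E hE k)
    have hp : p ≫ f = 0 := (bij i).1 (by
      simp only [comp_zero]
      rw [← Category.assoc]
      erw [comp_distTriang_mor_zero₁₂ _ hT, zero_comp])
    obtain ⟨h, rfl⟩ := Triangle.yoneda_exact₃ _ hT f hp
    let c : E⟦i⟧ ≅ (E⟦i - 1⟧)⟦(1 : ℤ)⟧ := (shiftFunctorAdd' D (i - 1) 1 i (by omega)).app E
    obtain ⟨h', hh'⟩ := (shiftFunctor D (1 : ℤ)).map_surjective (h ≫ c.hom)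
    obtain ⟨h'', rfl⟩ := (bij _).2 h'
    have hd : d ≫ (adjG.counit.app K)⟦(1 : ℤ)⟧' = 0 := comp_distTriang_mor_zero₃₁ _ hT
    refine (cancel_mono c.hom).1 ((Category.assoc _ _ _).trans ((?_ : _ = _).trans zero_comp.symm))
    erw [← hh', Functor.map_comp, ← Category.assoc, hd, zero_comp]
  haveI : IsIso adjG.counit := NatIso.isIso_of_isIso_app _
  let ff := adjG.fullyFaithfulROfIsIsoCounit
  exact ⟨ff.full, ff.faithful⟩

end Groth.Agent.KFlatLib.Spanning
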