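import Groth.Agent.KFlatLib.Bifunctor
import Groth.Agent.KFlatLib.Scheme.TildeD
import Mathlib.Algebra.Homology.HomotopyCategory.KInjective

/-!
# Degreewise split extensions: tensor products and K-injectivity
-/

set_option linter.style.haveILetI false

universe v u v' u' v'' u''

open CategoryTheory CategoryTheory.Limits

namespace Groth.Agent.KFlatLib

section Tensor

variable {C₁ : Type u} [Category.{v} C₁] [Preadditive C₁]
  {C₂ : Type u'} [Category.{v'} C₂] [Preadditive C₂]
  {D : Type u''} [Category.{v''} D] [Abelian D] [∀ S : Type, HasColimitsOfShape (Discrete S) D]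
  (T : C₁ ⥤ C₂ ⥤ D) [T.Additive] [∀ X, (T.obj X).Additive]

/-- Tensoring preserves degreewise split sequences. -/
theorem nonempty_splitting_map₂ (L : CochainComplex C₁ ℤ) (S : ShortComplex (CochainComplex C₂ ℤ))
    (hS : ∀ n, Nonempty (S.map (HomologicalComplex.eval _ _ n)).Splitting) (n : ℤ) :
    Nonempty ((S.map (T.map₂CochainComplex.obj L)).map (HomologicalComplex.eval _ _ n)).Splitting := by
  let σ := fun q => (hS q).some
  let r : ∀ q, S.X₂.X q ⟶ S.X₁.X q := fun q => (σ q).r
  let s : ∀ q, S.X₃.X q ⟶ S.X₂.X q := fun q => (σ q).s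
  have hfr : ∀ q, S.f.f q ≫ r q = 𝟙 _ := fun q => (σ q).f_r
  have hsg : ∀ q, s q ≫ S.g.f q = 𝟙 _ := fun q => (σ q).s_g
  have hid : ∀ q, r q ≫ S.f.f q + S.g.f q ≫ s q = 𝟙 _ := fun q => (σ q).id
  refine ⟨⟨HomologicalComplex.mapBifunctorDesc (fun p q h => (T.obj (L.X p)).map (r q) ≫
      HomologicalComplex.ιMapBifunctor L S.X₁ T (ComplexShape.up ℤ) p q n h),
    HomologicalComplex.mapBifunctorDesc (fun p q h => (T.obj (L.X p)).map (s q) ≫
      HomologicalComplex.ιMapBifunctor L S.X₂ T (ComplexShape.up ℤ) p q n h), ?_, ?_, ?_⟩⟩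
  · refine HomologicalComplex.mapBifunctor.hom_ext (fun p q h => ?_)
    erw [HomologicalComplex.ι_mapBifunctorMap_assoc, Category.comp_id]
    simp only [HomologicalComplex.id_f, CategoryTheory.Functor.map_id, NatTrans.id_app]
    erw [Category.id_comp, HomologicalComplex.ι_mapBifunctorDesc, ← Functor.map_comp_assoc]
    have h' := hfr q
    erw [h', CategoryTheory.Functor.map_id, Category.id_comp]
  · refine HomologicalComplex.mapBifunctor.hom_ext (fun p q h => ?_)
    erw [HomologicalComplex.ι_mapBifunctorDesc_assoc, Category.comp_id, Category.assoc,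
      HomologicalComplex.ι_mapBifunctorMap]
    simp only [HomologicalComplex.id_f, CategoryTheory.Functor.map_id, NatTrans.id_app]
    erw [Category.id_comp, ← Functor.map_comp_assoc]
    have h' := hsg q
    erw [h', CategoryTheory.Functor.map_id, Category.id_comp]
  · refine HomologicalComplex.mapBifunctor.hom_ext (fun p q h => ?_)
    erw [Category.comp_id, Preadditive.comp_add, HomologicalComplex.ι_mapBifunctorDesc_assoc,
      HomologicalComplex.ι_mapBifunctorMap_assoc, Category.assoc, HomologicalComplex.ι_mapBifunctorMap]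
    simp only [HomologicalComplex.id_f, CategoryTheory.Functor.map_id, NatTrans.id_app]
    erw [Category.id_comp, Category.id_comp, HomologicalComplex.ι_mapBifunctorDesc,
      ← Functor.map_comp_assoc, ← Functor.map_comp_assoc, ← Preadditive.add_comp, ← Functor.map_add]
    have h' := hid q
    erw [h', CategoryTheory.Functor.map_id, Category.id_comp]

end Tensor

section KInj

variable {C : Type u} [Category.{v} C] [Abelian C]

/-- K-injectivity is stable under degreewise split extensions. -/
theorem isKInjective_of_split (S : ShortComplex (CochainComplex C ℤ))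
    (hS : ∀ n, Nonempty (S.map (HomologicalComplex.eval _ _ n)).Splitting)
    (h₁ : S.X₁.IsKInjective) (h₃ : S.X₃.IsKInjective) : S.X₂.IsKInjective where
  nonempty_homotopy_zero {Z} g hZ := by
    let s : ∀ q, S.X₃.X q ⟶ S.X₂.X q := fun q => ((hS q).some).s
    have hsg : ∀ q, s q ≫ S.g.f q = 𝟙 _ := fun q => ((hS q).some).s_g
    obtain ⟨h⟩ := CochainComplex.IsKInjective.nonempty_homotopy_zero (g ≫ S.g) hZ
    let k : ∀ i j, Z.X i ⟶ S.X₂.X j := fun i j => h.hom i j ≫ s j
    have hk0 : ∀ i j, ¬ (ComplexShape.up ℤ).Rel j i → k i j = 0 := fun i j hij => by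
      simp only [k, h.zero i j hij, zero_comp]
    have hg : (g - Homotopy.nullHomotopicMap k) ≫ S.g = 0 := by
      rw [Preadditive.sub_comp, Homotopy.nullHomotopicMap_comp, sub_eq_zero]
      ext n
      have hks : (fun i j => k i j ≫ S.g.f j) = h.hom := by
        funext i j
        simp only [k, Category.assoc, hsg, Category.comp_id]
      rw [hks, h.comm n]
      simp [Homotopy.nullHomotopicMap]
    have hse : S.ShortExact := HomologicalComplex.shortExact_of_degreewise_shortExact S
      fun n => (hS n).some.shortExact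
    haveI := hse.mono_f
    obtain ⟨g₁, hg₁⟩ : ∃ g₁ : Z ⟶ S.X₁, g₁ ≫ S.f = g - Homotopy.nullHomotopicMap k :=
      ⟨hse.exact.lift _ hg, hse.exact.lift_f _ hg⟩
    obtain ⟨h₁'⟩ := h₁.nonempty_homotopy_zero g₁ hZ
    have hh : Homotopy (g - Homotopy.nullHomotopicMap k) 0 :=
      (Homotopy.ofEq hg₁.symm).trans ((h₁'.compRight S.f).trans (Homotopy.ofEq zero_comp))
    exact ⟨(Homotopy.ofEq (sub_add_cancel g (Homotopy.nullHomotopicMap k)).symm).trans
      ((hh.add (Homotopy.nullHomotopy k hk0)).trans (Homotopy.ofEq (add_zero _)))⟩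

attribute [local instance] HasDerivedCategory.standard

/-- A quasi-isomorphism of K-injective complexes is a homotopy equivalence. -/
theorem nonempty_homotopyEquiv_of_quasiIso {A B : CochainComplex C ℤ} (g : A ⟶ B) [QuasiIso g]
    [A.IsKInjective] [B.IsKInjective] : ∃ e : HomotopyEquiv A B, e.hom = g := by
  haveI : IsIso (DerivedCategory.Q.map g) := (DerivedCategory.isIso_Q_map_iff_quasiIso (C := C) g).2 inferInstance
  obtain ⟨g', hg'⟩ := exists_Q_map (inv (DerivedCategory.Q.map g))
  exact ⟨{ hom := g
           inv := g'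
           homotopyHomInvId := (homotopy_of_Q_map_eq _ _ (by
             rw [Functor.map_comp, hg', IsIso.hom_inv_id, CategoryTheory.Functor.map_id])).some
           homotopyInvHomId := (homotopy_of_Q_map_eq _ _ (by
             rw [Functor.map_comp, hg', IsIso.inv_hom_id, CategoryTheory.Functor.map_id])).some }, rfl⟩

end KInj

end Groth.Agent.KFlatLib
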