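import Groth.Agent.KFlatLib.Single
import Mathlib.Algebra.Homology.ShortComplex.HomologicalComplex

/-!
# One step of the functorial flat resolution

For `f : Q ⟶ K`, the cone of a map to `Q` from a complex with zero differential which covers the
cycles of the cone of `f`.
-/

set_option linter.style.haveILetI false

universe v u

open CategoryTheory CategoryTheory.Limits CochainComplex CochainComplex.HomComplex

namespace Groth.Agent.KFlatLib

variable {C : Type u} [Category.{v} C] [Abelian C]

/-- The complex with given terms and zero differential. -/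
noncomputable def zeroCx (A : ℤ → C) : CochainComplex C ℤ where
  X := A
  d _ _ := 0
  shape _ _ _ := rfl
  d_comp_d' _ _ _ _ _ := by simp

/-- A map out of a complex with zero differential. -/
noncomputable def zeroCxDesc {A : ℤ → C} {K : CochainComplex C ℤ} (φ : ∀ m, A m ⟶ K.X m)
    (h : ∀ m, φ m ≫ K.d m (m + 1) = 0) : zeroCx A ⟶ K where
  f := φ
  comm' i j hij := by
    obtain rfl : i + 1 = j := hij
    simp [zeroCx, h]

/-- A map between complexes with zero differential. -/
noncomputable def zeroCxMap {A B : ℤ → C} (φ : ∀ m, A m ⟶ B m) : zeroCx A ⟶ zeroCx B where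
  f := φ
  comm' _ _ _ := by simp [zeroCx]

variable {G : C ⥤ C} (π : G ⟶ 𝟭 C)

section

variable {Q K : CochainComplex C ℤ} (f : Q ⟶ K)

/-- The generators of the step. -/
noncomputable abbrev gen (m : ℤ) : C := G.obj ((mappingCone f).cycles (m - 1))

/-- The generator in degree `m`, as a cycle of the cone in degree `m - 1`. -/
noncomputable def genι (m p : ℤ) (h : p + 1 = m) : gen (G := G) f m ⟶ (mappingCone f).X p :=
  π.app _ ≫ (mappingCone f).iCycles (m - 1) ≫
    ((mappingCone f).XIsoOfEq (show m - 1 = p by omega)).hom

lemma genι_d (m p p' : ℤ) (h : p + 1 = m) : genι π f m p h ≫ (mappingCone f).d p p' = 0 := by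
  obtain rfl : m - 1 = p := by omega
  simp [genι]

/-- The map from the generators to `Q`. -/
noncomputable def genMap : zeroCx (gen (G := G) f) ⟶ Q :=
  zeroCxDesc (fun m => genι π f m (m - 1) (by omega) ≫
      (mappingCone.fst f).1.v (m - 1) m (by omega))
    (fun m => by
      have h := mappingCone.d_fst_v f (m - 1) m (m + 1) (by omega) rfl
      rw [Category.assoc]
      have : (mappingCone.fst f).1.v (m - 1) m (by omega) ≫ Q.d m (m + 1) =
          -((mappingCone f).d (m - 1) m ≫ (mappingCone.fst f).1.v m (m + 1) rfl) := by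
        rw [h]; simp
      rw [this, Preadditive.comp_neg, ← Category.assoc, genι_d, zero_comp, neg_zero])

/-- The homotopy from `genMap ≫ f` to zero. -/
noncomputable def genHtpy : Cochain (zeroCx (gen (G := G) f)) K (-1) :=
  Cochain.mk fun p q h =>
    -(genι π f p q (by omega) ≫ (mappingCone.snd f).v q q (add_zero q))

lemma δ_genHtpy : δ (-1) 0 (genHtpy π f) = Cochain.ofHom (genMap π f ≫ f) := by
  ext m
  rw [δ_v (-1) 0 rfl _ m m (add_zero m) (m - 1) (m + 1) (by omega) (by omega), Cochain.ofHom_v]
  simp only [genHtpy, Cochain.mk_v]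
  have h := mappingCone.d_snd_v f (m - 1) m (by omega)
  have h' : genι π f m (m - 1) (by omega) ≫ (mappingCone f).d (m - 1) m ≫
      (mappingCone.snd f).v m m (add_zero m) = 0 := by
    rw [← Category.assoc, genι_d, zero_comp]
  rw [h, Preadditive.comp_add] at h'
  simp only [genMap, zeroCxDesc, zeroCx, HomologicalComplex.comp_f, Category.assoc, zero_comp,
    Preadditive.neg_comp]
  refine Eq.trans ?_ (eq_neg_of_add_eq_zero_left h').symm
  exact add_eq_left.2 (smul_zero _)

/-- The complex of the step. -/
noncomputable abbrev stepQ : CochainComplex C ℤ := mappingCone (genMap π f)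

/-- The map of the step. -/
noncomputable def stepF : stepQ π f ⟶ K :=
  mappingCone.desc (genMap π f) (genHtpy π f) f (δ_genHtpy π f)

@[reassoc (attr := simp)]
lemma inr_stepF : mappingCone.inr (genMap π f) ≫ stepF π f = f := by simp [stepF]

/-- The map between the cones. -/
noncomputable def coneStep : mappingCone f ⟶ mappingCone (stepF π f) :=
  mappingCone.map f (stepF π f) (mappingCone.inr (genMap π f)) (𝟙 K) (by simp)

lemma genι_coneStep (n : ℤ) :
    genι π f (n + 1) n rfl ≫ (coneStep π f).f n =
      (-((mappingCone.inl (genMap π f)).v (n + 1) n (by omega) ≫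
        (mappingCone.inl (stepF π f)).v n (n - 1) (by omega))) ≫
          (mappingCone (stepF π f)).d (n - 1) n := by
  have hd : (coneStep π f).f n =
      (mappingCone.fst f).1.v n (n + 1) rfl ≫ (mappingCone.inr (genMap π f)).f (n + 1) ≫
          (mappingCone.inl (stepF π f)).v (n + 1) n (by omega) +
        (mappingCone.snd f).v n n (add_zero n) ≫ (mappingCone.inr (stepF π f)).f n := by
    rw [coneStep, mappingCone.map, mappingCone.desc_f _ _ _ _ n (n + 1) rfl]
    simp
  rw [hd, Preadditive.neg_comp, Category.assoc,
    mappingCone.inl_v_d (stepF π f) n (n - 1) (n + 1) (by omega) (by omega),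
    Preadditive.comp_sub, ← Category.assoc, ← Category.assoc, stepF, mappingCone.inl_v_desc_f,
    ← stepF]
  erw [mappingCone.inl_v_d_assoc (genMap π f) (n + 1) n (n + 1 + 1) (by omega) (by omega)]
  simp only [genHtpy, Cochain.mk_v, zeroCx, zero_comp, sub_zero, Category.assoc,
    Preadditive.neg_comp, Preadditive.comp_add, Preadditive.comp_neg]
  have e : (genMap π f).f (n + 1) = genι π f (n + 1) n rfl ≫
      (mappingCone.fst f).1.v n (n + 1) rfl := by
    have key : ∀ (p : ℤ) (hp : p + 1 = n + 1), genι π f (n + 1) p hp ≫
        (mappingCone.fst f).1.v p (n + 1) hp =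
          genι π f (n + 1) n rfl ≫ (mappingCone.fst f).1.v n (n + 1) rfl := by
      intro p hp
      obtain rfl : p = n := by omega
      rfl
    exact key _ (by omega)
  rw [e]
  simp only [Category.assoc]
  erw [sub_zero]
  refine Eq.trans ?_ (neg_sub _ _).symm
  refine Eq.trans ?_ (sub_neg_eq_add _ _).symm
  congr 1
  exact ((Category.assoc _ _ _).trans (congrArg _ (Category.assoc _ _ _))).symm

variable [∀ X, Epi (π.app X)]

/-- The step kills the homology of the cone. -/
lemma homologyMap_coneStep (n : ℤ) :
    HomologicalComplex.homologyMap (coneStep π f) n = 0 := by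
  have hp : ∀ m : ℤ, HomologicalComplex.cyclesMap (coneStep π f) (m - 1) ≫
      (mappingCone (stepF π f)).homologyπ (m - 1) = 0 := by
    intro m
    rw [← cancel_epi (π.app ((mappingCone f).cycles (m - 1))), comp_zero]
    have hn : π.app ((mappingCone f).cycles (m - 1)) ≫ (mappingCone f).iCycles (m - 1) ≫ (coneStep π f).f (m - 1) =
        genι π f m (m - 1) (by omega) ≫ (coneStep π f).f (m - 1) := by
      simp [genι]
    obtain ⟨u, hu⟩ : ∃ u, genι π f m (m - 1) (by omega) ≫ (coneStep π f).f (m - 1) =
        u ≫ (mappingCone (stepF π f)).d (m - 1 - 1) (m - 1) := by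
      have key : ∀ (k q : ℤ) (hk : q + 1 = k), ∃ u, genι π f k q hk ≫ (coneStep π f).f q =
          u ≫ (mappingCone (stepF π f)).d (q - 1) q := by
        intro k q hk
        subst hk
        exact ⟨_, genι_coneStep π f q⟩
      exact key m (m - 1) (by omega)
    have h0 := (mappingCone (stepF π f)).liftCycles_homologyπ_eq_zero_of_boundary
      (i := m - 1) (π.app ((mappingCone f).cycles (m - 1)) ≫ (mappingCone f).iCycles (m - 1) ≫ (coneStep π f).f (m - 1))
      m (by simp) u (hn.trans hu)
    refine Eq.trans ?_ h0
    rw [← Category.assoc]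
    congr 1
    rw [← cancel_mono ((mappingCone (stepF π f)).iCycles (m - 1))]
    simp
  have := hp (n + 1)
  rw [show n + 1 - 1 = n by omega] at this
  rw [← cancel_epi ((mappingCone f).homologyπ n), HomologicalComplex.homologyπ_naturality,
    this, comp_zero]

end

section Functoriality

variable {Q K Q' K' : CochainComplex C ℤ} (f : Q ⟶ K) (f' : Q' ⟶ K') (a : Q ⟶ Q') (g : K ⟶ K')
  (w : f ≫ g = a ≫ f')

/-- The map of generators, in one degree. -/
noncomputable def genFunF (m : ℤ) : gen (G := G) f m ⟶ gen (G := G) f' m :=
  G.map (HomologicalComplex.cyclesMap (mappingCone.map f f' a g w) (m - 1))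

/-- The map of generators. -/
noncomputable def genFun : zeroCx (gen (G := G) f) ⟶ zeroCx (gen (G := G) f') :=
  zeroCxMap (genFunF f f' a g w)

lemma genι_naturality (m p : ℤ) (h : p + 1 = m) :
    genFunF (G := G) f f' a g w m ≫ genι π f' m p h =
      genι π f m p h ≫ (mappingCone.map f f' a g w).f p := by
  obtain rfl : m - 1 = p := by omega
  simp only [genι, genFunF, HomologicalComplex.XIsoOfEq_rfl, Iso.refl_hom, Category.comp_id]
  have := π.naturality (HomologicalComplex.cyclesMap (mappingCone.map f f' a g w) (m - 1))
  dsimp at this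
  erw [reassoc_of% this]
  rw [Category.assoc]
  erw [HomologicalComplex.cyclesMap_i]

lemma map_fst_v (p q : ℤ) (h : p + 1 = q) :
    (mappingCone.map f f' a g w).f p ≫ (mappingCone.fst f').1.v p q h =
      (mappingCone.fst f).1.v p q h ≫ a.f q := by
  simp [mappingCone.map, mappingCone.desc_f _ _ _ _ p q h]

lemma map_snd_v (p : ℤ) :
    (mappingCone.map f f' a g w).f p ≫ (mappingCone.snd f').v p p (add_zero p) =
      (mappingCone.snd f).v p p (add_zero p) ≫ g.f p := by
  simp [mappingCone.map, mappingCone.desc_f _ _ _ _ p (p + 1) rfl]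

lemma genMap_naturality : genMap π f ≫ a = genFun f f' a g w ≫ genMap π f' := by
  ext m
  change (genι π f m (m - 1) (by omega) ≫ (mappingCone.fst f).1.v (m - 1) m (by omega)) ≫ a.f m =
    genFunF f f' a g w m ≫ (genι π f' m (m - 1) (by omega) ≫
      (mappingCone.fst f').1.v (m - 1) m (by omega))
  rw [← Category.assoc (genFunF f f' a g w m), genι_naturality, Category.assoc, Category.assoc,
    map_fst_v]

/-- The map between the steps. -/
noncomputable def stepMap : stepQ π f ⟶ stepQ π f' :=
  mappingCone.map (genMap π f) (genMap π f') (genFun f f' a g w) a (genMap_naturality π f f' a g w)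

lemma genHtpy_naturality (p : ℤ) :
    genFunF f f' a g w (p + 1) ≫ (genHtpy π f').v (p + 1) p (by omega) =
      (genHtpy π f).v (p + 1) p (by omega) ≫ g.f p := by
  change genFunF f f' a g w (p + 1) ≫
      (-(genι π f' (p + 1) p rfl ≫ (mappingCone.snd f').v p p (add_zero p))) =
    (-(genι π f (p + 1) p rfl ≫ (mappingCone.snd f).v p p (add_zero p))) ≫ g.f p
  rw [Preadditive.comp_neg, Preadditive.neg_comp, ← Category.assoc, genι_naturality,
    Category.assoc, Category.assoc, map_snd_v]

lemma stepMap_stepF : stepMap π f f' a g w ≫ stepF π f' = stepF π f ≫ g := by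
  ext p
  rw [mappingCone.ext_from_iff _ (p + 1) p rfl]
  refine ⟨?_, ?_⟩
  · simp only [HomologicalComplex.comp_f, stepMap, mappingCone.map, stepF,
      mappingCone.inl_v_desc_f_assoc, Cochain.zero_cochain_comp_v, Cochain.ofHom_v,
      Category.assoc, mappingCone.inl_v_desc_f]
    exact genHtpy_naturality π f f' a g w p
  · simp only [HomologicalComplex.comp_f, stepMap, mappingCone.map, stepF,
      mappingCone.inr_f_desc_f_assoc, Category.assoc, mappingCone.inr_f_desc_f]
    rw [← HomologicalComplex.comp_f, ← HomologicalComplex.comp_f, w]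

end Functoriality

end Groth.Agent.KFlatLib
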